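import Cfsg.Agent.Lib.SmallOrder.Options
import Cfsg.Agent.Lib.SmallOrder.SingularCount

/-!
Counting tools for excluding small orders of simple groups: normaliser data of a Sylow subgroup of prime order,
elements moving a Sylow subgroup which they normalise, Sylow subgroups inside a given subgroup.
-/

set_option autoImplicit false

namespace CfsgLib.SmallSimple

open Subgroup MulAction CfsgLib.SmallOrder Pointwise

variable {G : Type*} [Group G] [Finite G]

/-- Three pairwise disjoint sets avoiding the identity have fewer elements than the group. -/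
theorem three_ncard_lt {A B C : Set G} (hA : (1 : G) ∉ A) (hB : (1 : G) ∉ B) (hC : (1 : G) ∉ C)
    (hAB : Disjoint A B) (hAC : Disjoint A C) (hBC : Disjoint B C) :
    A.ncard + B.ncard + C.ncard < Nat.card G := by
  rw [← Set.ncard_union_eq hAB, ← Set.ncard_union_eq (hAC.union_left hBC), ← Set.ncard_univ]
  refine Set.ncard_lt_ncard (Set.ssubset_univ_iff.2 fun h => ?_)
  rcases (h ▸ Set.mem_univ (1 : G) : (1 : G) ∈ A ∪ B ∪ C) with (h1 | h1) | h1
  exacts [hA h1, hB h1, hC h1]

/-- Four pairwise disjoint sets avoiding the identity have fewer elements than the group. -/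
theorem four_ncard_lt {A B C D : Set G} (hA : (1 : G) ∉ A) (hB : (1 : G) ∉ B) (hC : (1 : G) ∉ C)
    (hD : (1 : G) ∉ D) (hAB : Disjoint A B) (hAC : Disjoint A C) (hBC : Disjoint B C)
    (hAD : Disjoint A D) (hBD : Disjoint B D) (hCD : Disjoint C D) :
    A.ncard + B.ncard + C.ncard + D.ncard < Nat.card G := by
  rw [← Set.ncard_union_eq hAB]
  exact three_ncard_lt (fun h => h.elim hA hB) hC hD (hAC.union_left hBC) (hAD.union_left hBD) hCD

variable {p : ℕ} [Fact p.Prime]

omit [Finite G] in
theorem one_notMem_singular : (1 : G) ∉ {g : G | p ∣ orderOf g} := fun h => by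
  rw [Set.mem_ofPred_eq, orderOf_one] at h
  exact (Fact.out : p.Prime).not_dvd_one h

/-- Two kinds of singular elements are disjoint when the centraliser part avoids the second prime. -/
theorem disjoint_singular (hd : p ∣ Nat.card G) (h2 : ¬ p ^ 2 ∣ Nat.card G) {q : ℕ} (hq : q.Prime)
    (hqp : q ≠ p) (h : ¬ q ∣ cPart p G) :
    Disjoint {g : G | p ∣ orderOf g} {g : G | q ∣ orderOf g} :=
  Set.disjoint_left.2 fun _ hgp hgq => h (dvd_cPart_of_dvd_orderOf hd h2 hq hqp hgp hgq)

omit [Finite G] [Fact p.Prime] in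
/-- Singular elements are disjoint from elements of order dividing a number prime to `p`. -/
theorem disjoint_singular_dvd {k : ℕ} (hpk : ¬ p ∣ k) :
    Disjoint {g : G | p ∣ orderOf g} {g : G | g ≠ 1 ∧ orderOf g ∣ k} :=
  Set.disjoint_left.2 fun _ hgp hg => hpk (hgp.trans hg.2)

/-- The centraliser part, read off from the order of one centraliser. -/
theorem cPart_eq (hd : p ∣ Nat.card G) (h2 : ¬ p ^ 2 ∣ Nat.card G) (P : Sylow p G) {c : ℕ}
    (hC : Nat.card ↥(centralizer ((P : Subgroup G) : Set G)) = p * c) : cPart p G = c :=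
  Nat.eq_of_mul_eq_mul_left (Fact.out : p.Prime).pos ((card_centralizer_sylow hd h2 P).2.1.symm.trans hC)

/-- The normaliser of a Sylow subgroup of prime order in a non-abelian simple group. -/
theorem sylow_data [IsSimpleGroup G] (hG : ¬ IsMulCommutative G) {m : ℕ} (hN : Nat.card G = p * m)
    (hm : ¬ p ∣ m) :
    ∃ e, 2 ≤ e ∧ e ∣ p - 1 ∧ Nat.card (Sylow p G) * (cPart p G * e) = m := by
  have hp : p.Prime := Fact.out
  obtain ⟨P⟩ := (inferInstance : Nonempty (Sylow p G))
  have hd : p ∣ Nat.card G := hN ▸ dvd_mul_right p m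
  have h2 : ¬ p ^ 2 ∣ Nat.card G := fun h => hm (by
    rw [hN, pow_two] at h; exact Nat.dvd_of_mul_dvd_mul_left hp.pos h)
  obtain ⟨c, e, t, hC, hNP, -, he, het, -⟩ := exists_degreeSolution hG P (card_centralizer_sylow hd h2 P).1
  refine ⟨e, he, ⟨t, het.symm⟩, Nat.eq_of_mul_eq_mul_left hp.pos ?_⟩
  rw [cPart_eq hd h2 P hC, ← hN, ← card_normalizer_mul P, hNP]
  ring

omit [Finite G] [Fact p.Prime] in
/-- An element normalising `R` fixes the corresponding coset. -/
theorem smul_mk_eq_iff (R₀ : Sylow p G) (g a : G) :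
    g • (QuotientGroup.mk a : G ⧸ normalizer ((R₀ : Subgroup G) : Set G)) = QuotientGroup.mk a ↔
      g • (a • R₀) = a • R₀ := by
  rw [Quotient.smul_mk, QuotientGroup.eq, ← smul_eq_self_iff, smul_eq_mul, mul_inv_rev, mul_smul,
    mul_smul, inv_smul_eq_iff, inv_smul_eq_iff]
  exact eq_comm

/-- An element normalising but not centralising some Sylow subgroup of order `p` normalises few of them. -/
theorem card_normalized_le (hP : ∀ R : Sylow p G, Nat.card ↥(R : Subgroup G) = p) (R₀ : Sylow p G) {g : G}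
    (hg : g ∈ normalizer ((R₀ : Subgroup G) : Set G)) (hgC : g ∉ centralizer ((R₀ : Subgroup G) : Set G)) :
    Nat.card {R : Sylow p G // g ∈ normalizer ((R : Subgroup G) : Set G)} ≤
      (Nat.card (Sylow p G) - 1) / p + 1 := by
  have h1 := fixedBy_le_orbits R₀ (hP R₀) hg hgC
  have h2 := card_orbits R₀ (hP R₀)
  set k := Nat.card (orbitRel.Quotient ↥(R₀ : Subgroup G) (G ⧸ normalizer ((R₀ : Subgroup G) : Set G)))
  have h3 : (Nat.card (Sylow p G) - 1) / p = k - 1 := by
    rw [← h2, Nat.add_sub_cancel, Nat.mul_div_cancel _ (Fact.out : p.Prime).pos]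
  rw [h3]
  refine le_trans ?_ (h1.trans (by omega))
  choose a ha using fun R : Sylow p G => MulAction.exists_smul_eq G R₀ R
  refine Nat.card_le_card_of_injective (fun R => ⟨QuotientGroup.mk (a R.1), ?_⟩) ?_
  · rw [mem_fixedBy, smul_mk_eq_iff, ha, smul_eq_self_iff]
    exact R.2
  · intro R S h
    have h' := congrArg Subtype.val h
    rw [QuotientGroup.eq, ← smul_eq_self_iff, mul_smul, inv_smul_eq_iff, ha, ha] at h'
    exact Subtype.ext h'.symm

/-- Elements normalising but not centralising Sylow subgroups of order `p`: there are many of them, and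
their orders divide the order of the normaliser divided by `p`. -/
theorem card_moving_ge (hP : ∀ R : Sylow p G, Nat.card ↥(R : Subgroup G) = p) {k d : ℕ}
    (hN : ∀ R : Sylow p G, Nat.card ↥(normalizer ((R : Subgroup G) : Set G)) = p * k)
    (hC : ∀ R : Sylow p G, Nat.card ↥(centralizer ((R : Subgroup G) : Set G)) = d) :
    Nat.card (Sylow p G) * (p * k - d) ≤
      {g : G | g ≠ 1 ∧ orderOf g ∣ k}.ncard * ((Nat.card (Sylow p G) - 1) / p + 1) := by
  classical
  have hp : p.Prime := Fact.out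
  set M := {g : G | g ≠ 1 ∧ orderOf g ∣ k}
  let mv : G → Sylow p G → Prop := fun g R =>
    g ∈ normalizer ((R : Subgroup G) : Set G) ∧ g ∉ centralizer ((R : Subgroup G) : Set G)
  have hM : ∀ g R, mv g R → g ∈ M := by
    rintro g R ⟨hgN, hgC⟩
    refine ⟨fun h => hgC (h ▸ one_mem _), ?_⟩
    have hd : orderOf g ∣ p * k := hN R ▸ Subgroup.orderOf_dvd_natCard _ hgN
    refine Nat.Coprime.dvd_of_dvd_mul_left (Nat.Coprime.symm ((hp.coprime_iff_not_dvd).2 fun hdvd => ?_)) hd
    apply hgC
    set u := g ^ (orderOf g / p) with hu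
    have huo : orderOf u = p := orderOf_pow_orderOf_div (orderOf_pos g).ne' hdvd
    have huR : u ∈ (R : Subgroup G) := by
      have h1 := IsPGroup.inf_normalizer_sylow (IsPGroup.of_card (p := p) (n := 1) (G := ↥(zpowers u))
        (by rw [Nat.card_zpowers, huo, pow_one])) R
      exact (h1 ▸ ⟨mem_zpowers u, pow_mem hgN _⟩ : u ∈ zpowers u ⊓ (R : Subgroup G)).2
    have hz : zpowers u = (R : Subgroup G) :=
      eq_of_le_of_card_ge (zpowers_le.2 huR) (by rw [Nat.card_zpowers, huo, hP R])
    refine mem_centralizer_iff.2 fun v hv => ?_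
    rw [SetLike.mem_coe, ← hz] at hv
    obtain ⟨i, rfl⟩ := mem_zpowers_iff.1 hv
    exact ((Commute.pow_self g (orderOf g / p)).zpow_left i).eq
  have hT : Nat.card (Σ R : Sylow p G, {g : G // mv g R}) = Nat.card (Sylow p G) * (p * k - d) := by
    have := Fintype.ofFinite (Sylow p G)
    rw [Nat.card_sigma]
    have hone : ∀ R : Sylow p G, Nat.card {g : G // mv g R} = p * k - d := by
      intro R
      rw [← hN R, ← hC R, ← SetLike.coe_sort_coe, Nat.card_coe_set_eq, ← SetLike.coe_sort_coe,
        Nat.card_coe_set_eq, ← Set.ncard_sdiff (centralizer_le_normalizer _), ← Nat.card_coe_set_eq]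
      rfl
    rw [Finset.sum_congr rfl fun R _ => hone R, Finset.sum_const, smul_eq_mul, Finset.card_univ,
      Nat.card_eq_fintype_card]
  rw [← hT]
  let e : (Σ R : Sylow p G, {g : G // mv g R}) ≃ Σ g : M, {R : Sylow p G // mv g R} :=
    ⟨fun x => ⟨⟨x.2.1, hM _ _ x.2.2⟩, x.1, x.2.2⟩, fun y => ⟨y.2.1, y.1.1, y.2.2⟩, fun _ => rfl, fun _ => rfl⟩
  have := Fintype.ofFinite M
  rw [Nat.card_congr e, Nat.card_sigma, ← Nat.card_coe_set_eq, Nat.card_eq_fintype_card (α := M),
    ← Finset.card_univ, ← smul_eq_mul, ← Finset.sum_const]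
  refine Finset.sum_le_sum fun g _ => ?_
  rcases isEmpty_or_nonempty {R : Sylow p G // mv g R} with h | ⟨⟨R₀, hR₀⟩⟩
  · simp
  · exact le_trans (Nat.card_le_card_of_injective (fun R => (⟨R.1, R.2.1⟩ :
      {R : Sylow p G // (g : G) ∈ normalizer ((R : Subgroup G) : Set G)}))
      fun R S h => Subtype.ext (congrArg (fun X => X.1) h)) (card_normalized_le hP R₀ hR₀.1 hR₀.2)

/-- The Sylow subgroups inside a subgroup which contains one are those of that subgroup. -/
theorem card_sylow_le {H : Subgroup G} (R₀ : Sylow p G) (h₀ : (R₀ : Subgroup G) ≤ H) :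
    Nat.card {R : Sylow p G // (R : Subgroup G) ≤ H} = Nat.card (Sylow p H) := by
  let F : {R : Sylow p G // (R : Subgroup G) ≤ H} → Sylow p H := fun R => R.1.subtype R.2
  refine Nat.card_eq_of_bijective F ⟨?_, fun Q => ?_⟩
  · rintro ⟨R, hR⟩ ⟨S, hS⟩ h
    apply Subtype.ext
    apply Sylow.ext
    have h' : (R : Subgroup G).subgroupOf H = (S : Subgroup G).subgroupOf H := congrArg Sylow.toSubgroup h
    rw [← map_subgroupOf_eq_of_le hR, h', map_subgroupOf_eq_of_le hS]
  · obtain ⟨a, ha⟩ := MulAction.exists_smul_eq H (R₀.subtype h₀) Q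
    refine ⟨⟨(a : G) • R₀, ?_⟩, ?_⟩
    · rw [Sylow.coe_subgroup_smul]
      intro x hx
      obtain ⟨y, hy, rfl⟩ := hx
      exact mul_mem (mul_mem a.2 (h₀ hy)) (inv_mem a.2)
    · rw [← ha]
      exact (Sylow.smul_subtype h₀ a).symm

end CfsgLib.SmallSimple
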