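import Cfsg.Agent.Lib.Sporadic.M11Order.Census
import Cfsg.Agent.Lib.SmallOrder.AltSeven.Sylow

/-!
A prime dividing some character degree, detected by the census of a self-centralising Sylow subgroup of prime
order.
-/

set_option autoImplicit false

namespace CfsgLib.SmallSimple

open Subgroup CfsgLib.SmallOrder

universe u

/-- the squares of the degrees leave room for a further character -/
def okRoom (N t : ℕ) (_W : ℤ) (f : ℕ) (l : List (ℤ × ℕ)) : Bool :=
  decide (1 + (l.map fun x => x.2 ^ 2).sum + t * f ^ 2 < N)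

variable {G : Type u} [Group G] [Fintype G] [IsSimpleGroup G]

theorem exists_degree_dvd {p : ℕ} [Fact p.Prime] {P : Sylow p G} (S : CSplit p P) {N e t R : ℕ}
    (hN : Nat.card G = N) (hV : Nat.card S.V = 1) (he : Nat.card S.act.range = e) (he2 : 2 ≤ e)
    (ht : e * t = p - 1) (hcheck : solCheck N p e t R (fun _ => true) (okRoom N t) = true) :
    ∃ χ : Cfsg.IrrCharacter G, p ∣ Char.degree χ.1 := by
  classical
  have hp : p.Prime := Fact.out
  obtain ⟨K⟩ := S.exists_census
  have := Fintype.ofFinite S.Orb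
  have hO : Fintype.card S.Orb = t := S.card_orb (by rw [he, ht])
  have ht1 : 1 ≤ t := by
    rcases Nat.eq_zero_or_pos t with h | h
    · rw [h, mul_zero] at ht
      have := hp.two_le
      omega
    · exact h
  obtain ⟨o0⟩ : Nonempty S.Orb := Fintype.card_pos_iff.1 (by omega)
  have : Nonempty S.Orb := ⟨o0⟩
  have hprin : Char.degree (Char.principalIrr : Cfsg.IrrCharacter G).1 = 1 := by
    have h := Char.IsCharacter.degree_cast
      (Char.IsIrrCharacter.isCharacter (Char.principalIrr : Cfsg.IrrCharacter G).2)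
    rw [Char.principalIrr_apply] at h
    exact_mod_cast h
  set T : Finset (Cfsg.IrrCharacter G) := Finset.univ.image K.μ with hT
  set A := Finset.univ.filter fun χ : Cfsg.IrrCharacter G =>
    K.w χ ≠ 0 ∧ χ ≠ Char.principalIrr ∧ χ ∉ T with hAdef
  have hAmem : ∀ χ ∈ A, K.w χ ≠ 0 ∧ χ ≠ Char.principalIrr ∧ χ ∉ T := fun χ hχ =>
    (Finset.mem_filter.1 hχ).2
  have hdisj : Disjoint (insert Char.principalIrr T) A := by
    rw [Finset.disjoint_left]
    intro χ hχ hA'
    obtain ⟨-, h1, h2⟩ := hAmem χ hA'
    rcases Finset.mem_insert.1 hχ with h | h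
    · exact h1 h
    · exact h2 h
  have hp1 : (Char.principalIrr : Cfsg.IrrCharacter G) ∉ T := by
    intro h
    obtain ⟨o, -, ho⟩ := Finset.mem_image.1 h
    exact K.hμ1 o ho
  have hw0 : ∀ χ, χ ∉ A → χ ≠ Char.principalIrr → χ ∉ T → K.w χ = 0 := by
    intro χ h h1 h2
    by_contra hw
    exact h (Finset.mem_filter.2 ⟨Finset.mem_univ _, hw, h1, h2⟩)
  have hsplit : ∀ g : Cfsg.IrrCharacter G → ℂ, (∀ χ, χ ∉ A → χ ≠ Char.principalIrr → χ ∉ T →
      g χ = 0) → ∑ χ, g χ = g Char.principalIrr + ∑ o, g (K.μ o) + ∑ χ ∈ A, g χ := by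
    intro g hg
    rw [← Finset.sum_subset (Finset.subset_univ (insert Char.principalIrr T ∪ A)) (fun χ _ hχ => by
        simp only [Finset.mem_union, Finset.mem_insert, not_or] at hχ
        exact hg χ hχ.2 hχ.1.1 hχ.1.2), Finset.sum_union hdisj, Finset.sum_insert hp1,
      Finset.sum_image (fun a _ b _ h => K.hμ h)]
  have het : (e : ZMod p) * (t : ZMod p) = -1 := by
    rw [← Nat.cast_mul, ht, Nat.cast_sub hp.one_le, ZMod.natCast_self, Nat.cast_one, zero_sub]
  have hdegmod : ∀ χ : Cfsg.IrrCharacter G, (Char.degree χ.1 : ZMod p) =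
      (e : ZMod p) * ((∑ o, S.vec χ o : ℤ) : ZMod p) := fun χ => by
    rw [S.degree_cast hV, he]
  have hsv : ∀ χ, χ ∉ T → ∑ o, S.vec χ o = (t : ℤ) * K.w χ := fun χ h => by
    rw [K.sum_vec_of_ne (fun o ho => h (Finset.mem_image.2 ⟨o, Finset.mem_univ _, ho.symm⟩)), hO]
  set f0 := Char.degree (K.μ o0).1 with hf0
  have hfo : ∀ o, Char.degree (K.μ o).1 = f0 := fun o => K.degree_const o o0
  have hnorm : 1 + (t : ℤ) * K.k ^ 2 + 2 * K.ε * K.k + ∑ χ ∈ A, K.w χ ^ 2 = e := by
    have h := congrArg (Int.cast (R := ℂ)) (K.norm o0)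
    rw [he] at h
    push_cast at h
    rw [hsplit _ (fun χ a b c => by rw [hw0 χ a b c]; simp), K.w_principal] at h
    simp only [K.hk, Finset.sum_const, Finset.card_univ, hO, nsmul_eq_mul] at h
    apply Int.cast_injective (α := ℂ)
    push_cast at h ⊢
    simp only [pow_two]
    linear_combination h
  have hdeg : ∑ χ ∈ A, (Char.degree χ.1 : ℤ) * K.w χ + ((t : ℤ) * K.k + K.ε) * f0 = 1 := by
    have h := congrArg (Int.cast (R := ℂ)) (K.degree_eq o0)
    push_cast at h
    rw [hsplit _ (fun χ a b c => by rw [hw0 χ a b c]; simp), K.w_principal, hprin] at h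
    simp only [K.hk, hfo, Finset.sum_const, Finset.card_univ, hO, nsmul_eq_mul] at h
    apply Int.cast_injective (α := ℂ)
    push_cast at h ⊢
    linear_combination h
  have hTsq : ∑ χ ∈ T, Char.degree χ.1 ^ 2 = t * f0 ^ 2 := by
    rw [Finset.sum_image (fun a _ b _ h => K.hμ h)]
    simp [hfo, hO]
  let s : DegreeSolution N p e t :=
    { l := A.toList.map fun χ => (K.w χ, Char.degree χ.1)
      ε := K.ε
      k := K.k
      f0 := f0
      hε := K.hε
      norm := by
        rw [List.map_map, Finset.sum_map_toList]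
        simp only [Function.comp_apply]
        linarith
      degEq := by
        rw [List.map_map, Finset.sum_map_toList]
        simp only [Function.comp_apply, mul_comm (K.w _)]
        linarith
      squares := by
        rw [List.map_map, Finset.sum_map_toList]
        simp only [Function.comp_apply]
        rw [← hN, ← Char.sum_degree_sq (G := G)]
        have h := Finset.sum_le_sum_of_subset (f := fun χ : Cfsg.IrrCharacter G => Char.degree χ.1 ^ 2)
          (Finset.subset_univ (insert Char.principalIrr T ∪ A))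
        rw [Finset.sum_union hdisj, Finset.sum_insert hp1, hprin, hTsq] at h
        linarith
      others := by
        intro x hx
        obtain ⟨χ, hχ, rfl⟩ := List.mem_map.1 hx
        obtain ⟨h0, h1, h2⟩ := hAmem χ (Finset.mem_toList.1 hχ)
        refine ⟨h0, he ▸ S.card_range_le_degree h1, hN ▸ degree_dvd_card χ, ?_⟩
        rw [← ZMod.intCast_zmod_eq_zero_iff_dvd]
        have h := hdegmod χ
        rw [hsv χ h2] at h
        push_cast at h ⊢
        rw [h]
        linear_combination (K.w χ : ZMod p) * het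
      f0_le := he ▸ S.card_range_le_degree (K.hμ1 o0)
      f0_dvd := hN ▸ degree_dvd_card _
      f0_congr := by
        rw [← ZMod.intCast_zmod_eq_zero_iff_dvd]
        have h := hdegmod (K.μ o0)
        rw [K.sum_vec_μ, hO] at h
        push_cast at h ⊢
        rw [hf0, h]
        linear_combination (K.k : ZMod p) * het }
  have hone : t = 1 → s.k + s.ε ≠ 0 := fun h1 => K.hone fun a b =>
    (Fintype.card_le_one_iff_subsingleton.1 (hO.trans h1).le).elim a b
  have hok := s.of_solCheck (ok := okRoom N t)
    (fun W f a b hab => by simp only [okRoom, (hab.map _).sum_eq]) ht1 he2 hone rfl (fun _ _ => rfl) hcheck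
  simp only [okRoom, decide_eq_true_eq, s, List.map_map, Finset.sum_map_toList, Function.comp_apply] at hok
  by_contra hno
  push Not at hno
  have hall : ∀ χ : Cfsg.IrrCharacter G, χ ∈ insert Char.principalIrr T ∪ A := by
    intro χ
    by_contra hχ
    simp only [Finset.mem_union, Finset.mem_insert, not_or] at hχ
    apply hno χ
    have h := hdegmod χ
    rw [hsv χ hχ.1.2, hw0 χ hχ.2 hχ.1.1 hχ.1.2] at h
    exact (ZMod.natCast_eq_zero_iff _ _).1 (by rw [h]; simp)
  have h := Char.sum_degree_sq (G := G)
  rw [← Finset.eq_univ_of_forall hall, Finset.sum_union hdisj, Finset.sum_insert hp1, hprin, hTsq,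
    hN] at h
  simp only [one_pow] at h
  omega

omit [Fintype G] [IsSimpleGroup G] in
theorem check_2520_seven : solCheck 2520 7 3 2 50 (fun _ => true) (okRoom 2520 2) = true := by
  decide +kernel

omit [Fintype G] [IsSimpleGroup G] in
theorem check_2520_five : solCheck 2520 5 4 1 50 (fun _ => true) (okRoom 2520 1) = true := by
  decide +kernel

theorem seven_dvd_2520 (hN : Nat.card G = 2520) : ∃ χ : Cfsg.IrrCharacter G, 7 ∣ Char.degree χ.1 := by
  have : Fact (Nat.Prime 7) := ⟨by norm_num⟩
  obtain ⟨P⟩ := (inferInstance : Nonempty (Sylow 7 G))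
  have hP : Nat.card ↥(P : Subgroup G) = 7 := by
    simpa using card_sylow_eq (e := 1) (m := 360) (by rw [hN]; norm_num) (by norm_num) P
  obtain ⟨S⟩ := exists_csplit P hP
  obtain ⟨n, c, e, hmem, -, hC, hNP⟩ := exists_option hN 360 (isq 2520) [(36, 5, 2), (120, 1, 3)]
    (by norm_num) (by norm_num) (by norm_num) (by decide +kernel) P
  have hC7 := AltSeven.seven hN P
  simp only [List.mem_cons, List.not_mem_nil, or_false, Prod.mk.injEq] at hmem
  rcases hmem with ⟨-, rfl, rfl⟩ | ⟨-, rfl, rfl⟩
  · omega
  have hV : Nat.card S.V = 1 := by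
    have := S.card_centralizer
    rw [hC] at this
    omega
  have he : Nat.card S.act.range = 3 := by
    have := S.card_normalizer
    rw [hNP, hV] at this
    omega
  exact exists_degree_dvd S hN hV he (by norm_num) rfl check_2520_seven

theorem five_dvd_2520 (hN : Nat.card G = 2520) : ∃ χ : Cfsg.IrrCharacter G, 5 ∣ Char.degree χ.1 := by
  have : Fact (Nat.Prime 5) := ⟨by norm_num⟩
  obtain ⟨P⟩ := (inferInstance : Nonempty (Sylow 5 G))
  have hP : Nat.card ↥(P : Subgroup G) = 5 := by
    simpa using card_sylow_eq (e := 1) (m := 504) (by rw [hN]; norm_num) (by norm_num) P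
  obtain ⟨S⟩ := exists_csplit P hP
  obtain ⟨hC, hNP⟩ := AltSeven.five hN P
  have hV : Nat.card S.V = 1 := by
    have := S.card_centralizer
    rw [hC] at this
    omega
  have he : Nat.card S.act.range = 4 := by
    have := S.card_normalizer
    rw [hNP, hV] at this
    omega
  exact exists_degree_dvd S hN hV he (by norm_num) rfl check_2520_five

end CfsgLib.SmallSimple
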