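import Cfsg.Agent.Lib.SmallSimple.L33.Main
import Cfsg.Agent.Lib.SmallSimple.DvdDegree
import Cfsg.Agent.Lib.Linear.PSL2Nine
import Cfsg.Agent.S0494
import Cfsg.Agent.S0495
import Cfsg.Agent.S0497
import Cfsg.Agent.S0498
import Cfsg.Agent.S1011
import Cfsg.Agent.S0981
import Cfsg.Agent.S0984
import Cfsg.Agent.S1020
import Cfsg.Agent.S1021
import Cfsg.Agent.S3669
import Cfsg.Agent.S4774
import Cfsg.Agent.S4812
import Mathlib.Algebra.Field.ZMod
import Mathlib.FieldTheory.Finite.GaloisField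

/-!
The simple groups of order below 6000: uniqueness by order and facts on their degree graphs.
-/

set_option autoImplicit false

namespace CfsgLib.SmallSimple

open Matrix

universe u v

variable {S : Type u} [Group S] [Finite S] [IsSimpleGroup S] {G : Type v} [Group G] [Finite G] [IsSimpleGroup G]

theorem iso_60 (hS : Nat.card S = 60) (hG : Nat.card G = 60) : Nonempty (G ≃* S) := by
  obtain ⟨a⟩ := Cfsg.Agent.S0494.result hG
  obtain ⟨b⟩ := Cfsg.Agent.S0494.result hS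
  exact ⟨a.trans b.symm⟩

theorem iso_168 (hS : Nat.card S = 168) (hG : Nat.card G = 168) : Nonempty (G ≃* S) := by
  haveI : Fact (Nat.Prime 7) := ⟨by norm_num⟩
  obtain ⟨a⟩ := Cfsg.Agent.S0495.result hG (F := ZMod 7) (ZMod.card 7)
  obtain ⟨b⟩ := Cfsg.Agent.S0495.result hS (F := ZMod 7) (ZMod.card 7)
  exact ⟨a.trans b.symm⟩

theorem iso_360 (hS : Nat.card S = 360) (hG : Nat.card G = 360) : Nonempty (G ≃* S) := by
  obtain ⟨a⟩ := Cfsg.Agent.S0497.result hG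
  obtain ⟨b⟩ := Cfsg.Agent.S0497.result hS
  exact ⟨a.trans b.symm⟩

theorem iso_504 (hS : Nat.card S = 504) (hG : Nat.card G = 504) : Nonempty (G ≃* S) := by
  haveI : Fact (Nat.Prime 2) := ⟨Nat.prime_two⟩
  haveI := Fintype.ofFinite (GaloisField 2 3)
  have hF : Fintype.card (GaloisField 2 3) = 8 := by
    rw [← Nat.card_eq_fintype_card, GaloisField.card 2 3 (by norm_num)]; norm_num
  obtain ⟨a⟩ := Cfsg.Agent.S1011.result hG (F := GaloisField 2 3) hF
  obtain ⟨b⟩ := Cfsg.Agent.S1011.result hS (F := GaloisField 2 3) hF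
  exact ⟨a.trans b.symm⟩

theorem iso_660 (hS : Nat.card S = 660) (hG : Nat.card G = 660) : Nonempty (G ≃* S) := by
  haveI : Fact (Nat.Prime 11) := ⟨by norm_num⟩
  obtain ⟨a⟩ := Cfsg.Agent.S0498.result (G := G) 11 (Or.inl rfl) (by rw [hG]; norm_num) (F := ZMod 11) (ZMod.card 11)
  obtain ⟨b⟩ := Cfsg.Agent.S0498.result (G := S) 11 (Or.inl rfl) (by rw [hS]; norm_num) (F := ZMod 11) (ZMod.card 11)
  exact ⟨a.trans b.symm⟩

theorem iso_1092 (hS : Nat.card S = 1092) (hG : Nat.card G = 1092) : Nonempty (G ≃* S) := by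
  haveI : Fact (Nat.Prime 13) := ⟨by norm_num⟩
  obtain ⟨a⟩ := Cfsg.Agent.S0498.result (G := G) 13 (Or.inr rfl) (by rw [hG]; norm_num) (F := ZMod 13) (ZMod.card 13)
  obtain ⟨b⟩ := Cfsg.Agent.S0498.result (G := S) 13 (Or.inr rfl) (by rw [hS]; norm_num) (F := ZMod 13) (ZMod.card 13)
  exact ⟨a.trans b.symm⟩

theorem iso_2448 (hS : Nat.card S = 2448) (hG : Nat.card G = 2448) : Nonempty (G ≃* S) := by
  haveI : Fact (Nat.Prime 17) := ⟨by norm_num⟩
  obtain ⟨a⟩ := Cfsg.Agent.S1020.result hG (F := ZMod 17) (ZMod.card 17)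
  obtain ⟨b⟩ := Cfsg.Agent.S1020.result hS (F := ZMod 17) (ZMod.card 17)
  exact ⟨a.trans b.symm⟩

theorem iso_2520 (hS : Nat.card S = 2520) (hG : Nat.card G = 2520) : Nonempty (G ≃* S) := by
  obtain ⟨a⟩ := Cfsg.Agent.S0984.result hG
  obtain ⟨b⟩ := Cfsg.Agent.S0984.result hS
  exact ⟨a.trans b.symm⟩

theorem iso_3420 (hS : Nat.card S = 3420) (hG : Nat.card G = 3420) : Nonempty (G ≃* S) := by
  haveI : Fact (Nat.Prime 19) := ⟨by norm_num⟩
  obtain ⟨a⟩ := Cfsg.Agent.S1021.result hG (F := ZMod 19) (ZMod.card 19)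
  obtain ⟨b⟩ := Cfsg.Agent.S1021.result hS (F := ZMod 19) (ZMod.card 19)
  exact ⟨a.trans b.symm⟩

theorem iso_4080 (hS : Nat.card S = 4080) (hG : Nat.card G = 4080) : Nonempty (G ≃* S) := by
  haveI : Fact (Nat.Prime 2) := ⟨Nat.prime_two⟩
  haveI := Fintype.ofFinite (GaloisField 2 4)
  have hF : Fintype.card (GaloisField 2 4) = 16 := by
    rw [← Nat.card_eq_fintype_card, GaloisField.card 2 4 (by norm_num)]; norm_num
  obtain ⟨a⟩ := Cfsg.Agent.S0981.result hG (F := GaloisField 2 4) hF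
  obtain ⟨b⟩ := Cfsg.Agent.S0981.result hS (F := GaloisField 2 4) hF
  exact ⟨a.trans b.symm⟩

theorem iso_5616 (hS : Nat.card S = 5616) (hG : Nat.card G = 5616) : Nonempty (G ≃* S) := by
  haveI := Fintype.ofFinite G
  haveI := Fintype.ofFinite S
  obtain ⟨a⟩ := L33.nonempty_iso hG
  obtain ⟨b⟩ := L33.nonempty_iso hS
  exact ⟨a.trans b.symm⟩

omit [Finite S] [IsSimpleGroup S] in
theorem mem_degreePrimes_of_dvd {r : ℕ} (hr : r.Prime) {χ : Cfsg.IrrCharacter S}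
    (h : r ∣ Char.degree χ.1) : r ∈ Cfsg.degreePrimes S :=
  ⟨hr, _, ⟨χ, rfl⟩, h⟩

/-- vertices and edges of `PSL(2,p)` -/
theorem graph_psl_prime {p : ℕ} [hp : Fact p.Prime] (h5 : 5 < p)
    (e : Nonempty (S ≃* ProjectiveSpecialLinearGroup (Fin 2) (ZMod p))) :
    ∀ r : ℕ, r.Prime → r ∣ p * (p ^ 2 - 1) → r ∈ Cfsg.degreePrimes S := by
  obtain ⟨h, -⟩ := Cfsg.Agent.S4774.result (ZMod p) p (by omega) p (ZMod.card p) h5 (Or.inl e)
  intro r hr hd
  rw [h]
  exact ⟨hr, hd⟩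

theorem vertices_60 (hS : Nat.card S = 60) : 5 ∈ Cfsg.degreePrimes S :=
  Cfsg.Agent.S3669.five_mem_degreePrimes hS fun N hN h5 => by
    rcases hN.eq_bot_or_eq_top with e | e
    · rw [e, Subgroup.card_bot] at h5; omega
    · rw [e, Subgroup.card_top, hS] at h5; omega

theorem vertices_168 (hS : Nat.card S = 168) : 2 ∈ Cfsg.degreePrimes S ∧ 7 ∈ Cfsg.degreePrimes S := by
  haveI : Fact (Nat.Prime 7) := ⟨by norm_num⟩
  have h := graph_psl_prime (by norm_num) (Cfsg.Agent.S0495.result hS (F := ZMod 7) (ZMod.card 7))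
  exact ⟨h 2 Nat.prime_two (by norm_num), h 7 (by norm_num) (by norm_num)⟩

theorem vertices_660 (hS : Nat.card S = 660) : 11 ∈ Cfsg.degreePrimes S := by
  haveI : Fact (Nat.Prime 11) := ⟨by norm_num⟩
  exact graph_psl_prime (by norm_num)
    (Cfsg.Agent.S0498.result (G := S) 11 (Or.inl rfl) (by rw [hS]; norm_num) (F := ZMod 11) (ZMod.card 11))
    11 (by norm_num) (by norm_num)

theorem vertices_1092 (hS : Nat.card S = 1092) : 13 ∈ Cfsg.degreePrimes S := by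
  haveI : Fact (Nat.Prime 13) := ⟨by norm_num⟩
  exact graph_psl_prime (by norm_num)
    (Cfsg.Agent.S0498.result (G := S) 13 (Or.inr rfl) (by rw [hS]; norm_num) (F := ZMod 13) (ZMod.card 13))
    13 (by norm_num) (by norm_num)

theorem vertices_2448 (hS : Nat.card S = 2448) : 17 ∈ Cfsg.degreePrimes S := by
  haveI : Fact (Nat.Prime 17) := ⟨by norm_num⟩
  exact graph_psl_prime (by norm_num) (Cfsg.Agent.S1020.result hS (F := ZMod 17) (ZMod.card 17))
    17 (by norm_num) (by norm_num)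

theorem vertices_3420 (hS : Nat.card S = 3420) : 19 ∈ Cfsg.degreePrimes S := by
  haveI : Fact (Nat.Prime 19) := ⟨by norm_num⟩
  exact graph_psl_prime (by norm_num) (Cfsg.Agent.S1021.result hS (F := ZMod 19) (ZMod.card 19))
    19 (by norm_num) (by norm_num)

theorem vertices_4080 (hS : Nat.card S = 4080) : 17 ∈ Cfsg.degreePrimes S := by
  haveI : Fact (Nat.Prime 2) := ⟨Nat.prime_two⟩
  haveI := Fintype.ofFinite (GaloisField 2 4)
  have hF : Fintype.card (GaloisField 2 4) = 16 := by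
    rw [← Nat.card_eq_fintype_card, GaloisField.card 2 4 (by norm_num)]; norm_num
  obtain ⟨h, -⟩ := Cfsg.Agent.S4812.result (GaloisField 2 4) 16 hF (by norm_num)
    (Or.inl (Cfsg.Agent.S0981.result hS (F := GaloisField 2 4) hF))
  rw [h]
  exact ⟨by norm_num, by norm_num⟩

theorem graph_504 (hS : Nat.card S = 504) :
    2 ∈ Cfsg.degreePrimes S ∧ 7 ∈ Cfsg.degreePrimes S ∧ ¬ (Cfsg.degreeGraph S).Adj 2 3 := by
  haveI : Fact (Nat.Prime 2) := ⟨Nat.prime_two⟩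
  haveI := Fintype.ofFinite (GaloisField 2 3)
  have hF : Fintype.card (GaloisField 2 3) = 8 := by
    rw [← Nat.card_eq_fintype_card, GaloisField.card 2 3 (by norm_num)]; norm_num
  obtain ⟨h, hadj⟩ := Cfsg.Agent.S4812.result (GaloisField 2 3) 8 hF (by norm_num)
    (Or.inl (Cfsg.Agent.S1011.result hS (F := GaloisField 2 3) hF))
  rw [h]
  refine ⟨⟨Nat.prime_two, by norm_num⟩, ⟨by norm_num, by norm_num⟩, fun hA => ?_⟩
  obtain ⟨-, -, -, hd⟩ := (hadj 2 3).1 hA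
  norm_num at hd

theorem graph_360 (hS : Nat.card S = 360) :
    2 ∈ Cfsg.degreePrimes S ∧ 3 ∈ Cfsg.degreePrimes S ∧ 5 ∈ Cfsg.degreePrimes S ∧
      (Cfsg.degreeGraph S).Adj 2 5 ∧ ¬ (Cfsg.degreeGraph S).Adj 2 3 := by
  haveI : Fact (Nat.Prime 3) := ⟨Nat.prime_three⟩
  haveI := Fintype.ofFinite (GaloisField 3 2)
  have hF : Fintype.card (GaloisField 3 2) = 9 := by
    rw [← Nat.card_eq_fintype_card, GaloisField.card 3 2 (by norm_num)]; norm_num
  obtain ⟨a⟩ := Cfsg.Agent.S0497.result hS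
  obtain ⟨b⟩ := CfsgLib.Linear.PSL2Nine.exists_PSL2_equiv_A6 (F := GaloisField 3 2) hF
  obtain ⟨h, hadj⟩ := Cfsg.Agent.S4774.result (GaloisField 3 2) 3 (by norm_num) 9 hF (by norm_num)
    (Or.inl ⟨a.trans b.symm⟩)
  rw [h]
  refine ⟨⟨Nat.prime_two, by norm_num⟩, ⟨Nat.prime_three, by norm_num⟩, ⟨by norm_num, by norm_num⟩,
    (hadj 2 5).2 ⟨by norm_num, Nat.prime_two, by norm_num, by norm_num, by norm_num, Or.inl rfl⟩,
    fun hA => ?_⟩
  obtain ⟨-, -, -, -, hd, -⟩ := (hadj 2 3).1 hA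
  norm_num at hd

theorem vertices_2520 (hS : Nat.card S = 2520) : 5 ∈ Cfsg.degreePrimes S ∧ 7 ∈ Cfsg.degreePrimes S := by
  haveI := Fintype.ofFinite S
  obtain ⟨χ, hχ⟩ := five_dvd_2520 hS
  obtain ⟨ψ, hψ⟩ := seven_dvd_2520 hS
  exact ⟨mem_degreePrimes_of_dvd (by norm_num) hχ, mem_degreePrimes_of_dvd (by norm_num) hψ⟩

theorem vertices_5616 (hS : Nat.card S = 5616) : 3 ∈ Cfsg.degreePrimes S ∧ 13 ∈ Cfsg.degreePrimes S := by
  haveI := Fintype.ofFinite S
  obtain ⟨B⟩ := L33.exists_block hS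
  obtain ⟨χ, hχ⟩ := B.exists_dvd
  exact ⟨mem_degreePrimes_of_dvd Nat.prime_three (χ := B.a) (by rw [B.ha]; norm_num),
    mem_degreePrimes_of_dvd (by norm_num) hχ⟩

end CfsgLib.SmallSimple
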