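import Cfsg.Agent.Lib.SmallSimple.NonSimpleBase

/-!
Order 2520: the primes 5 and 7 dividing character degrees force simplicity.
-/

set_option autoImplicit false
set_option linter.style.haveILetI false

namespace CfsgLib.SmallSimple

open Subgroup MulAction CfsgLib.SmallOrder

universe u

variable {X : Type u} [Group X] [Finite X]

theorem twelve_dvd_of_five {m : ℕ} [Fact (Nat.Prime 5)] (hm : m ∣ 504) (hX : Nat.card X = 5 * m)
    (h1 : Nat.card (Sylow 5 X) ≠ 1) : 12 ∣ m := by
  by_contra hc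
  apply h1
  rcases (by decide +kernel : ∀ k ∈ (504 : ℕ).divisors, ¬ 12 ∣ k → k ∣ 126 ∨ k ∣ 56) m
    (Nat.mem_divisors.2 ⟨hm, by norm_num⟩) hc with h | h
  · exact card_sylow_eq_one_of_excluded (M := 126) (by norm_num)
      (good_of_divisors (by norm_num) (by decide +kernel))
      (fun k hk => (by decide +kernel : ∀ k ∈ (126 : ℕ).divisors, orderExcluded (5 * k) = true) k
        (Nat.mem_divisors.2 ⟨hk, by norm_num⟩)) h hX
  · exact card_sylow_eq_one_of_excluded (M := 56) (by norm_num)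
      (good_of_divisors (by norm_num) (by decide +kernel))
      (fun k hk => (by decide +kernel : ∀ k ∈ (56 : ℕ).divisors, orderExcluded (5 * k) = true) k
        (Nat.mem_divisors.2 ⟨hk, by norm_num⟩)) h hX

theorem eight_dvd_of_seven {m : ℕ} [Fact (Nat.Prime 7)] (hm : m ∣ 360) (hX : Nat.card X = 7 * m)
    (h1 : Nat.card (Sylow 7 X) ≠ 1) : 8 ∣ m := by
  by_contra hc
  exact h1 (card_sylow_eq_one_of_excluded (M := 180) (by norm_num)
    (good_of_divisors (by norm_num) (by decide +kernel))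
    (fun k hk => (by decide +kernel : ∀ k ∈ (180 : ℕ).divisors, orderExcluded (7 * k) = true) k
      (Nat.mem_divisors.2 ⟨hk, by norm_num⟩))
    ((by decide +kernel : ∀ k ∈ (360 : ℕ).divisors, ¬ 8 ∣ k → k ∣ 180) m
      (Nat.mem_divisors.2 ⟨hm, by norm_num⟩) hc) hX)

/-- A normal complement for seven with several Sylow five-subgroups is impossible. -/
theorem seven_complement_false [Fact (Nat.Prime 5)] [Fact (Nat.Prime 7)] {m : ℕ} (hm : m ∣ 360)
    (hX : Nat.card X = 7 * m) (N : Subgroup X) [N.Normal] (hN : Nat.card N = m) (h5 : 5 ∣ m)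
    (hN5 : Nat.card (Sylow 5 N) ≠ 1) (hX7 : Nat.card (Sylow 7 X) ≠ 1) : False := by
  have hm7 : ¬ 7 ∣ m := fun h => absurd (h.trans hm) (by norm_num)
  obtain ⟨R⟩ := (inferInstance : Nonempty (Sylow 7 X))
  set C := N ⊓ centralizer ((R : Subgroup X) : Set X) with hC
  have hm8 : m ∣ Nat.card C * 8 := (Nat.dvd_iff_prime_pow_dvd_dvd _ _).2 fun q k hq hk => by
    rcases eq_or_ne q 2 with rfl | hne
    · refine Dvd.dvd.mul_left ?_ _
      have h2 : k ≤ 3 := by
        by_contra hlt
        exact absurd (((pow_dvd_pow 2 (by omega : 4 ≤ k)).trans hk).trans hm) (by norm_num)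
      exact (pow_dvd_pow 2 h2).trans (by norm_num)
    · refine Dvd.dvd.mul_right (pow_dvd_card_inf_centralizer hX hm7 N (hN.symm ▸ hm7) hq (hN ▸ hk)
        (fun i h0 hi hd => ?_) R) _
      have hd360 : q ^ i ∣ 360 := (hN ▸ hi).trans hm
      have hmod : q ^ i % 7 = 1 := by
        have := (Nat.modEq_iff_dvd' (Nat.one_le_pow i q hq.pos)).2 hd
        rw [Nat.ModEq] at this
        omega
      have h1 : 1 < q ^ i := Nat.one_lt_pow h0.ne' hq.one_lt
      rcases (by decide +kernel : ∀ n ∈ (360 : ℕ).divisors, n % 7 = 1 → n = 1 ∨ 2 ∣ n ∨ 3 ∣ n ∧ 5 ∣ n) _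
        (Nat.mem_divisors.2 ⟨hd360, by norm_num⟩) hmod with h | h | ⟨h3, h5'⟩
      · omega
      · exact hne ((Nat.prime_dvd_prime_iff_eq Nat.prime_two hq).1 (Nat.prime_two.dvd_of_dvd_pow h)).symm
      · have e3 := (Nat.prime_dvd_prime_iff_eq Nat.prime_three hq).1 (Nat.prime_three.dvd_of_dvd_pow h3)
        have e5 := (Nat.prime_dvd_prime_iff_eq (by norm_num : Nat.Prime 5) hq).1
          ((by norm_num : Nat.Prime 5).dvd_of_dvd_pow h5')
        omega
  have hCm : Nat.card C ∣ m := hN ▸ Subgroup.card_dvd_of_le inf_le_left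
  -- the normaliser of `R` contains `C` and `R`
  have hnd : Nat.card (Sylow 7 X) * Nat.card C ∣ m := by
    have hcop : Nat.Coprime (Nat.card C) 7 :=
      ((by norm_num : Nat.Prime 7).coprime_iff_not_dvd.2 fun h => hm7 (h.trans hCm)).symm
    have h1 : Nat.card C * 7 ∣ Nat.card ↥(normalizer ((R : Subgroup X) : Set X)) :=
      hcop.mul_dvd_of_dvd_of_dvd (Subgroup.card_dvd_of_le (inf_le_right.trans (centralizer_le_normalizer _)))
        ((sylow_card hX hm7 R).symm.dvd.trans (Subgroup.card_dvd_of_le le_normalizer))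
    have h2 : Nat.card C * 7 * Nat.card (Sylow 7 X) ∣ 7 * m := by
      rw [← hX, R.card_eq_index_normalizer, ← (normalizer ((R : Subgroup X) : Set X)).card_mul_index]
      exact Nat.mul_dvd_mul_right h1 _
    exact Nat.dvd_of_mul_dvd_mul_left (by norm_num : 0 < 7)
      (by rwa [show 7 * (Nat.card (Sylow 7 X) * Nat.card C) = Nat.card C * 7 * Nat.card (Sylow 7 X) by ring])
  have hn8 : Nat.card (Sylow 7 X) ∣ 8 :=
    Nat.dvd_of_mul_dvd_mul_left Nat.card_pos
      (by rw [mul_comm (Nat.card C)]; exact hnd.trans hm8)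
  have hn : Nat.card (Sylow 7 X) = 8 := by
    have hmod := card_sylow_modEq_one 7 X
    rw [Nat.ModEq] at hmod
    have := (by decide +kernel : ∀ n ∈ (8 : ℕ).divisors, n % 7 = 1 % 7 → n = 1 ∨ n = 8) _
      (Nat.mem_divisors.2 ⟨hn8, by norm_num⟩) hmod
    tauto
  have hmC : m = Nat.card C * 8 := Nat.dvd_antisymm hm8 (by rw [mul_comm, ← hn]; exact hnd)
  have hc45 : Nat.card C ∣ 45 := Nat.dvd_of_mul_dvd_mul_right (by norm_num : 0 < 8) (hmC ▸ hm)
  obtain ⟨c', hc'⟩ : 5 ∣ Nat.card C := ((by norm_num : Nat.Prime 5).dvd_mul.1 (hmC ▸ h5)).resolve_right (by norm_num)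
  have hc9 : c' ∣ 9 := Nat.dvd_of_mul_dvd_mul_left (by norm_num : 0 < 5) (hc' ▸ hc45)
  have hc5 : ¬ 5 ∣ c' := fun h => absurd (h.trans hc9) (by norm_num)
  have hN5' : Nat.card N = 5 * (c' * 8) := by rw [hN, hmC, hc', mul_assoc]
  have hc8 : ¬ 5 ∣ c' * 8 := fun h => ((by norm_num : Nat.Prime 5).dvd_mul.1 h).elim hc5 (by norm_num)
  have hCN : C ≤ N := inf_le_left
  set C' := C.subgroupOf N with hC'
  have hC'card : Nat.card C' = Nat.card C := Nat.card_congr (Subgroup.subgroupOfEquivOfLe hCN).toEquiv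
  have hone : Nat.card (Sylow 5 C') = 1 := by
    have hmod := card_sylow_modEq_one 5 C'
    rw [Nat.ModEq] at hmod
    exact (by decide +kernel : ∀ n ∈ (9 : ℕ).divisors, n % 5 = 1 % 5 → n = 1) _
      (Nat.mem_divisors.2 ⟨(card_sylow_dvd (hC'card.trans hc') hc5).trans hc9, by norm_num⟩) hmod
  obtain ⟨P', hP'⟩ := exists_sylow_le hN5' hc8 (H := C') (hC'card.symm ▸ hc'.symm ▸ dvd_mul_right 5 c')
  have hle : C' ≤ normalizer ((P' : Subgroup N) : Set N) := by
    intro x hx
    refine Sylow.smul_eq_iff_mem_normalizer.1 ?_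
    have hsub : ∀ S : Sylow 5 N, (S : Subgroup N) ≤ C' → S = P' := by
      have : Subsingleton {S : Sylow 5 N // (S : Subgroup N) ≤ C'} :=
        Finite.card_le_one_iff_subsingleton.1 (by
          rw [card_sylow_le P' hP', hone])
      intro S hS
      exact congrArg Subtype.val (Subsingleton.elim (⟨S, hS⟩ : {S : Sylow 5 N // (S : Subgroup N) ≤ C'}) ⟨P', hP'⟩)
    exact hsub _ (Sylow.smul_le hP' ⟨x, hx⟩)
  have hd : Nat.card (Sylow 5 N) * Nat.card C' ∣ Nat.card N := by
    rw [P'.card_eq_index_normalizer, mul_comm, ← (normalizer ((P' : Subgroup N) : Set N)).card_mul_index]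
    exact Nat.mul_dvd_mul_right (Subgroup.card_dvd_of_le hle) _
  have h8 : Nat.card (Sylow 5 N) ∣ 8 :=
    Nat.dvd_of_mul_dvd_mul_right Nat.card_pos
      (by rw [mul_comm 8, ← hmC, ← hN]; exact hC'card ▸ hd)
  have hmod := card_sylow_modEq_one 5 N
  rw [Nat.ModEq] at hmod
  exact hN5 ((by decide +kernel : ∀ n ∈ (8 : ℕ).divisors, n % 5 = 1 % 5 → n = 1) _
    (Nat.mem_divisors.2 ⟨h8, by norm_num⟩) hmod)

theorem five_seven_aux [Fact (Nat.Prime 5)] [Fact (Nat.Prime 7)] (k : ℕ) :
    ∀ (X : Type u) [Group X] [Finite X], k ∣ 72 → Nat.card X = 35 * k → Nat.card (Sylow 5 X) ≠ 1 →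
      Nat.card (Sylow 7 X) ≠ 1 → k = 72 ∧ IsSimpleGroup X := by
  induction k using Nat.strong_induction_on with
  | h k ih =>
    intro X _ _ hk hX h5 h7
    have hX5 : Nat.card X = 5 * (7 * k) := by rw [hX]; ring
    have hX7 : Nat.card X = 7 * (5 * k) := by rw [hX]; ring
    have hn5 : ¬ 5 ∣ 7 * k := fun h => absurd (h.trans (Nat.mul_dvd_mul_left 7 hk)) (by norm_num)
    have hn7 : ¬ 7 ∣ 5 * k := fun h => absurd (h.trans (Nat.mul_dvd_mul_left 5 hk)) (by norm_num)
    have h504 : 7 * k ∣ 504 := (Nat.mul_dvd_mul_left 7 hk).trans (by norm_num)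
    have h360 : 5 * k ∣ 360 := (Nat.mul_dvd_mul_left 5 hk).trans (by norm_num)
    have hk24 : k = 24 ∨ k = 72 := by
      have a := twelve_dvd_of_five h504 hX5 h5
      have b := eight_dvd_of_seven h360 hX7 h7
      have hkd : k ∈ (72 : ℕ).divisors := Nat.mem_divisors.2 ⟨hk, by norm_num⟩
      exact (by decide +kernel : ∀ j ∈ (72 : ℕ).divisors, 12 ∣ 7 * j → 8 ∣ 5 * j → j = 24 ∨ j = 72) k hkd a b
    by_cases hs : IsSimpleGroup X
    · refine ⟨hk24.resolve_left fun h24 => card_ne_of_orderExcluded (not_comm_of_card_sylow h5)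
        (by decide +kernel : orderExcluded 840 = true) (by rw [hX, h24]), hs⟩
    exfalso
    have hcop : Nat.Coprime 5 7 := by norm_num
    -- a normal subgroup containing both Sylow subgroups is everything
    have both : ∀ (M : Subgroup X) [M.Normal], 5 ∣ Nat.card M → 7 ∣ Nat.card M → M = ⊤ := by
      intro M _ d5 d7
      obtain ⟨j, hj⟩ := hcop.mul_dvd_of_dvd_of_dvd d5 d7
      rw [show (5 : ℕ) * 7 = 35 by rfl] at hj
      have hjk : j ∣ k := Nat.dvd_of_mul_dvd_mul_left (by norm_num : 0 < 35)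
        (hj ▸ hX ▸ M.card_subgroup_dvd_card)
      by_contra hne
      have hlt : Nat.card M < Nat.card X := lt_of_not_ge fun h => hne (M.eq_top_of_le_card h)
      rw [hj, hX] at hlt
      have hjlt : j < k := by omega
      obtain ⟨he, -⟩ := ih j hjlt M (hjk.trans hk) hj
        (fun h => h5 (card_sylow_normal hX5 hn5 (N := M) d5 ▸ h))
        (fun h => h7 (card_sylow_normal hX7 hn7 (N := M) d7 ▸ h))
      omega
    have only5 : ∀ (M : Subgroup X) [M.Normal], 5 ∣ Nat.card M → ¬ 7 ∣ Nat.card M → False := by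
      intro M _ d5 d7
      obtain ⟨R⟩ := (inferInstance : Nonempty (Sylow 7 X))
      have hprod := M.card_mul_index
      rw [hX7, Subgroup.index_eq_card] at hprod
      obtain ⟨j', hj'⟩ : 7 ∣ Nat.card (X ⧸ M) :=
        ((by norm_num : Nat.Prime 7).dvd_mul.1 (hprod ▸ dvd_mul_right 7 _)).resolve_left d7
      have hmj : Nat.card M * j' = 5 * k := Nat.eq_of_mul_eq_mul_left (by norm_num : 0 < 7)
        (by rw [← hprod, hj']; ring)
      obtain ⟨j, hj⟩ := d5
      have hjj : j * j' = k := Nat.eq_of_mul_eq_mul_left (by norm_num : 0 < 5)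
        (by rw [← hmj, hj]; ring)
      have hM5 : Nat.card (Sylow 5 M) ≠ 1 := by
        rw [card_sylow_normal hX5 hn5 (hj ▸ dvd_mul_right 5 j)]; exact h5
      rcases eq_or_ne (Nat.card (Sylow 7 (X ⧸ M))) 1 with hone | hne
      · haveI := normal_sup_sylow M hone R
        have hc := card_sup_sylow hX7 hn7 M d7 R
        have htop := both (M ⊔ (R : Subgroup X)) (hc ▸ hj ▸ Dvd.dvd.mul_left (dvd_mul_right 5 j) 7)
          (hc ▸ dvd_mul_right 7 _)
        have hMk : Nat.card M = 5 * k := by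
          rw [htop, Subgroup.card_top, hX7] at hc
          exact Nat.eq_of_mul_eq_mul_left (by norm_num : 0 < 7) hc.symm
        exact seven_complement_false h360 hX7 M hMk (dvd_mul_right 5 k) hM5 h7
      · have a := twelve_dvd_of_five ((Dvd.intro j' hjj).trans (hk.trans (by norm_num))) hj hM5
        have b := eight_dvd_of_seven (((Dvd.intro_left j hjj : j' ∣ k)).trans (hk.trans (by norm_num))) hj' hne
        exact absurd (((Nat.mul_dvd_mul a b).trans (dvd_of_eq hjj)).trans hk) (by norm_num)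
    have only7 : ∀ (M : Subgroup X) [M.Normal], 7 ∣ Nat.card M → ¬ 5 ∣ Nat.card M → False := by
      intro M _ d7 d5
      obtain ⟨R⟩ := (inferInstance : Nonempty (Sylow 5 X))
      have hprod := M.card_mul_index
      rw [hX5, Subgroup.index_eq_card] at hprod
      obtain ⟨j', hj'⟩ : 5 ∣ Nat.card (X ⧸ M) :=
        ((by norm_num : Nat.Prime 5).dvd_mul.1 (hprod ▸ dvd_mul_right 5 _)).resolve_left d5
      have hmj : Nat.card M * j' = 7 * k := Nat.eq_of_mul_eq_mul_left (by norm_num : 0 < 5)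
        (by rw [← hprod, hj']; ring)
      obtain ⟨j, hj⟩ := d7
      have hjj : j * j' = k := Nat.eq_of_mul_eq_mul_left (by norm_num : 0 < 7)
        (by rw [← hmj, hj]; ring)
      rcases eq_or_ne (Nat.card (Sylow 5 (X ⧸ M))) 1 with hone | hne
      · haveI := normal_sup_sylow M hone R
        have hc := card_sup_sylow hX5 hn5 M d5 R
        have htop := both (M ⊔ (R : Subgroup X)) (hc ▸ dvd_mul_right 5 _)
          (hc ▸ hj ▸ Dvd.dvd.mul_left (dvd_mul_right 7 j) 5)
        exact h5 (card_sylow_eq_one_of_complement M R htop (le_centralizer_of_all_good hX5 hn5 M d5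
          (fun q i hq h0 hi => good_of_divisors (M := 504) (r := 5) (by norm_num) (by decide +kernel) q i hq h0
            (hi.trans ((Dvd.intro j' hmj).trans h504))) R))
      · have hM7 : Nat.card (Sylow 7 M) ≠ 1 := by
          rw [card_sylow_normal hX7 hn7 (hj ▸ dvd_mul_right 7 j)]; exact h7
        have a := eight_dvd_of_seven ((Dvd.intro j' hjj).trans (hk.trans (by norm_num))) hj hM7
        have b := twelve_dvd_of_five (((Dvd.intro_left j hjj : j' ∣ k)).trans (hk.trans (by norm_num))) hj' hne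
        exact absurd (((Nat.mul_dvd_mul a b).trans (dvd_of_eq hjj)).trans hk) (by norm_num)
    haveI : Nontrivial X := Finite.one_lt_card_iff_nontrivial.1 (by rcases hk24 with h | h <;> omega)
    obtain ⟨N, hN, hbot, htop⟩ : ∃ N : Subgroup X, N.Normal ∧ N ≠ ⊥ ∧ N ≠ ⊤ := by
      by_contra hc
      push Not at hc
      exact hs ⟨fun N hN => or_iff_not_imp_left.2 (hc N hN)⟩
    haveI := hN
    by_cases d5 : 5 ∣ Nat.card N <;> by_cases d7 : 7 ∣ Nat.card N
    · exact htop (both N d5 d7)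
    · exact only5 N d5 d7
    · exact only7 N d7 d5
    · rcases eq_or_ne (Nat.card (Sylow 5 (X ⧸ N))) 1 with h51 | h51
      · obtain ⟨R⟩ := (inferInstance : Nonempty (Sylow 5 X))
        haveI := normal_sup_sylow N h51 R
        have hc := card_sup_sylow hX5 hn5 N d5 R
        refine only5 _ (hc ▸ dvd_mul_right 5 _) fun h => ?_
        exact ((by norm_num : Nat.Prime 7).dvd_mul.1 (hc ▸ h)).elim (by norm_num) d7
      rcases eq_or_ne (Nat.card (Sylow 7 (X ⧸ N))) 1 with h71 | h71
      · obtain ⟨R⟩ := (inferInstance : Nonempty (Sylow 7 X))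
        haveI := normal_sup_sylow N h71 R
        have hc := card_sup_sylow hX7 hn7 N d7 R
        refine only7 _ (hc ▸ dvd_mul_right 7 _) fun h => ?_
        exact ((by norm_num : Nat.Prime 5).dvd_mul.1 (hc ▸ h)).elim (by norm_num) d5
      have hprod := N.card_mul_index
      rw [hX, Subgroup.index_eq_card] at hprod
      have c35 : Nat.Coprime 35 (Nat.card N) := by
        rw [show (35 : ℕ) = 5 * 7 by rfl]
        exact Nat.Coprime.mul_left ((by norm_num : Nat.Prime 5).coprime_iff_not_dvd.2 d5)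
          ((by norm_num : Nat.Prime 7).coprime_iff_not_dvd.2 d7)
      obtain ⟨k', hk'⟩ : 35 ∣ Nat.card (X ⧸ N) := c35.dvd_of_dvd_mul_left (hprod ▸ dvd_mul_right 35 k)
      have hkk : Nat.card N * k' = k := Nat.eq_of_mul_eq_mul_left (by norm_num : 0 < 35)
        (by rw [← hprod, hk']; ring)
      have hlt : k' < k := by
        have hpos : 0 < k' := Nat.pos_of_ne_zero fun h0 => by rw [h0, mul_zero] at hkk; omega
        rw [← hkk]
        exact lt_mul_of_one_lt_left hpos (N.one_lt_card_iff_ne_bot.2 hbot)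
      obtain ⟨he, -⟩ := ih k' hlt (X ⧸ N) ((Dvd.intro_left _ hkk).trans hk) hk' h51 h71
      omega

/-- A group of order 2520 with 5 and 7 dividing degrees is simple. -/
theorem simple_2520 {G : Type u} [Group G] [Finite G] (h : Nat.card G = 2520)
    (h5 : 5 ∈ Cfsg.degreePrimes G) (h7 : 7 ∈ Cfsg.degreePrimes G) : IsSimpleGroup G := by
  haveI : Fact (Nat.Prime 5) := ⟨by norm_num⟩
  haveI : Fact (Nat.Prime 7) := ⟨by norm_num⟩
  exact (five_seven_aux 72 G dvd_rfl h (card_sylow_ne_one (m := 504) h (by norm_num) h5)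
    (card_sylow_ne_one (m := 360) h (by norm_num) h7)).2

end CfsgLib.SmallSimple
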