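import Cfsg.Agent.Lib.SmallSimple.NonSimpleBase
import Cfsg.Agent.Lib.Char.CentralOver
import Mathlib.GroupTheory.Transfer
import Mathlib.GroupTheory.FiniteAbelian.Duality
import Mathlib.Analysis.Complex.Polynomial.Basic
import Mathlib.RingTheory.RootsOfUnity.AlgebraicallyClosed

/-!
A central element of order 3 in a group with Sylow 3-subgroups of order 9: a linear character moves it, and every
irreducible character is a twist of one trivial on it.
-/

set_option autoImplicit false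
set_option linter.style.haveILetI false

namespace CfsgLib.SmallSimple

open Subgroup MulAction CfsgLib

universe u

variable {X : Type u} [Group X] [Finite X]

/-- Transfer into an abelian Sylow subgroup separates a central element of order 3. -/
theorem exists_linear_ne_one {t : X} (ht : t ∈ Subgroup.center X) (ht3 : orderOf t = 3)
    (h9 : 9 ∣ Nat.card X) (h27 : ¬ 27 ∣ Nat.card X) : ∃ f : X →* ℂˣ, f t ≠ 1 := by
  haveI : Fact (Nat.Prime 3) := ⟨Nat.prime_three⟩
  obtain ⟨P⟩ := (inferInstance : Nonempty (Sylow 3 X))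
  have hP : Nat.card ↥(P : Subgroup X) = 3 ^ 2 := by
    obtain ⟨k, hk⟩ := P.2.exists_card_eq
    have h2 : 3 ^ k ∣ Nat.card X := hk ▸ Subgroup.card_subgroup_dvd_card _
    have h3 : 3 ^ 2 ∣ 3 ^ k := hk ▸ P.pow_dvd_card_of_pow_dvd_card (n := 2) (by norm_num; exact h9)
    have h4 := (Nat.pow_dvd_pow_iff_le_right (by norm_num : 1 < 3)).1 h3
    have h5 : k ≤ 2 := by
      by_contra hlt
      exact h27 ((pow_dvd_pow 3 (by omega : 3 ≤ k)).trans h2)
    rw [hk, show k = 2 by omega]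
  letI : CommGroup ↥(P : Subgroup X) := IsPGroup.commGroupOfCardEqPrimeSq hP
  have htP : t ∈ (P : Subgroup X) := by
    have hp : IsPGroup 3 (zpowers t) := IsPGroup.of_card (n := 1) (by rw [Nat.card_zpowers, ht3, pow_one])
    obtain ⟨Q, hQ⟩ := hp.exists_le_sylow
    obtain ⟨g, rfl⟩ := MulAction.exists_smul_eq X Q P
    rw [Sylow.coe_subgroup_smul]
    refine ⟨t, hQ (mem_zpowers t), ?_⟩
    show g * t * g⁻¹ = t
    rw [Subgroup.mem_center_iff.1 ht g, mul_inv_cancel_right]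
  set φ : X →* ↥(P : Subgroup X) := MonoidHom.transfer (MonoidHom.id ↥(P : Subgroup X)) with hφ
  have key : ∀ (k : ℕ) (g₀ : X), g₀⁻¹ * t ^ k * g₀ ∈ (P : Subgroup X) → g₀⁻¹ * t ^ k * g₀ = t ^ k := by
    intro k g₀ _
    rw [mul_assoc, ← Subgroup.mem_center_iff.1 (pow_mem ht k) g₀, inv_mul_cancel_left]
  have hne : φ t ≠ 1 := by
    rw [hφ, MonoidHom.transfer_eq_pow (MonoidHom.id ↥(P : Subgroup X)) t key, MonoidHom.id_apply]
    intro h
    have h' : t ^ (P : Subgroup X).index = 1 := congrArg Subtype.val h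
    rw [← orderOf_dvd_iff_pow_eq_one, ht3] at h'
    exact P.not_dvd_index h'
  obtain ⟨c, hc⟩ := CommGroup.exists_apply_ne_one_of_hasEnoughRootsOfUnity ↥(P : Subgroup X) ℂ hne
  exact ⟨c.comp φ, hc⟩

/-- Every irreducible character has a linear twist trivial on a central element of order 3. -/
theorem exists_twist {t : X} (ht : t ∈ Subgroup.center X) (ht3 : orderOf t = 3) (f : X →* ℂˣ) (hf : f t ≠ 1)
    (χ : Cfsg.IrrCharacter X) : ∃ χ' : Cfsg.IrrCharacter X,
      Cfsg.charDegree (χ' : X → ℂ) = Cfsg.charDegree (χ : X → ℂ) ∧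
        ∀ n ∈ zpowers t, (χ' : X → ℂ) n = (χ' : X → ℂ) 1 := by
  set d := (χ : X → ℂ) 1 with hd
  have hd0 : d ≠ 0 := CharTools.irr_apply_one_ne_zero χ
  set ω := (χ : X → ℂ) t / d with hω
  have hpow : ∀ k : ℕ, (χ : X → ℂ) (t ^ k) = d * ω ^ k := by
    intro k
    induction k with
    | zero => simp [hd]
    | succ k ih =>
      have h := CharOver.apply_mul_central χ.2 ht (t ^ k)
      rw [← hd, ← pow_succ, ih] at h
      have : (χ : X → ℂ) t = ω * d := by rw [hω, div_mul_cancel₀ _ hd0]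
      rw [this] at h
      refine mul_right_cancel₀ hd0 (h.trans ?_)
      ring
  have hω3 : ω ^ 3 = 1 := by
    have h := hpow 3
    rw [← ht3, pow_orderOf_eq_one, ← hd, ht3] at h
    exact mul_left_cancel₀ hd0 (h.symm.trans (mul_one d).symm)
  have hprim : IsPrimitiveRoot ((f t : ℂˣ) : ℂ) 3 := by
    refine IsPrimitiveRoot.coe_units_iff.2 ⟨?_, fun l hl => ?_⟩
    · rw [← map_pow, ← ht3, pow_orderOf_eq_one, map_one]
    · by_contra hl3
      apply hf
      have h3 : f t ^ 3 = 1 := by rw [← map_pow, ← ht3, pow_orderOf_eq_one, map_one]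
      have hc : Nat.Coprime 3 l := Nat.prime_three.coprime_iff_not_dvd.2 hl3
      have := pow_gcd_eq_one.2 ⟨h3, hl⟩
      rwa [hc.gcd_eq_one, pow_one] at this
  obtain ⟨j, -, hj⟩ := hprim.eq_pow_of_pow_eq_one hω3
  refine ⟨⟨_, Char.IsIrrCharacter.linear_mul χ.2 ((f ^ j)⁻¹)⟩, ?_, fun n hn => ?_⟩
  · simp [Cfsg.charDegree]
  obtain ⟨k, rfl⟩ : ∃ k : ℕ, t ^ k = n :=
    (isOfFinOrder_of_finite t).mem_powers_iff_mem_zpowers.2 hn
  show (((f ^ j)⁻¹ (t ^ k) : ℂˣ) : ℂ) * (χ : X → ℂ) (t ^ k) = (((f ^ j)⁻¹ 1 : ℂˣ) : ℂ) * (χ : X → ℂ) 1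
  rw [hpow, map_one, Units.val_one, one_mul, ← hj, MonoidHom.inv_apply, MonoidHom.pow_apply, map_pow,
    Units.val_inv_eq_inv_val, Units.val_pow_eq_pow_val, Units.val_pow_eq_pow_val, ← pow_mul, ← pow_mul,
    mul_comm k j, mul_left_comm, inv_mul_cancel₀ (pow_ne_zero _ (Units.ne_zero _)), mul_one]

end CfsgLib.SmallSimple
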