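import Cfsg.Agent.Lib.SmallSimple.NonSimpleSixty
import Cfsg.Agent.Lib.SmallSimple.NonSimpleTwist
import Cfsg.Agent.Lib.DegGraph.Cyclic
import Mathlib.GroupTheory.SpecificGroups.Alternating.Simple
import Mathlib.GroupTheory.GroupAction.Quotient

/-!
Order 360: with an edge 2-5 and no edge 2-3 the group is simple. A non-simple group has six Sylow 5-subgroups, a
normal subgroup of order 3, and then either an induced degree divisible by 6 or no degree 10.
-/

set_option autoImplicit false
set_option linter.style.haveILetI false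

namespace CfsgLib.SmallSimple

open Subgroup MulAction CfsgLib CfsgLib.SmallOrder

universe u

section aux

variable {X : Type u} [Group X] [Finite X] [h5 : Fact (Nat.Prime 5)]

theorem good_seventy_two {m : ℕ} (hm : m ∣ 72) :
    ∀ q i, q.Prime → 0 < i → q ^ i ∣ m → ¬ 5 ∣ q ^ i - 1 :=
  fun q i hq h0 hi => good_of_divisors (r := 5) (M := 72) (by norm_num) (by decide +kernel) q i hq h0 (hi.trans hm)

omit h5 in
theorem not_five_dvd {m : ℕ} (hm : m ∣ 72) : ¬ 5 ∣ m := fun h => absurd (h.trans hm) (by norm_num)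

theorem twelve_dvd {m : ℕ} (hm : m ∣ 72) (hX : Nat.card X = 5 * m) (h1 : Nat.card (Sylow 5 X) ≠ 1) :
    12 ∣ m := by
  by_contra hc
  apply h1
  rcases (by decide +kernel : ∀ k ∈ (72 : ℕ).divisors, ¬ 12 ∣ k → k ∣ 18 ∨ k ∣ 8) m
    (Nat.mem_divisors.2 ⟨hm, by norm_num⟩) hc with h | h
  · exact card_sylow_eq_one_of_excluded (M := 18) (by norm_num)
      (good_of_divisors (by norm_num) (by decide +kernel))
      (fun k hk => (by decide +kernel : ∀ k ∈ (18 : ℕ).divisors, orderExcluded (5 * k) = true) k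
        (Nat.mem_divisors.2 ⟨hk, by norm_num⟩)) h hX
  · exact card_sylow_eq_one_of_excluded (M := 8) (by norm_num)
      (good_of_divisors (by norm_num) (by decide +kernel))
      (fun k hk => (by decide +kernel : ∀ k ∈ (8 : ℕ).divisors, orderExcluded (5 * k) = true) k
        (Nat.mem_divisors.2 ⟨hk, by norm_num⟩)) h hX

/-- Order 60 with several Sylow 5-subgroups is simple. -/
theorem simple_sixty (hX : Nat.card X = 60) (h1 : Nat.card (Sylow 5 X) ≠ 1) : IsSimpleGroup X := by
  rcases eq_one_or_simple (r := 5) (M := 12) (m := 12) (by norm_num)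
    (good_of_divisors (by norm_num) (by decide +kernel))
    (fun k hk hne => (by decide +kernel : ∀ k ∈ (12 : ℕ).properDivisors, orderExcluded (5 * k) = true) k
      (Nat.mem_properDivisors.2 ⟨hk, lt_of_le_of_ne (Nat.le_of_dvd (by norm_num) hk) hne⟩))
    dvd_rfl hX with h | ⟨-, h⟩
  · exact absurd h h1
  · exact h

/-- A quotient by a normal subgroup of order prime to 5 keeps several Sylow 5-subgroups. -/
theorem quotient_ne_one {m : ℕ} (hm : m ∣ 72) (hX : Nat.card X = 5 * m) (h1 : Nat.card (Sylow 5 X) ≠ 1)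
    (K : Subgroup X) [K.Normal] (hK : ¬ 5 ∣ Nat.card K) : Nat.card (Sylow 5 (X ⧸ K)) ≠ 1 := by
  intro hone
  have hm5 := not_five_dvd hm
  obtain ⟨R⟩ := (inferInstance : Nonempty (Sylow 5 X))
  haveI := normal_sup_sylow K hone R
  set W := K ⊔ (R : Subgroup X) with hW
  have hc : Nat.card W = 5 * Nat.card K := card_sup_sylow hX hm5 K hK R
  have hKm : Nat.card K ∣ m := Nat.dvd_of_mul_dvd_mul_left (by norm_num : 0 < 5)
    (hc ▸ hX ▸ W.card_subgroup_dvd_card)
  have hn : Nat.card (Sylow 5 W) ≠ 1 := by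
    rw [card_sylow_normal hX hm5 (hc ▸ dvd_mul_right 5 _)]; exact h1
  obtain ⟨R'⟩ := (inferInstance : Nonempty (Sylow 5 W))
  haveI : (K.subgroupOf W).Normal := Subgroup.normal_subgroupOf
  have hKW : Nat.card (K.subgroupOf W) = Nat.card K :=
    Nat.card_congr (Subgroup.subgroupOfEquivOfLe le_sup_left).toEquiv
  have hcW : Nat.card W = 5 * Nat.card (K.subgroupOf W) := by rw [hKW, hc]
  have hK5 : ¬ 5 ∣ Nat.card (K.subgroupOf W) := hKW.symm ▸ hK
  refine hn (card_sylow_eq_one_of_complement (K.subgroupOf W) R'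
    (Subgroup.eq_top_of_card_eq _ (by rw [card_sup_sylow hcW hK5 _ hK5 R', ← hcW]))
    (le_centralizer_of_all_good hcW hK5 _ hK5 (good_seventy_two (hKW ▸ hKm.trans hm)) R'))

/-- A normal subgroup of order prime to 5 centralises every Sylow 5-subgroup. -/
theorem le_centralizer_five {m : ℕ} (hm : m ∣ 72) (hX : Nat.card X = 5 * m) (K : Subgroup X) [K.Normal]
    (hK : ¬ 5 ∣ Nat.card K) (R : Sylow 5 X) : K ≤ centralizer ((R : Subgroup X) : Set X) := by
  refine le_centralizer_of_all_good hX (not_five_dvd hm) K hK (good_seventy_two ?_) R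
  have h : Nat.card K ∣ 5 * m := hX ▸ K.card_subgroup_dvd_card
  exact ((h5.out.coprime_iff_not_dvd.2 hK).symm.dvd_of_dvd_mul_left h).trans hm

/-- Burnside's transfer: a centralised normaliser gives a normal Sylow 5-subgroup. -/
theorem eq_one_of_normalizer_le_centralizer {m : ℕ} (hm : m ∣ 72) (hX : Nat.card X = 5 * m) (R : Sylow 5 X)
    (h : normalizer ((R : Subgroup X) : Set X) ≤ centralizer ((R : Subgroup X) : Set X)) :
    Nat.card (Sylow 5 X) = 1 := by
  set K := (MonoidHom.transferSylow R h).ker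
  have hK := MonoidHom.ker_transferSylow_isComplement' R h
  have hcard := hK.card_mul
  rw [sylow_card hX (not_five_dvd hm) R, hX, mul_comm] at hcard
  have hKm : Nat.card K = m := Nat.eq_of_mul_eq_mul_left (by norm_num : 0 < 5) hcard
  exact card_sylow_eq_one_of_complement K R hK.sup_eq_top
    (le_centralizer_five hm hX K (hKm.symm ▸ not_five_dvd hm) R)

theorem card_normalizer_mul_sylow {m : ℕ} (hX : Nat.card X = 5 * m) (R : Sylow 5 X) :
    Nat.card ↥(normalizer ((R : Subgroup X) : Set X)) * Nat.card (Sylow 5 X) = 5 * m := by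
  rw [show Nat.card (Sylow 5 X) = (normalizer ((R : Subgroup X) : Set X)).index from R.card_eq_index_normalizer,
    Subgroup.card_mul_index, hX]

/-- A non-simple group of order 360 with non-normal Sylow 5-subgroup has six of them. -/
theorem card_sylow_five_eq_six (hX : Nat.card X = 360) (h1 : Nat.card (Sylow 5 X) ≠ 1)
    (hs : ¬ IsSimpleGroup X) : Nat.card (Sylow 5 X) = 6 := by
  have hX' : Nat.card X = 5 * 72 := hX
  have hn5 : ¬ 5 ∣ 72 := by norm_num
  have hd := card_sylow_dvd hX' hn5
  have hmod := card_sylow_modEq_one 5 X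
  rw [Nat.ModEq] at hmod
  rcases (by decide +kernel : ∀ n ∈ (72 : ℕ).divisors, n % 5 = 1 % 5 → n = 1 ∨ n = 6 ∨ n = 36) _
    (Nat.mem_divisors.2 ⟨hd, by norm_num⟩) hmod with h | h | h36
  · exact absurd h h1
  · exact h
  exfalso
  haveI : Nontrivial X := Finite.one_lt_card_iff_nontrivial.1 (by rw [hX]; norm_num)
  obtain ⟨N, hN, hbot, htop⟩ : ∃ N : Subgroup X, N.Normal ∧ N ≠ ⊥ ∧ N ≠ ⊤ := by
    by_contra hc
    push Not at hc
    exact hs ⟨fun N hN => or_iff_not_imp_left.2 (hc N hN)⟩
  haveI := hN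
  rcases card_normal_cases hX' hn5 hbot htop with ⟨m', hN', hd', hlt⟩ | ⟨hrN, -⟩
  · have hm'5 := not_five_dvd hd'
    have hn : Nat.card (Sylow 5 N) = 36 := by rw [card_sylow_normal hX' hn5 (hN' ▸ dvd_mul_right 5 m'), h36]
    obtain ⟨R⟩ := (inferInstance : Nonempty (Sylow 5 N))
    have h36d : 36 ∣ m' := hn ▸ card_sylow_dvd hN' hm'5
    have hm' : m' = 36 := by obtain ⟨c, rfl⟩ := h36d; omega
    have hmul := card_normalizer_mul_sylow hN' R
    rw [hn, hm'] at hmul
    have heq : (R : Subgroup N) = normalizer ((R : Subgroup N) : Set N) :=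
      eq_of_le_of_card_ge le_normalizer (by rw [sylow_card hN' hm'5 R]; omega)
    have := eq_one_of_normalizer_le_centralizer hd' hN' R (heq.ge.trans (by
      haveI : IsCyclic ↥(R : Subgroup N) := isCyclic_of_prime_card (sylow_card hN' hm'5 R)
      exact fun a ha => mem_centralizer_iff.2 fun b hb =>
        congrArg Subtype.val (mul_comm' (⟨b, hb⟩ : ↥(R : Subgroup N)) ⟨a, ha⟩)))
    omega
  · obtain ⟨R⟩ := (inferInstance : Nonempty (Sylow 5 X))
    have hle := le_centralizer_five dvd_rfl hX' N hrN R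
    have hmul := card_normalizer_mul_sylow hX' R
    rw [h36] at hmul
    have hsup : N ⊔ (R : Subgroup X) = normalizer ((R : Subgroup X) : Set X) := by
      refine eq_of_le_of_card_ge (sup_le (hle.trans (centralizer_le_normalizer _)) le_normalizer) ?_
      rw [card_sup_sylow hX' hn5 N hrN R]
      have := N.one_lt_card_iff_ne_bot.2 hbot
      omega
    refine h1 (eq_one_of_normalizer_le_centralizer dvd_rfl hX' R (hsup.ge.trans (sup_le hle ?_)))
    haveI : IsCyclic ↥(R : Subgroup X) := isCyclic_of_prime_card (sylow_card hX' hn5 R)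
    exact fun a ha => mem_centralizer_iff.2 fun b hb =>
      congrArg Subtype.val (mul_comm' (⟨b, hb⟩ : ↥(R : Subgroup X)) ⟨a, ha⟩)

omit h5 in
/-- A subgroup of index at most 4 in the symmetric group of degree six contains the alternating group. -/
theorem three_sixty_le_of_index_le_four {α : Type u} [Fintype α] [DecidableEq α] (hα : Fintype.card α = 6)
    (H : Subgroup (Equiv.Perm α)) (hi : H.index ≤ 4) : 360 ≤ Nat.card H := by
  haveI : Nontrivial α := Fintype.one_lt_card_iff_nontrivial.1 (by omega)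
  have hA : Nat.card (alternatingGroup α) = 360 := by
    rw [nat_card_alternatingGroup, Nat.card_eq_fintype_card, hα]; rfl
  haveI := alternatingGroup.isSimpleGroup (α := α) (by rw [Nat.card_eq_fintype_card]; omega)
  have hcore : H.normalCore.index ∣ Nat.factorial H.index := by
    rw [Subgroup.normalCore_eq_ker, Subgroup.index_ker, Subgroup.index_eq_card, ← Nat.card_perm]
    exact Subgroup.card_subgroup_dvd_card _
  have hle : H.normalCore.index ≤ 24 := by
    refine Nat.le_trans (Nat.le_of_dvd (Nat.factorial_pos _) hcore) ?_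
    exact (Nat.factorial_le hi).trans (by norm_num [Nat.factorial])
  have hperm : Nat.card (Equiv.Perm α) = 720 := by
    rw [Nat.card_perm, Nat.card_eq_fintype_card, hα]; rfl
  rcases ((inferInstance : H.normalCore.Normal).subgroupOf (alternatingGroup α)).eq_bot_or_eq_top with h | h
  · exfalso
    have h2 : Nat.card H.normalCore ≤ 2 := by
      have h' : Nat.card H.normalCore * Nat.card (alternatingGroup α) ≤ Nat.card (Equiv.Perm α) := by
        rw [← Nat.card_prod]
        exact Nat.card_le_card_of_injective _ (Subgroup.mul_injective_of_disjoint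
          (disjoint_iff.2 (by rw [← Subgroup.subgroupOf_eq_bot.1 h |>.eq_bot])))
      rw [hA, hperm] at h'
      omega
    have := H.normalCore.card_mul_index
    rw [hperm] at this
    nlinarith
  · have h' := (Subgroup.subgroupOf_eq_top.1 h).trans H.normalCore_le
    exact hA ▸ Nat.le_of_dvd Nat.card_pos (Subgroup.card_dvd_of_le h')

/-- A non-simple group of order 360 with non-normal Sylow 5-subgroup has a normal subgroup of order 3. -/
theorem exists_normal_three (hX : Nat.card X = 360) (h1 : Nat.card (Sylow 5 X) ≠ 1) (hs : ¬ IsSimpleGroup X) :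
    ∃ T : Subgroup X, T.Normal ∧ Nat.card T = 3 := by
  classical
  haveI := Fintype.ofFinite (Sylow 5 X)
  have hX' : Nat.card X = 5 * 72 := hX
  have hn5 : ¬ 5 ∣ 72 := by norm_num
  have h6 := card_sylow_five_eq_six hX h1 hs
  set φ := MulAction.toPermHom X (Sylow 5 X)
  set K := φ.ker with hK
  have hK5 : ¬ 5 ∣ Nat.card K := by
    intro h
    haveI : Nontrivial (Sylow 5 X) := Finite.one_lt_card_iff_nontrivial.1 (by rw [h6]; norm_num)
    obtain ⟨R, S, hRS⟩ := exists_pair_ne (Sylow 5 X)
    refine hRS (Sylow.ext (eq_of_le_of_card_ge (fun x hx => ?_) (by rw [sylow_card hX' hn5, sylow_card hX' hn5])))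
    have hxK : x ∈ φ.ker := sylow_le_normal hX' hn5 h R hx
    have hxN : x ∈ normalizer ((S : Subgroup X) : Set X) :=
      Sylow.smul_eq_iff_mem_normalizer.1 (Equiv.ext_iff.1 (MonoidHom.mem_ker.1 hxK) S)
    exact ((R.2.inf_normalizer_sylow S).le ⟨hx, hxN⟩).2
  have hprod := K.card_mul_index
  rw [hX', Subgroup.index_eq_card] at hprod
  obtain ⟨j, hj⟩ : 5 ∣ Nat.card (X ⧸ K) :=
    ((h5.out).dvd_mul.1 (hprod ▸ dvd_mul_right 5 _)).resolve_left hK5
  have hkj : Nat.card K * j = 72 := Nat.eq_of_mul_eq_mul_left (by norm_num : 0 < 5) (by rw [← hprod, hj]; ring)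
  have h12 := twelve_dvd (Dvd.intro_left _ hkj) hj (quotient_ne_one dvd_rfl hX' h1 K hK5)
  obtain ⟨i, rfl⟩ := h12
  have hK6 : Nat.card K ∣ 6 := Nat.dvd_of_mul_dvd_mul_right (by norm_num : 0 < 12)
    (Dvd.intro i (by rw [mul_assoc]; exact hkj))
  -- the image in the symmetric group of degree six
  have hperm : Nat.card (Equiv.Perm (Sylow 5 X)) = 720 := by rw [Nat.card_perm, h6]; rfl
  have hαcard : Fintype.card (Sylow 5 X) = 6 := by rw [← Nat.card_eq_fintype_card, h6]
  have hrange : Nat.card φ.range * Nat.card K = 360 := by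
    rw [← Subgroup.index_ker, mul_comm, K.card_mul_index, hX]
  have hri := φ.range.card_mul_index
  rw [hperm] at hri
  rcases (by decide : ∀ k ∈ (6 : ℕ).divisors, k = 1 ∨ k = 2 ∨ k = 3 ∨ k = 6) _
    (Nat.mem_divisors.2 ⟨hK6, by norm_num⟩) with h | h | h | h
  · exfalso
    rw [h, mul_one] at hrange
    rw [hrange] at hri
    haveI : Nontrivial (Sylow 5 X) := Finite.one_lt_card_iff_nontrivial.1 (by rw [h6]; norm_num)
    have he := Equiv.Perm.eq_alternatingGroup_of_index_eq_two (G := φ.range) (by omega)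
    haveI := alternatingGroup.isSimpleGroup (α := Sylow 5 X) (by omega)
    have hinj : Function.Injective φ := (MonoidHom.ker_eq_bot_iff φ).1 (Subgroup.eq_bot_of_card_eq _ h)
    exact hs ((MonoidHom.ofInjective hinj).trans (MulEquiv.subgroupCongr he)).isSimpleGroup
  · exfalso
    rw [h] at hrange
    have h180 : Nat.card φ.range = 180 := by omega
    rw [h180] at hri
    have := three_sixty_le_of_index_le_four hαcard φ.range (by omega)
    omega
  · exact ⟨K, inferInstance, h⟩
  · haveI : Fact (Nat.Prime 3) := ⟨Nat.prime_three⟩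
    obtain ⟨P⟩ := (inferInstance : Nonempty (Sylow 3 K))
    have hK3 : Nat.card K = 3 * 2 := h
    haveI : Subsingleton (Sylow 3 K) := Finite.card_le_one_iff_subsingleton.1 (le_of_eq (by
      have hd := card_sylow_dvd hK3 (by norm_num)
      have hmod := card_sylow_modEq_one 3 K
      rw [Nat.ModEq] at hmod
      exact (by decide : ∀ n ∈ (2 : ℕ).divisors, n % 3 = 1 % 3 → n = 1) _
        (Nat.mem_divisors.2 ⟨hd, by norm_num⟩) hmod))
    haveI : (P : Subgroup K).Characteristic := inferInstance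
    refine ⟨(P : Subgroup K).map K.subtype, inferInstance, ?_⟩
    rw [← Nat.card_congr ((P : Subgroup K).equivMapOfInjective _ K.subtype_injective).toEquiv,
      sylow_card hK3 (by norm_num) P]

/-- A group of order 120 with non-normal Sylow 5-subgroup has no degree 10. -/
theorem degree_ne_ten_of_120 (hX : Nat.card X = 120) (h1 : Nat.card (Sylow 5 X) ≠ 1)
    (χ : Cfsg.IrrCharacter X) : Cfsg.charDegree (χ : X → ℂ) ≠ 10 := by
  classical
  intro h10
  cases nonempty_fintype X
  have hX' : Nat.card X = 5 * 24 := hX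
  have hn5 : ¬ 5 ∣ 24 := by norm_num
  have hm : (24 : ℕ) ∣ 72 := by norm_num
  by_cases hs : IsSimpleGroup X
  · exact card_ne_of_orderExcluded (not_comm_of_card_sylow h1) (by decide +kernel : orderExcluded 120 = true) hX
  haveI : Nontrivial X := Finite.one_lt_card_iff_nontrivial.1 (by rw [hX]; norm_num)
  obtain ⟨N, hN, hbot, htop⟩ : ∃ N : Subgroup X, N.Normal ∧ N ≠ ⊥ ∧ N ≠ ⊤ := by
    by_contra hc
    push Not at hc
    exact hs ⟨fun N hN => or_iff_not_imp_left.2 (hc N hN)⟩
  haveI := hN
  rcases card_normal_cases hX' hn5 hbot htop with ⟨m', hN', hd', hlt⟩ | ⟨hrN, m', hQ, hprod, hlt⟩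
  · -- a normal subgroup of order 60
    have hn : Nat.card (Sylow 5 N) ≠ 1 := by
      rw [card_sylow_normal hX' hn5 (hN' ▸ dvd_mul_right 5 m')]; exact h1
    obtain ⟨i, hi⟩ := twelve_dvd (hd'.trans hm) hN' hn
    have hi0 : i ≠ 0 := fun h => by simp [hi, h] at hN'
    have hm' : m' = 12 := by omega
    have h60 : Nat.card N = 60 := by rw [hN', hm']
    haveI := simple_sixty h60 hn
    haveI := Fintype.ofFinite N
    have hidx : N.index = 2 := by
      have := N.card_mul_index
      rw [h60, hX] at this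
      omega
    haveI : Fact (Nat.Prime 2) := ⟨Nat.prime_two⟩
    have hcyc : IsCyclic (X ⧸ N) := isCyclic_of_prime_card (p := 2) (by rw [← Subgroup.index_eq_card, hidx])
    obtain ⟨θ, hθ⟩ := DegGraph.exists_constituent_res χ N
    have hd := DegGraph.degree_eq_of_cyclic N hcyc χ θ hθ
    set T := CharTwist.inertia N (θ : N → ℂ) with hT
    have hTd : T.index ∣ 2 := hidx ▸ Subgroup.index_dvd_of_le
      (CharTwist.le_inertia N (Char.IsIrrCharacter.isClassFunction θ.2))
    have hdeg := degree_of_sixty h60 θ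
    rw [h10] at hd
    rcases (Nat.dvd_prime Nat.prime_two).1 hTd with hT1 | hT2
    · rw [hT1, one_mul] at hd
      simp only [← hd, List.mem_cons, List.not_mem_nil, or_false] at hdeg
      omega
    · rw [hT2] at hd
      have hθ5 : Cfsg.charDegree (θ : N → ℂ) = 5 := by omega
      obtain ⟨g, hg⟩ : ∃ g, g ∉ T := by
        by_contra hc
        push Not at hc
        rw [(Subgroup.eq_top_iff' T).2 hc, Subgroup.index_top] at hT2
        omega
      let θ' : Cfsg.IrrCharacter N := ⟨_, CharTwist.isIrrCharacter_conjFun N θ.2 g⟩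
      have hθ' : Cfsg.charDegree (θ' : N → ℂ) = 5 := by
        rw [← hθ5]
        show Cfsg.charDegree (CharTwist.conjFun N (θ : N → ℂ) g) = _
        simp [Cfsg.charDegree, CharTwist.conjFun_eq_comp]
      exact hg (hT ▸ CharTwist.mem_inertia.2 (congrArg Subtype.val (eq_of_degree_five h60 θ' θ hθ' hθ5)))
  · -- a central quotient of order 60
    have hne := quotient_ne_one hm hX' h1 N hrN
    have hm'd : m' ∣ 72 := (Dvd.intro_left _ hprod).trans hm
    obtain ⟨i, hi⟩ := twelve_dvd hm'd hQ hne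
    have hi0 : i ≠ 0 := fun h => by simp [hi, h] at hprod
    have hm' : m' = 12 := by omega
    haveI := Fintype.ofFinite (X ⧸ N)
    have h60 : Nat.card (X ⧸ N) = 60 := by rw [hQ, hm']
    have hχ : ¬ ∀ n ∈ N, (χ : X → ℂ) n = (χ : X → ℂ) 1 := by
      intro h
      obtain ⟨η, hη⟩ := (CharTools.quotientEquiv N).surjective ⟨χ, h⟩
      have he : Cfsg.charDegree (η : X ⧸ N → ℂ) = 10 := by
        rw [← CharTools.charDegree_quotientEquiv N η, hη, ← h10]
      have hle : Cfsg.charDegree (η : X ⧸ N → ℂ) ^ 2 ≤ 60 := by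
        rw [← h60, ← CharTools.sum_degree_sq']
        exact Finset.single_le_sum (f := fun φ : Cfsg.IrrCharacter (X ⧸ N) => Cfsg.charDegree (φ : X ⧸ N → ℂ) ^ 2)
          (fun _ _ => Nat.zero_le _) (Finset.mem_univ η)
      rw [he] at hle
      norm_num at hle
    let e : Cfsg.IrrCharacter (X ⧸ N) ↪ Cfsg.IrrCharacter X :=
      ⟨fun η => (CharTools.quotientEquiv N η).1,
        fun a b h => (CharTools.quotientEquiv N).injective (Subtype.ext h)⟩
    have hnot : χ ∉ Finset.univ.map e := by
      rw [Finset.mem_map]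
      rintro ⟨η, -, rfl⟩
      exact hχ (CharTools.quotientEquiv N η).2
    have hsum := Finset.sum_le_sum_of_subset (f := fun φ : Cfsg.IrrCharacter X => Cfsg.charDegree (φ : X → ℂ) ^ 2)
      (Finset.subset_univ (insert χ (Finset.univ.map e)))
    rw [Finset.sum_insert hnot, Finset.sum_map, CharTools.sum_degree_sq', hX, h10] at hsum
    have h60' : ∑ η : Cfsg.IrrCharacter (X ⧸ N), Cfsg.charDegree ((e η) : X → ℂ) ^ 2 = 60 := by
      rw [← h60, ← CharTools.sum_degree_sq']
      exact Finset.sum_congr rfl fun η _ => rfl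
    rw [h60'] at hsum
    norm_num at hsum

end aux

/-- An edge between 2 and 5 means a degree 10. -/
theorem exists_degree_ten {G : Type u} [Group G] [Finite G] (hG : Nat.card G = 360)
    (h : (Cfsg.degreeGraph G).Adj 2 5) : ∃ χ : Cfsg.IrrCharacter G, Cfsg.charDegree (χ : G → ℂ) = 10 := by
  classical
  cases nonempty_fintype G
  obtain ⟨-, -, -, d, ⟨χ, rfl⟩, hd⟩ := h
  refine ⟨χ, ?_⟩
  have hle : Cfsg.charDegree (χ : G → ℂ) ^ 2 ≤ 360 := by
    rw [← hG, ← CharTools.sum_degree_sq']
    exact Finset.single_le_sum (f := fun φ : Cfsg.IrrCharacter G => Cfsg.charDegree (φ : G → ℂ) ^ 2)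
      (fun _ _ => Nat.zero_le _) (Finset.mem_univ χ)
  have h0 := CharTools.irr_degree_pos χ
  obtain ⟨c, hc⟩ := hd
  rw [hc] at hle h0 ⊢
  have : c < 2 := by nlinarith
  omega

/-- A group of order 360 with edge 2-5 and no edge 2-3 is simple. -/
theorem simple_360 {G : Type u} [Group G] [Finite G] (h : Nat.card G = 360)
    (hp : 5 ∈ Cfsg.degreePrimes G) (h25 : (Cfsg.degreeGraph G).Adj 2 5)
    (h23 : ¬ (Cfsg.degreeGraph G).Adj 2 3) : IsSimpleGroup G := by
  classical
  haveI : Fact (Nat.Prime 5) := ⟨by norm_num⟩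
  haveI : Fact (Nat.Prime 2) := ⟨Nat.prime_two⟩
  haveI : Fact (Nat.Prime 3) := ⟨Nat.prime_three⟩
  cases nonempty_fintype G
  have hX : Nat.card G = 5 * 72 := h
  have hn5 : ¬ 5 ∣ 72 := by norm_num
  have h1 := card_sylow_ne_one hX hn5 hp
  by_contra hs
  obtain ⟨T, hT, hT3⟩ := exists_normal_three h h1 hs
  haveI := hT
  obtain ⟨t, ht⟩ : ∃ t : G, zpowers t = T ∧ orderOf t = 3 := by
    obtain ⟨x, hx⟩ := exists_prime_orderOf_dvd_card' 3 (G := T) (hT3.symm ▸ dvd_rfl)
    refine ⟨x, eq_of_le_of_card_ge (zpowers_le.2 x.2) ?_, by rw [Subgroup.orderOf_coe, hx]⟩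
    rw [hT3, Nat.card_zpowers, Subgroup.orderOf_coe, hx]
  obtain ⟨htT, ht3⟩ := ht
  have hT5 : ¬ 5 ∣ Nat.card T := by rw [hT3]; norm_num
  set C := centralizer (T : Set G) with hC
  haveI : C.Normal := Subgroup.normal_centralizer
  have htC : ∀ g ∈ C, g * t = t * g := fun g hg =>
    (mem_centralizer_iff.1 hg t (htT ▸ mem_zpowers t)).symm
  have hC2 : C.index ∣ 2 := by
    haveI : IsCyclic T := isCyclic_of_prime_card hT3
    have hker : (MulAut.conjNormal (H := T) : G →* MulAut T).ker ≤ C := fun g hg =>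
      mem_centralizer_iff.2 fun x hx => by
        have := congrArg Subtype.val (DFunLike.congr_fun (MonoidHom.mem_ker.1 hg) (⟨x, hx⟩ : T))
        simp only [MulAut.conjNormal_apply, MulAut.one_apply] at this
        exact (mul_inv_eq_iff_eq_mul.1 this).symm
    refine (Subgroup.index_dvd_of_le hker).trans ?_
    rw [Subgroup.index_ker]
    refine (Subgroup.card_subgroup_dvd_card _).trans (dvd_of_eq ?_)
    rw [IsCyclic.card_mulAut, hT3]
    rfl
  by_cases hCtop : C = ⊤
  · -- `T` central: the degree 10 comes from the quotient of order 120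
    have htc : t ∈ Subgroup.center G := Subgroup.mem_center_iff.2 fun g => htC g (hCtop ▸ Subgroup.mem_top g)
    obtain ⟨f, hf⟩ := exists_linear_ne_one htc ht3 (by rw [h]; norm_num) (by rw [h]; norm_num)
    obtain ⟨χ, hχ⟩ := exists_degree_ten h h25
    obtain ⟨χ', hd, hker⟩ := exists_twist htc ht3 f hf χ
    obtain ⟨η, hη⟩ := (CharTools.quotientEquiv T).surjective ⟨χ', fun n hn => hker n (htT.symm ▸ hn)⟩
    haveI := Fintype.ofFinite (G ⧸ T)
    have hQ : Nat.card (G ⧸ T) = 120 := by
      have := T.card_mul_index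
      rw [hT3, h, Subgroup.index_eq_card] at this
      omega
    refine degree_ne_ten_of_120 hQ (quotient_ne_one dvd_rfl hX h1 T hT5) η ?_
    rw [← CharTools.charDegree_quotientEquiv T η, hη, hd, hχ]
  -- `T` not central: an induced degree divisible by 6
  have hCidx : C.index = 2 := ((Nat.dvd_prime Nat.prime_two).1 hC2).resolve_left
    fun h' => hCtop (Subgroup.index_eq_one.1 h')
  have hCcard : Nat.card C = 180 := by
    have := C.card_mul_index
    rw [hCidx, h] at this
    omega
  haveI := Fintype.ofFinite C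
  have hCyc : IsCyclic (G ⧸ C) := isCyclic_of_prime_card (p := 2) (by rw [← Subgroup.index_eq_card, hCidx])
  have htmem : t ∈ C := mem_centralizer_iff.2 fun x hx => by
    obtain ⟨i, rfl⟩ := mem_zpowers_iff.1 (htT.symm ▸ hx : x ∈ zpowers t)
    exact ((Commute.refl t).zpow_left i).eq
  set tC : C := ⟨t, htmem⟩ with htCdef
  have htc : tC ∈ Subgroup.center C := Subgroup.mem_center_iff.2 fun g => Subtype.ext (htC g g.2)
  have ht3' : orderOf tC = 3 := by rw [← Subgroup.orderOf_coe]; exact ht3
  obtain ⟨f, hf⟩ := exists_linear_ne_one htc ht3' (by rw [hCcard]; norm_num) (by rw [hCcard]; norm_num)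
  set T' := zpowers tC with hT'
  haveI : T'.Normal := ⟨fun x hx g => by
    obtain ⟨i, rfl⟩ := mem_zpowers_iff.1 hx
    rw [Subgroup.mem_center_iff.1 (zpow_mem htc i) g, mul_inv_cancel_right]
    exact hx⟩
  have hT'3 : Nat.card T' = 3 := by rw [hT', Nat.card_zpowers, ht3']
  have hC180 : Nat.card C = 5 * 36 := hCcard
  have hC5 : Nat.card (Sylow 5 C) ≠ 1 := by
    rw [card_sylow_normal hX hn5 (N := C) (hC180 ▸ dvd_mul_right 5 36)]; exact h1
  have hQ : Nat.card (C ⧸ T') = 60 := by
    have := T'.card_mul_index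
    rw [hT'3, hCcard, Subgroup.index_eq_card] at this
    omega
  haveI := simple_sixty hQ (quotient_ne_one (by norm_num : 36 ∣ 72) hC180 hC5 T' (by rw [hT'3]; norm_num))
  obtain ⟨η, hη⟩ := exists_three_dvd_degree hQ
  set θ₀ := (CharTools.quotientEquiv T' η).1 with hθ₀
  let ψ : Cfsg.IrrCharacter C := ⟨_, Char.IsIrrCharacter.linear_mul θ₀.2 f⟩
  have hψdeg : Cfsg.charDegree (ψ : C → ℂ) = Cfsg.charDegree (η : C ⧸ T' → ℂ) := by
    rw [← CharTools.charDegree_quotientEquiv T' η]
    simp [ψ, Cfsg.charDegree, hθ₀]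
  obtain ⟨χ, hχ⟩ := Blk83.exists_over C ψ
  have hd := DegGraph.degree_eq_of_cyclic C hCyc χ ψ hχ
  set I := CharTwist.inertia C (ψ : C → ℂ) with hI
  have hI2 : I.index ∣ 2 := hCidx ▸ Subgroup.index_dvd_of_le
    (CharTwist.le_inertia C (Char.IsIrrCharacter.isClassFunction ψ.2))
  have hI1 : I.index ≠ 1 := by
    intro hI1
    obtain ⟨g, hg⟩ : ∃ g, g ∉ C := by
      by_contra hc
      push Not at hc
      exact hCtop ((Subgroup.eq_top_iff' C).2 hc)
    have hgI : g ∈ I := (Subgroup.index_eq_one.1 hI1).symm ▸ Subgroup.mem_top g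
    have heq := congrFun (CharTwist.mem_inertia.1 (hI ▸ hgI)) tC
    have hgt : g * t * g⁻¹ ∈ zpowers t := by
      rw [htT]; exact hT.conj_mem t (htT ▸ mem_zpowers t) g
    obtain ⟨k, hk, hk'⟩ : ∃ k < 3, t ^ k = g * t * g⁻¹ := by
      obtain ⟨k, hk⟩ := (isOfFinOrder_of_finite t).mem_powers_iff_mem_zpowers.2 hgt
      exact ⟨k % 3, Nat.mod_lt _ (by norm_num), by rw [← ht3, pow_mod_orderOf]; exact hk⟩
    have hk2 : k = 2 := by
      interval_cases k
      · exfalso
        rw [pow_zero] at hk'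
        have : t = 1 := conj_eq_one_iff.1 hk'.symm
        rw [this, orderOf_one] at ht3
        omega
      · exfalso
        refine hg (mem_centralizer_iff.2 fun x hx => ?_)
        obtain ⟨i, rfl⟩ := mem_zpowers_iff.1 (htT.symm ▸ hx : x ∈ zpowers t)
        rw [pow_one] at hk'
        have hc : Commute g t := mul_inv_eq_iff_eq_mul.1 hk'.symm
        exact (hc.zpow_right i).eq.symm
      · rfl
    have hconj : (⟨g * tC * g⁻¹, (inferInstance : C.Normal).conj_mem _ tC.2 g⟩ : C) = tC ^ 2 :=
      Subtype.ext (by rw [← hk2]; exact hk'.symm)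
    simp only [CharTwist.conjFun] at heq
    rw [hconj] at heq
    have hval : ∀ z ∈ T', (ψ : C → ℂ) z = (f z : ℂ) * (η : C ⧸ T' → ℂ) 1 := fun z hz => by
      show (f z : ℂ) * (θ₀ : C → ℂ) z = _
      rw [hθ₀, CharTools.quotientEquiv_apply, (QuotientGroup.eq_one_iff z).2 hz]
    rw [hval _ (pow_mem (mem_zpowers tC) 2), hval _ (mem_zpowers tC)] at heq
    have h2 := Units.ext (mul_right_cancel₀ (CharTools.irr_apply_one_ne_zero η) heq)
    rw [map_pow, pow_two, mul_eq_left] at h2
    exact hf h2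
  have hI2' : I.index = 2 := ((Nat.dvd_prime Nat.prime_two).1 hI2).resolve_left hI1
  rw [hI2', hψdeg] at hd
  exact h23 ⟨by norm_num, Nat.prime_two, Nat.prime_three, _, ⟨χ, rfl⟩, hd ▸ Nat.mul_dvd_mul_left 2 hη⟩

end CfsgLib.SmallSimple
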