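import Cfsg.Agent.Lib.SmallSimple.NonSimpleSylow
import Cfsg.Agent.Lib.SmallOrder.Auto
import Cfsg.Agent.Lib.Char.Ito
import Cfsg.Agent.Lib.CharTools.Basic
import Cfsg.Agent.Lib.Blk83.ItoMichler
import Cfsg.Prelude.Def_DegreeGraph
import Mathlib.GroupTheory.GroupAction.ConjAct

/-!
Groups of order `r * m` with a non-normal Sylow `r`-subgroup: the recursion over normal subgroups, and what the
degree primes say about normal subgroups.
-/

set_option autoImplicit false
set_option linter.style.haveILetI false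

namespace CfsgLib.SmallSimple

open Subgroup MulAction CfsgLib.SmallOrder

universe u

section degrees

variable {G : Type u} [Group G] [Finite G]

/-- Itô: a prime dividing a degree divides the index of each abelian normal subgroup. -/
theorem dvd_index_of_mem_degreePrimes {p : ℕ} (hp : p ∈ Cfsg.degreePrimes G) (A : Subgroup G) [A.Normal]
    [IsMulCommutative A] : p ∣ A.index := by
  obtain ⟨-, d, ⟨χ, rfl⟩, hd⟩ := hp
  obtain ⟨n, ρ, hρ, he⟩ := χ.2
  haveI := hρ
  have hA : ∀ a ∈ A, ∀ b ∈ A, a * b = b * a := fun a ha b hb =>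
    congrArg Subtype.val (mul_comm' (⟨a, ha⟩ : A) ⟨b, hb⟩)
  rw [← he, show Cfsg.charDegree ρ.character = CfsgLib.Char.degree ρ.character from rfl,
    CfsgLib.Char.degree_character] at hd
  exact hd.trans (CfsgLib.Char.finrank_dvd_index_of_abelian_normal ρ A hA)

/-- A prime dividing a degree has a non-normal Sylow subgroup when that subgroup has prime order. -/
theorem card_sylow_ne_one {r m : ℕ} [hr : Fact r.Prime] (hG : Nat.card G = r * m) (hm : ¬ r ∣ m)
    (hp : r ∈ Cfsg.degreePrimes G) : Nat.card (Sylow r G) ≠ 1 := fun h => by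
  obtain ⟨R⟩ := (inferInstance : Nonempty (Sylow r G))
  haveI : Subsingleton (Sylow r G) := Finite.card_le_one_iff_subsingleton.1 h.le
  haveI := R.normal_of_subsingleton
  haveI : IsCyclic ↥(R : Subgroup G) := isCyclic_of_prime_card (sylow_card hG hm R)
  exact hm (sylow_index hG hm R ▸ dvd_index_of_mem_degreePrimes hp (R : Subgroup G))

/-- Degrees of a quotient are degrees. -/
theorem mem_charDegrees_of_quotient (N : Subgroup G) [N.Normal] {d : ℕ}
    (h : d ∈ Cfsg.charDegrees (G ⧸ N)) : d ∈ Cfsg.charDegrees G := by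
  obtain ⟨η, rfl⟩ := h
  exact ⟨(CharTools.quotientEquiv N η).1, CharTools.charDegree_quotientEquiv N η⟩

/-- A degree of a normal subgroup divides a degree. -/
theorem exists_dvd_of_normal (N : Subgroup G) [N.Normal] {d : ℕ} (h : d ∈ Cfsg.charDegrees N) :
    ∃ d' ∈ Cfsg.charDegrees G, d ∣ d' := by
  haveI := Fintype.ofFinite N
  obtain ⟨θ, rfl⟩ := h
  obtain ⟨χ, hχ⟩ := Blk83.exists_over N θ
  exact ⟨_, ⟨χ, rfl⟩, (Dvd.intro _ rfl).trans (Blk83.dvd_of_constituent N χ θ hχ)⟩

theorem adj_of_quotient (N : Subgroup G) [N.Normal] {s t : ℕ}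
    (h : (Cfsg.degreeGraph (G ⧸ N)).Adj s t) : (Cfsg.degreeGraph G).Adj s t := by
  obtain ⟨hne, hs, ht, d, hd, hdvd⟩ := h
  exact ⟨hne, hs, ht, d, mem_charDegrees_of_quotient N hd, hdvd⟩

theorem adj_of_normal (N : Subgroup G) [N.Normal] {s t : ℕ}
    (h : (Cfsg.degreeGraph N).Adj s t) : (Cfsg.degreeGraph G).Adj s t := by
  obtain ⟨hne, hs, ht, d, hd, hdvd⟩ := h
  obtain ⟨d', hd', hdd⟩ := exists_dvd_of_normal N hd
  exact ⟨hne, hs, ht, d', hd', hdvd.trans hdd⟩

end degrees

variable {r : ℕ} [hr : Fact r.Prime]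

omit hr in
/-- A simple group with several Sylow subgroups of order `r` is not abelian. -/
theorem not_comm_of_card_sylow {X : Type*} [Group X] [Finite X] [Fact r.Prime]
    (h : Nat.card (Sylow r X) ≠ 1) : ¬ IsMulCommutative X := fun hc => h (by
  obtain ⟨R⟩ := (inferInstance : Nonempty (Sylow r X))
  haveI : (R : Subgroup X).Normal := ⟨fun x hx g => by rw [mul_comm' g x, mul_inv_cancel_right]; exact hx⟩
  haveI := Sylow.unique_of_normal R inferInstance
  exact Nat.card_unique)

theorem card_normal_cases {X : Type*} [Group X] [Finite X] {m : ℕ} (hX : Nat.card X = r * m) (hm : ¬ r ∣ m)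
    {N : Subgroup X} [N.Normal] (hbot : N ≠ ⊥) (htop : N ≠ ⊤) :
    (∃ m', Nat.card N = r * m' ∧ m' ∣ m ∧ m' < m) ∨
      (¬ r ∣ Nat.card N ∧ ∃ m', Nat.card (X ⧸ N) = r * m' ∧ Nat.card N * m' = m ∧ m' < m) := by
  have h := N.card_mul_index
  rw [hX] at h
  have hpos : 0 < m := Nat.pos_of_ne_zero fun h0 => hm (h0 ▸ dvd_zero r)
  by_cases hN : r ∣ Nat.card N
  · left
    obtain ⟨m', hm'⟩ := hN
    rw [hm', mul_assoc] at h
    have h' := Nat.eq_of_mul_eq_mul_left hr.out.pos h
    have h1 : 1 < N.index := N.one_lt_index_of_ne_top htop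
    refine ⟨m', hm', Dvd.intro _ h', ?_⟩
    rw [← h']
    exact lt_mul_of_one_lt_right (Nat.pos_of_ne_zero fun h0 => by simp [h0] at h'; omega) h1
  · right
    refine ⟨hN, ?_⟩
    obtain ⟨m', hm'⟩ : r ∣ N.index := (hr.out.dvd_mul.1 (h ▸ dvd_mul_right r m)).resolve_left hN
    have h' : Nat.card N * m' = m :=
      Nat.eq_of_mul_eq_mul_left hr.out.pos (by rw [← h, hm']; ring)
    refine ⟨m', by rw [← Subgroup.index_eq_card, hm'], h', ?_⟩
    rw [← h']
    exact lt_mul_of_one_lt_left (Nat.pos_of_ne_zero fun h0 => by simp [h0] at h'; omega)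
      (N.one_lt_card_iff_ne_bot.2 hbot)

theorem eq_one_or_simple_aux {M : ℕ} (hMr : ¬ r ∣ M)
    (good : ∀ q i, q.Prime → 0 < i → q ^ i ∣ M → ¬ r ∣ q ^ i - 1)
    (hex : ∀ m, m ∣ M → m ≠ M → orderExcluded (r * m) = true) (m : ℕ) :
    ∀ (X : Type u) [Group X] [Finite X], m ∣ M → Nat.card X = r * m →
      Nat.card (Sylow r X) = 1 ∨ (m = M ∧ IsSimpleGroup X) := by
  induction m using Nat.strong_induction_on with
  | h m ih =>
    intro X _ _ hmM hX
    have hm : ¬ r ∣ m := fun h => hMr (h.trans hmM)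
    have hM : 0 < M := Nat.pos_of_ne_zero fun h0 => hMr (h0 ▸ dvd_zero r)
    rcases eq_or_ne (Nat.card (Sylow r X)) 1 with h1 | h1
    · exact Or.inl h1
    by_cases hs : IsSimpleGroup X
    · rcases eq_or_ne m M with h | h
      · exact Or.inr ⟨h, hs⟩
      · exact absurd hX (card_ne_of_orderExcluded (not_comm_of_card_sylow h1) (hex m hmM h))
    -- a proper normal subgroup
    have hlt : ∀ m', m' < m → m' ≠ M := fun m' h he => by
      have := Nat.le_of_dvd hM hmM
      omega
    haveI : Nontrivial X := Finite.one_lt_card_iff_nontrivial.1 (by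
      have := hr.out.two_le
      have hmpos : 0 < m := Nat.pos_of_ne_zero fun h => hm (h ▸ dvd_zero r)
      nlinarith)
    obtain ⟨N, hN, hbot, htop⟩ : ∃ N : Subgroup X, N.Normal ∧ N ≠ ⊥ ∧ N ≠ ⊤ := by
      by_contra hc
      push Not at hc
      exact hs ⟨fun N hN => or_iff_not_imp_left.2 (hc N hN)⟩
    haveI := hN
    rcases card_normal_cases hX hm hbot htop with ⟨m', hN', hd, hlt'⟩ | ⟨hrN, m', hQ, hprod, hlt'⟩
    · rcases ih m' hlt' N (hd.trans hmM) hN' with h | ⟨h, -⟩
      · exact absurd (card_sylow_normal hX hm (hN' ▸ dvd_mul_right r m') ▸ h) h1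
      · exact absurd h (hlt m' hlt')
    · rcases ih m' hlt' (X ⧸ N) ((Dvd.intro_left _ hprod).trans hmM) hQ with h | ⟨h, -⟩
      · obtain ⟨R⟩ := (inferInstance : Nonempty (Sylow r X))
        haveI := normal_sup_sylow N h R
        have hc := card_sup_sylow hX hm N hrN R
        by_cases ht : N ⊔ (R : Subgroup X) = ⊤
        · exact absurd (card_sylow_eq_one_of_complement N R ht (le_centralizer_of_all_good hX hm N hrN
            (fun q i hq h0 hi => good q i hq h0
              (hi.trans ((Dvd.intro _ hprod).trans hmM))) R)) h1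
        · have hlt2 : Nat.card N < m := by
            have h2 : Nat.card ↥(N ⊔ (R : Subgroup X)) < Nat.card X :=
              lt_of_not_ge fun h => ht (Subgroup.eq_top_of_le_card _ h)
            rw [hc, hX] at h2
            exact Nat.lt_of_mul_lt_mul_left h2
          rcases ih _ hlt2 ↥(N ⊔ (R : Subgroup X)) ((Dvd.intro _ hprod).trans hmM) hc with h' | ⟨h', -⟩
          · exact absurd (card_sylow_normal hX hm (hc ▸ dvd_mul_right r _) ▸ h') h1
          · exact absurd h' (hlt _ hlt2)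
      · exact absurd h (hlt m' hlt')

/-- Without exceptional prime powers and intermediate simple orders, a non-normal Sylow subgroup of prime
order forces simplicity. -/
theorem eq_one_or_simple {M : ℕ} (hMr : ¬ r ∣ M)
    (good : ∀ q i, q.Prime → 0 < i → q ^ i ∣ M → ¬ r ∣ q ^ i - 1)
    (hex : ∀ m, m ∣ M → m ≠ M → orderExcluded (r * m) = true) {X : Type u} [Group X] [Finite X] {m : ℕ}
    (hmM : m ∣ M) (hX : Nat.card X = r * m) :
    Nat.card (Sylow r X) = 1 ∨ (m = M ∧ IsSimpleGroup X) :=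
  eq_one_or_simple_aux hMr good hex m X hmM hX

/-- When every order is excluded, the Sylow subgroup is normal. -/
theorem card_sylow_eq_one_of_excluded {M : ℕ} (hMr : ¬ r ∣ M)
    (good : ∀ q i, q.Prime → 0 < i → q ^ i ∣ M → ¬ r ∣ q ^ i - 1)
    (hex : ∀ m, m ∣ M → orderExcluded (r * m) = true) {X : Type u} [Group X] [Finite X] {m : ℕ}
    (hmM : m ∣ M) (hX : Nat.card X = r * m) : Nat.card (Sylow r X) = 1 := by
  rcases eq_one_or_simple hMr good (fun m h _ => hex m h) hmM hX with h | ⟨-, hs⟩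
  · exact h
  · by_contra h
    exact card_ne_of_orderExcluded (not_comm_of_card_sylow h) (hex m hmM) hX

/-- Congruence test for the exceptional prime powers of a number. -/
theorem good_of_divisors {M : ℕ} (hM : M ≠ 0)
    (h : ∀ n ∈ M.divisors, n % r = 1 → n = 1 ∨ ∃ a ∈ [2, 3, 5, 7], ∃ b ∈ [2, 3, 5, 7],
      a ≠ b ∧ a ∣ n ∧ b ∣ n) :
    ∀ q i, q.Prime → 0 < i → q ^ i ∣ M → ¬ r ∣ q ^ i - 1 := by
  intro q i hq hi hd hr'
  have hmod : q ^ i % r = 1 := by
    have := (Nat.modEq_iff_dvd' (Nat.one_le_pow i q hq.pos)).2 hr'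
    rw [Nat.ModEq, Nat.mod_eq_of_lt hr.out.one_lt] at this
    exact this.symm
  rcases h _ (Nat.mem_divisors.2 ⟨hd, hM⟩) hmod with h1 | ⟨a, ha, b, hb, hab, hda, hdb⟩
  · exact absurd h1 (Nat.one_lt_pow hi.ne' hq.one_lt).ne'
  · have key : ∀ a ∈ [2, 3, 5, 7], a ∣ q ^ i → a = q := by
      intro a ha hda
      have hap : a.Prime := by fin_cases ha <;> norm_num
      exact (Nat.prime_dvd_prime_iff_eq hap hq).1 (hap.dvd_of_dvd_pow hda)
    exact hab ((key a ha hda).trans (key b hb hdb).symm)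

end CfsgLib.SmallSimple
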