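import Cfsg.Agent.Lib.SmallSimple.NonSimpleExceptional
import Cfsg.Agent.S0495
import Cfsg.Agent.S4774
import Mathlib.Algebra.Field.ZMod

/-!
Orders 168, 5616 and 504: a chief factor of order `2 ^ 3` or `3 ^ 3` is a normal abelian Sylow subgroup.
-/

set_option autoImplicit false

namespace CfsgLib.SmallSimple

open CfsgLib.SmallOrder

universe u v

theorem good_except_of_divisors {r M q b : ℕ} [hr : Fact r.Prime] [hq : Fact q.Prime] (hM : M ≠ 0)
    (h : ∀ n ∈ M.divisors, n % r = 1 → n = 1 ∨ n = q ^ b ∨ ∃ a ∈ [2, 3, 5, 7], ∃ c ∈ [2, 3, 5, 7],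
      a ≠ c ∧ a ∣ n ∧ c ∣ n) :
    ∀ p i, p.Prime → 0 < i → p ^ i ∣ M → r ∣ p ^ i - 1 → p = q ∧ i = b := by
  intro p i hp hi hd hr'
  have hmod : p ^ i % r = 1 := by
    have := (Nat.modEq_iff_dvd' (Nat.one_le_pow i p hp.pos)).2 hr'
    rw [Nat.ModEq, Nat.mod_eq_of_lt hr.out.one_lt] at this
    exact this.symm
  rcases h _ (Nat.mem_divisors.2 ⟨hd, hM⟩) hmod with h1 | h1 | ⟨a, ha, c, hc, hac, hda, hdc⟩
  · exact absurd h1 (Nat.one_lt_pow hi.ne' hp.one_lt).ne'
  · have hpq : p = q := (Nat.prime_dvd_prime_iff_eq hp hq.out).1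
      (hp.dvd_of_dvd_pow (h1 ▸ dvd_pow_self p hi.ne'))
    subst hpq
    exact ⟨rfl, Nat.pow_right_injective hp.two_le h1⟩
  · have key : ∀ a ∈ [2, 3, 5, 7], a ∣ p ^ i → a = p := by
      intro a ha hda
      have hap : a.Prime := by fin_cases ha <;> norm_num
      exact (Nat.prime_dvd_prime_iff_eq hap hp).1 (hap.dvd_of_dvd_pow hda)
    exact absurd ((key a ha hda).trans (key c hc hdc).symm) hac

/-- The small cases below the exceptional power. -/
theorem small_of_excluded {r M M' q b : ℕ} [Fact r.Prime] (hM : M ≠ 0) (hMr : ¬ r ∣ M')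
    (hdiv : ∀ m ∈ M.divisors, ¬ q ^ b ∣ m → m ∣ M')
    (good : ∀ n ∈ M'.divisors, n % r = 1 → n = 1 ∨ ∃ a ∈ [2, 3, 5, 7], ∃ c ∈ [2, 3, 5, 7],
      a ≠ c ∧ a ∣ n ∧ c ∣ n)
    (hex : ∀ m ∈ M'.divisors, orderExcluded (r * m) = true) :
    ∀ m, m ∣ M → ¬ q ^ b ∣ m → ∀ (X : Type u) [Group X] [Finite X],
      Nat.card X = r * m → Nat.card (Sylow r X) = 1 := by
  intro m hm hq X _ _ hX
  have hM' : M' ≠ 0 := fun h => hMr (h ▸ dvd_zero r)
  exact card_sylow_eq_one_of_excluded hMr (good_of_divisors hM' good)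
    (fun k hk => hex k (Nat.mem_divisors.2 ⟨hk, hM'⟩)) (hdiv m (Nat.mem_divisors.2 ⟨hm, hM⟩) hq) hX

theorem excluded_simple {r M : ℕ} (s t : ℕ) (hM : M ≠ 0)
    (hex : ∀ m ∈ M.properDivisors, orderExcluded (r * m) = true) :
    ∀ m, m ∣ M → m ≠ M → ∀ (X : Type u) [Group X] [Finite X] [IsSimpleGroup X],
      ¬ IsMulCommutative X → Nat.card X = r * m → (Cfsg.degreeGraph X).Adj s t :=
  fun m hm hne _ _ _ _ hG hX => absurd hX (card_ne_of_orderExcluded hG (hex m (Nat.mem_properDivisors.2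
    ⟨hm, lt_of_le_of_ne (Nat.le_of_dvd (Nat.pos_of_ne_zero hM) hm) hne⟩)))

/-- A simple group of order `168` has a degree divisible by `6`. -/
theorem adj_two_three_of_simple_168 {X : Type u} [Group X] [Finite X] [IsSimpleGroup X]
    (h : Nat.card X = 168) : (Cfsg.degreeGraph X).Adj 2 3 := by
  haveI : Fact (Nat.Prime 7) := ⟨by norm_num⟩
  have hF : Fintype.card (ZMod 7) = 7 := ZMod.card 7
  refine ((Cfsg.Agent.S4774.result (ZMod 7) 7 (by norm_num) 7 hF (by norm_num)
    (Or.inl (Cfsg.Agent.S0495.result h hF))).2 2 3).2 ?_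
  norm_num

variable {G : Type u} [Group G] [Finite G]

theorem simple_168 (h : Nat.card G = 168) (h2 : 2 ∈ Cfsg.degreePrimes G) (h7 : 7 ∈ Cfsg.degreePrimes G) :
    IsSimpleGroup G :=
  have : Fact (Nat.Prime 7) := ⟨by norm_num⟩
  have : Fact (Nat.Prime 2) := ⟨Nat.prime_two⟩
  exceptional (r := 7) (M := 24) (q := 2) (b := 3) 0 0 (by norm_num) (by norm_num) (by norm_num)
    (by norm_num) (good_except_of_divisors (by norm_num) (by decide +kernel))
    (small_of_excluded (M' := 12) (by norm_num) (by norm_num) (by decide +kernel) (by decide +kernel)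
      (by decide +kernel))
    (excluded_simple 0 0 (by norm_num) (by decide +kernel)) h h7 h2 (fun h => h.1 rfl)

theorem simple_5616 (h : Nat.card G = 5616) (h3 : 3 ∈ Cfsg.degreePrimes G) (h13 : 13 ∈ Cfsg.degreePrimes G) :
    IsSimpleGroup G :=
  have : Fact (Nat.Prime 13) := ⟨by norm_num⟩
  have : Fact (Nat.Prime 3) := ⟨Nat.prime_three⟩
  exceptional (r := 13) (M := 432) (q := 3) (b := 3) 0 0 (by norm_num) (by norm_num) (by norm_num)
    (by norm_num) (good_except_of_divisors (by norm_num) (by decide +kernel))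
    (small_of_excluded (M' := 144) (by norm_num) (by norm_num) (by decide +kernel) (by decide +kernel)
      (by decide +kernel))
    (excluded_simple 0 0 (by norm_num) (by decide +kernel)) h h13 h3 (fun h => h.1 rfl)

theorem simple_504 (h : Nat.card G = 504) (h2 : 2 ∈ Cfsg.degreePrimes G) (h7 : 7 ∈ Cfsg.degreePrimes G)
    (h23 : ¬ (Cfsg.degreeGraph G).Adj 2 3) : IsSimpleGroup G := by
  have : Fact (Nat.Prime 7) := ⟨by norm_num⟩
  have : Fact (Nat.Prime 2) := ⟨Nat.prime_two⟩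
  refine exceptional (r := 7) (M := 72) (q := 2) (b := 3) 2 3 (by norm_num) (by norm_num) (by norm_num)
    (by norm_num) (good_except_of_divisors (by norm_num) (by decide +kernel))
    (small_of_excluded (M' := 36) (by norm_num) (by norm_num) (by decide +kernel) (by decide +kernel)
      (by decide +kernel))
    ?_ h h7 h2 h23
  intro m hm hne X _ _ _ hX hc
  rcases eq_or_ne m 24 with rfl | h24
  · exact adj_two_three_of_simple_168 hc
  · exact absurd hc (card_ne_of_orderExcluded hX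
      ((by decide +kernel : ∀ k ∈ (72 : ℕ).properDivisors, k ≠ 24 → orderExcluded (7 * k) = true) m
        (Nat.mem_properDivisors.2 ⟨hm, lt_of_le_of_ne (Nat.le_of_dvd (by norm_num) hm) hne⟩) h24))

end CfsgLib.SmallSimple
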