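import Cfsg.Agent.Lib.SmallSimple.NonSimpleBase

/-!
One exceptional prime power `q ^ b` with `r ∣ q ^ b - 1`: either the Sylow `r`-subgroup is normal, or the group is
simple of the full order, or it has a normal abelian Sylow `q`-subgroup, or it has a simple section.
-/

set_option autoImplicit false
set_option linter.style.haveILetI false

namespace CfsgLib.SmallSimple

open Subgroup MulAction CfsgLib.SmallOrder Pointwise

universe u

variable {r : ℕ} [hr : Fact r.Prime]

/-- With a normal complement, the exceptional Sylow subgroup is normal and abelian. -/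
theorem abelian_sylow_of_complement {X : Type u} [Group X] [Finite X] {q b m : ℕ} [hq : Fact q.Prime]
    (hX : Nat.card X = r * m) (hm : ¬ r ∣ m) (hb : 0 < b) (hqb : q ^ b ∣ m) (hqb1 : ¬ q ^ (b + 1) ∣ m)
    (small : ∀ k, k ∣ m → ¬ q ^ b ∣ k → ∀ (Y : Type u) [Group Y] [Finite Y],
      Nat.card Y = r * k → Nat.card (Sylow r Y) = 1)
    (good : ∀ p i, p.Prime → 0 < i → p ^ i ∣ m → r ∣ p ^ i - 1 → p = q ∧ i = b)
    (N : Subgroup X) [N.Normal] (hN : Nat.card N = m) (h1 : Nat.card (Sylow r X) ≠ 1) :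
    ∃ A : Subgroup X, A.Normal ∧ IsMulCommutative A ∧ Nat.card A = q ^ b := by
  have hrN : ¬ r ∣ Nat.card N := hN.symm ▸ hm
  have hqr : q ≠ r := by
    rintro rfl
    exact hm ((dvd_pow_self q hb.ne').trans hqb)
  have htop : ∀ R : Sylow r X, N ⊔ (R : Subgroup X) = ⊤ := fun R =>
    Subgroup.eq_top_of_card_eq _ (by rw [card_sup_sylow hX hm N hrN R, hN, hX])
  have hfull : ∀ R : Sylow r X,
      ¬ q ^ b ∣ Nat.card ↥(N ⊓ centralizer ((R : Subgroup X) : Set X)) := by
    intro R hR
    refine h1 (card_sylow_eq_one_of_complement N R (htop R) (inf_eq_left.1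
      (eq_of_le_of_card_ge inf_le_left (Nat.le_of_dvd Nat.card_pos
        ((Nat.dvd_iff_prime_pow_dvd_dvd _ _).2 fun p k hp hk' => ?_)))))
    rcases eq_or_ne p q with rfl | hne
    · refine (pow_dvd_pow p ?_).trans hR
      by_contra hlt
      exact hqb1 ((pow_dvd_pow p (by omega)).trans (hN ▸ hk'))
    · exact pow_dvd_card_inf_centralizer hX hm N hrN hp hk'
        (fun i h0 hi hd => hne (good p i hp h0 (hN ▸ hi) hd).1) R
  have hfree : ∀ (R : Sylow r X) (Q : Subgroup X), Q ≤ N → Nat.card Q = q ^ b →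
      (R : Subgroup X) ≤ normalizer (Q : Set X) →
      Q ⊓ centralizer ((R : Subgroup X) : Set X) = ⊥ := by
    intro R Q hQN hQ hRQ
    rcases le_centralizer_or_inf_eq_bot R.2 hRQ hq.out hqr hQ (fun i h0 hib hd => by
      have := (good q i hq.out h0 ((pow_dvd_pow q hib.le).trans hqb) hd).2
      omega) with h | ⟨h, -⟩
    · exact absurd (hQ ▸ Subgroup.card_dvd_of_le (le_inf hQN h)) (hfull R)
    · exact h
  have hcard : ∀ Q : Sylow q N, Nat.card Q = q ^ b := by
    intro Q
    obtain ⟨k, hk'⟩ := Q.2.exists_card_eq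
    have h2 : q ^ k ∣ m := hN ▸ hk' ▸ Subgroup.card_subgroup_dvd_card _
    have h3 : q ^ b ∣ q ^ k := hk' ▸ Q.pow_dvd_card_of_pow_dvd_card (hN.symm ▸ hqb)
    have h4 := (Nat.pow_dvd_pow_iff_le_right hq.out.one_lt).1 h3
    have h5 : k ≤ b := by
      by_contra hlt
      exact hqb1 ((pow_dvd_pow q (by omega)).trans h2)
    rw [hk', show k = b by omega]
  have hmap : ∀ Q : Sylow q N, Nat.card ((Q : Subgroup N).map N.subtype : Subgroup X) = q ^ b := fun Q => by
    rw [← hcard Q]
    exact Nat.card_congr ((Q : Subgroup N).equivMapOfInjective _ N.subtype_injective).toEquiv.symm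
  obtain ⟨S, Q, hS⟩ := exists_sylow_normalizer hX hm N hrN q
  set A := (Q : Subgroup N).map N.subtype with hA
  have hAab : IsMulCommutative A := isMulCommutative_of_inf_eq_bot S.2 hS hq.out hqr (hmap Q)
    (fun i h0 hib hd => by
      have := (good q i hq.out h0 ((pow_dvd_pow q hib.le).trans hqb) hd).2
      omega)
    (hfree S A (Subgroup.map_subtype_le _) (hmap Q) hS)
  refine ⟨A, ?_, hAab, hmap Q⟩
  -- the Sylow `q`-subgroup of `N` is unique: all Sylow `r`-subgroups normalise all of them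
  suffices hone : Subsingleton (Sylow q N) by
    haveI := hone
    haveI : (Q : Subgroup N).Characteristic := inferInstance
    rw [hA]
    infer_instance
  set ψ : X →* MulAut N := MulAut.conjNormal (H := N) with hψ
  have hfixed : ∀ (g : X) (P : Sylow q N),
      g ∈ normalizer (((P : Subgroup N).map N.subtype : Subgroup X) : Set X) → ψ g • P = P := by
    intro g P hg
    apply Sylow.ext
    rw [Sylow.pointwise_smul_def]
    refine eq_of_le_of_card_ge ?_ (Nat.card_congr
      (Subgroup.equivSMul (ψ g) (P : Subgroup N)).toEquiv).le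
    rintro _ ⟨z, hz, rfl⟩
    obtain ⟨w, hw, hwe⟩ := (mem_normalizer_iff.1 hg (z : X)).1 ⟨z, hz, rfl⟩
    have : ψ g z = w := Subtype.ext hwe.symm
    exact (show ψ g z ∈ (P : Subgroup N) from this ▸ hw)
  have hinner : ∀ (n : N) (P : Sylow q N), ψ (n : X) • P = n • P := by
    intro n P
    have : ψ (n : X) = MulAut.conj n := MulEquiv.ext fun y => Subtype.ext rfl
    rw [this, Sylow.smul_def]
  have hall : ∀ (R : Sylow r X), (R : Subgroup X) ≤ ((MulAction.toPermHom (MulAut N) (Sylow q N)).comp ψ).ker := by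
    intro R
    obtain ⟨g, rfl⟩ := MulAction.exists_smul_eq X S R
    set L := ((MulAction.toPermHom (MulAut N) (Sylow q N)).comp ψ).ker
    suffices hSL : (S : Subgroup X) ≤ L by
      rw [Sylow.coe_subgroup_smul]
      rintro _ ⟨y, hy, rfl⟩
      exact Subgroup.Normal.conj_mem inferInstance y (hSL hy) g
    intro y hy
    rw [MonoidHom.mem_ker]
    refine Equiv.ext fun P => ?_
    show ψ y • P = P
    set C := N ⊓ centralizer ((S : Subgroup X) : Set X) with hC
    have hdis : C ⊓ A = ⊥ :=
      le_bot_iff.1 (hfree S A (Subgroup.map_subtype_le _) (hmap Q) hS ▸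
        le_inf inf_le_right (inf_le_left.trans inf_le_right))
    obtain ⟨k, hk'⟩ := hqb
    have hkC : k ∣ Nat.card C := (Nat.dvd_iff_prime_pow_dvd_dvd _ _).2 fun p j hp hj => by
      rcases eq_or_ne p q with rfl | hne
      · rcases Nat.eq_zero_or_pos j with rfl | hj0
        · simp
        · exact absurd (hk' ▸ pow_succ p b ▸ Nat.mul_dvd_mul_left (p ^ b)
            ((dvd_pow_self p hj0.ne').trans hj)) hqb1
      · exact pow_dvd_card_inf_centralizer hX hm N hrN hp (hN ▸ hj.trans (hk' ▸ dvd_mul_left k _))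
          (fun i h0 hi hd => hne (good p i hp h0 (hN ▸ hi) hd).1) S
    obtain ⟨n, rfl⟩ := MulAction.exists_smul_eq N Q P
    obtain ⟨⟨c, a⟩, hca⟩ : ∃ x : C × A, (x.1 : X) * x.2 = n := by
      let F : C × A → N := fun x => ⟨(x.1 : X) * x.2, mul_mem x.1.2.1 (Subgroup.map_subtype_le _ x.2.2)⟩
      have hinj : Function.Injective F := fun u v huv =>
        Subgroup.mul_injective_of_disjoint (disjoint_iff.2 hdis) (congrArg Subtype.val huv)
      have hcle : Nat.card N ≤ Nat.card (C × A) := by
        rw [Nat.card_prod, hN, hmap Q, hk', mul_comm]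
        exact Nat.mul_le_mul_right _ (Nat.le_of_dvd Nat.card_pos hkC)
      obtain ⟨x, hx⟩ := ((Nat.bijective_iff_injective_and_card F).2
        ⟨hinj, le_antisymm (Nat.card_le_card_of_injective F hinj) hcle⟩).2 n
      exact ⟨x, congrArg Subtype.val hx⟩
    rw [← hinner, ← hca, map_mul, mul_smul, hfixed (a : X) Q (le_normalizer a.2)]
    rw [← mul_smul, ← map_mul, mem_centralizer_iff.1 c.2.2 y hy, map_mul, mul_smul, hfixed y Q (hS hy)]
  set L := ((MulAction.toPermHom (MulAut N) (Sylow q N)).comp ψ).ker with hL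
  have hrL : r ∣ Nat.card L := (sylow_card hX hm S).symm.dvd.trans (Subgroup.card_dvd_of_le (hall S))
  obtain ⟨l, hl⟩ := hrL
  have hlm : l ∣ m := by
    have := hX ▸ hl ▸ L.card_subgroup_dvd_card
    exact Nat.dvd_of_mul_dvd_mul_left hr.out.pos this
  have hql : q ^ b ∣ l := by_contra fun hc =>
    h1 ((card_sylow_normal hX hm (hl ▸ dvd_mul_right r l)).symm.trans (small l hlm hc L hl))
  obtain ⟨T⟩ := (inferInstance : Nonempty (Sylow q L))
  have hTdvd : q ^ b ∣ Nat.card T := T.pow_dvd_card_of_pow_dvd_card (hl ▸ hql.mul_left r)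
  have hTN : ∀ x : L, x ∈ (T : Subgroup L) → (x : X) ∈ N := by
    intro x hx
    obtain ⟨j, hj⟩ := T.2 ⟨x, hx⟩
    have hj' : ((x : X) ^ q ^ j) = 1 := by
      have := congrArg (fun z : ↥(T : Subgroup L) => ((z : L) : X)) hj
      simpa using! this
    have hidx : N.index = r := by
      have := N.card_mul_index
      rw [hN, hX, mul_comm r m] at this
      exact Nat.eq_of_mul_eq_mul_left (Nat.pos_of_ne_zero fun h0 => hm (by rw [h0]; exact dvd_zero r)) this
    rw [← QuotientGroup.eq_one_iff, ← orderOf_eq_one_iff]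
    refine Nat.eq_one_of_dvd_coprimes (((Nat.coprime_primes hr.out hq.out).2 (Ne.symm hqr)).pow_right j) ?_ ?_
    · rw [← hidx, Subgroup.index_eq_card]
      exact orderOf_dvd_natCard _
    · exact orderOf_dvd_of_pow_eq_one (by rw [← QuotientGroup.mk_pow, hj', QuotientGroup.mk_one])
  let T' : Subgroup N := ((T : Subgroup L).map L.subtype).comap N.subtype
  have hT'p : IsPGroup q T' := (T.2.map _).comap_of_injective _ N.subtype_injective
  obtain ⟨P₀, hP₀⟩ := hT'p.exists_le_sylow
  have hT'c : q ^ b ∣ Nat.card T' := by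
    refine hTdvd.trans (dvd_of_eq (Nat.card_eq_of_bijective
      (fun x : ↥(T : Subgroup L) => (⟨⟨((x : L) : X), hTN x x.2⟩, (x : L), x.2, rfl⟩ : T')) ⟨?_, ?_⟩))
    · intro u v huv
      exact Subtype.ext (Subtype.ext (congrArg (fun z : T' => ((z : N) : X)) huv))
    · rintro ⟨zn, hzn⟩
      obtain ⟨z, hz, hze⟩ := hzn
      exact ⟨⟨z, hz⟩, Subtype.ext (Subtype.ext hze)⟩
  have hT'eq : T' = (P₀ : Subgroup N) :=
    eq_of_le_of_card_ge hP₀ (by rw [hcard P₀]; exact Nat.le_of_dvd Nat.card_pos hT'c)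
  have huniq : ∀ P : Sylow q N, P₀ = P := by
    intro P
    refine Sylow.ext (eq_of_le_of_card_ge ?_ (by rw [hcard, hcard]))
    intro x hx
    have hxn : x ∈ normalizer ((P : Subgroup N) : Set N) := by
      obtain ⟨z, hz, hzx⟩ := (hT'eq.symm ▸ hx : x ∈ T')
      refine Sylow.smul_eq_iff_mem_normalizer.1 ?_
      have := Equiv.ext_iff.1 (MonoidHom.mem_ker.1 z.2) P
      rw [← hinner, show (x : X) = (z : X) from hzx.symm]
      exact this
    exact ((P₀.2.inf_normalizer_sylow P).le ⟨hx, hxn⟩).2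
  exact ⟨fun P P' => (huniq P).symm.trans (huniq P')⟩

/-- A normal abelian Sylow `q`-subgroup keeps `q` away from the degrees. -/
theorem not_mem_degreePrimes_of_abelian_normal {G : Type u} [Group G] [Finite G] {q b : ℕ}
    (h : ∃ A : Subgroup G, A.Normal ∧ IsMulCommutative A ∧ Nat.card A = q ^ b)
    (hqb : ¬ q ^ (b + 1) ∣ Nat.card G) : q ∉ Cfsg.degreePrimes G := by
  obtain ⟨A, hA, hAc, hc⟩ := h
  intro hp
  haveI := hA
  haveI := hAc
  exact hqb (by
    rw [← A.card_mul_index, hc, pow_succ]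
    exact Nat.mul_dvd_mul_left _ (dvd_index_of_mem_degreePrimes hp A))

theorem exceptional_aux {M q b : ℕ} (s t : ℕ) [hq : Fact q.Prime] (hMr : ¬ r ∣ M) (hb : 0 < b)
    (hqb1 : ¬ q ^ (b + 1) ∣ M)
    (good : ∀ p i, p.Prime → 0 < i → p ^ i ∣ M → r ∣ p ^ i - 1 → p = q ∧ i = b)
    (small : ∀ m, m ∣ M → ¬ q ^ b ∣ m → ∀ (X : Type u) [Group X] [Finite X],
      Nat.card X = r * m → Nat.card (Sylow r X) = 1)
    (hsimple : ∀ m, m ∣ M → m ≠ M → ∀ (X : Type u) [Group X] [Finite X] [IsSimpleGroup X],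
      ¬ IsMulCommutative X → Nat.card X = r * m → (Cfsg.degreeGraph X).Adj s t) (m : ℕ) :
    ∀ (X : Type u) [Group X] [Finite X], m ∣ M → Nat.card X = r * m →
      Nat.card (Sylow r X) = 1 ∨ (m = M ∧ IsSimpleGroup X) ∨
        (∃ A : Subgroup X, A.Normal ∧ IsMulCommutative A ∧ Nat.card A = q ^ b) ∨
        (Cfsg.degreeGraph X).Adj s t := by
  induction m using Nat.strong_induction_on with
  | h m ih =>
    intro X _ _ hmM hX
    have hm : ¬ r ∣ m := fun h => hMr (h.trans hmM)
    have hM : 0 < M := Nat.pos_of_ne_zero fun h0 => hMr (h0 ▸ dvd_zero r)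
    rcases eq_or_ne (Nat.card (Sylow r X)) 1 with h1 | h1
    · exact Or.inl h1
    by_cases hs : IsSimpleGroup X
    · rcases eq_or_ne m M with h | h
      · exact Or.inr (Or.inl ⟨h, hs⟩)
      · exact Or.inr (Or.inr (Or.inr (hsimple m hmM h X (not_comm_of_card_sylow h1) hX)))
    have hqm : q ^ b ∣ m := by_contra fun h => h1 (small m hmM h X hX)
    have hqb1' : ¬ q ^ (b + 1) ∣ m := fun h => hqb1 (h.trans hmM)
    have hlt : ∀ m', m' < m → m' ≠ M := fun m' h he => by
      have := Nat.le_of_dvd hM hmM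
      omega
    -- the case of a normal subgroup containing the Sylow `r`-subgroups
    have caseA : ∀ (N : Subgroup X) [N.Normal] (m' : ℕ), Nat.card N = r * m' → m' ∣ m → m' < m →
        (∃ A : Subgroup X, A.Normal ∧ IsMulCommutative A ∧ Nat.card A = q ^ b) ∨
          (Cfsg.degreeGraph X).Adj s t := by
      intro N _ m' hN' hd hlt'
      rcases ih m' hlt' N (hd.trans hmM) hN' with h | ⟨h, -⟩ | ⟨A, hA, hAc, hAcard⟩ | h
      · exact absurd (card_sylow_normal hX hm (hN' ▸ dvd_mul_right r m') ▸ h) h1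
      · exact absurd h (hlt m' hlt')
      · left
        haveI := hA
        obtain ⟨P, hP⟩ := (IsPGroup.of_card hAcard : IsPGroup q A).exists_le_sylow
        have hPA : (P : Subgroup N) = A := by
          refine (eq_of_le_of_card_ge hP ?_).symm
          obtain ⟨k, hk'⟩ := P.2.exists_card_eq
          have hmpos : 0 < m := Nat.pos_of_ne_zero fun h0 => hm (h0 ▸ dvd_zero r)
          have h2 : q ^ k ∣ r * m' := hN' ▸ hk' ▸ Subgroup.card_subgroup_dvd_card _
          have hqr : Nat.Coprime (q ^ k) r := Nat.Coprime.pow_left k ((Nat.coprime_primes hq.out hr.out).2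
            (by rintro rfl; exact hm ((dvd_pow_self q hb.ne').trans hqm)))
          have h3 : q ^ k ∣ m := (hqr.dvd_of_dvd_mul_left h2).trans hd
          rw [hAcard, hk']
          refine Nat.pow_le_pow_right hq.out.pos ?_
          by_contra hc
          exact hqb1' ((pow_dvd_pow q (by omega)).trans h3)
        subst hPA
        haveI : Subsingleton (Sylow q N) := by
          haveI := Sylow.unique_of_normal P inferInstance
          infer_instance
        haveI : (P : Subgroup N).Characteristic := inferInstance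
        refine ⟨(P : Subgroup N).map N.subtype, inferInstance, ⟨⟨?_⟩⟩, ?_⟩
        · rintro ⟨_, a, ha, rfl⟩ ⟨_, c, hc, rfl⟩
          haveI := hAc
          exact Subtype.ext (congrArg (fun z : ↥(P : Subgroup N) => ((z : N) : X))
            (mul_comm' (⟨a, ha⟩ : ↥(P : Subgroup N)) ⟨c, hc⟩))
        · rw [← hAcard]
          exact Nat.card_congr ((P : Subgroup N).equivMapOfInjective _ N.subtype_injective).toEquiv.symm
      · exact Or.inr (adj_of_normal N h)
    -- a normal subgroup of order prime to `r` with a normal Sylow subgroup above it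
    have caseB : ∀ (N : Subgroup X) [N.Normal], ¬ r ∣ Nat.card N → Nat.card N ∣ m →
        Nat.card (Sylow r (X ⧸ N)) = 1 →
        (∃ A : Subgroup X, A.Normal ∧ IsMulCommutative A ∧ Nat.card A = q ^ b) ∨
          (Cfsg.degreeGraph X).Adj s t := by
      intro N _ hrN hNm hone
      obtain ⟨R⟩ := (inferInstance : Nonempty (Sylow r X))
      haveI := normal_sup_sylow N hone R
      have hc := card_sup_sylow hX hm N hrN R
      rcases eq_or_ne (Nat.card N) m with he | hne
      · exact Or.inl (abelian_sylow_of_complement hX hm hb hqm hqb1'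
          (fun k hd => small k (hd.trans hmM))
          (fun p i hp h0 hi => good p i hp h0 (hi.trans hmM)) N he h1)
      · exact caseA _ _ hc hNm (lt_of_le_of_ne (Nat.le_of_dvd
          (Nat.pos_of_ne_zero fun h0 => hm (h0 ▸ dvd_zero r)) hNm) hne)
    haveI : Nontrivial X := Finite.one_lt_card_iff_nontrivial.1 (by
      have := hr.out.two_le
      have hmpos : 0 < m := Nat.pos_of_ne_zero fun h => hm (h ▸ dvd_zero r)
      nlinarith)
    obtain ⟨N, hN, hbot, htop⟩ : ∃ N : Subgroup X, N.Normal ∧ N ≠ ⊥ ∧ N ≠ ⊤ := by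
      by_contra hc
      push Not at hc
      exact hs ⟨fun N hN => or_iff_not_imp_left.2 (hc N hN)⟩
    haveI := hN
    refine Or.inr (Or.inr ?_)
    rcases card_normal_cases hX hm hbot htop with ⟨m', hN', hd, hlt'⟩ | ⟨hrN, m', hQ, hprod, hlt'⟩
    · exact caseA N m' hN' hd hlt'
    rcases ih m' hlt' (X ⧸ N) ((Dvd.intro_left _ hprod).trans hmM) hQ with h | ⟨h, -⟩ | ⟨A, hA, hAc, hAcard⟩ | h
    · exact caseB N hrN (Dvd.intro _ hprod) h
    · exact absurd h (hlt m' hlt')
    · haveI := hA
      set K := A.comap (QuotientGroup.mk' N) with hK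
      have hKi : K.index = A.index := A.index_comap_of_surjective (QuotientGroup.mk'_surjective N)
      have hKcard : Nat.card K = Nat.card N * q ^ b := by
        have e1 := K.card_mul_index
        have e2 := A.card_mul_index
        have e3 := N.card_mul_index
        rw [← e3, hKi, Subgroup.index_eq_card (H := N), ← e2, hAcard, ← mul_assoc] at e1
        exact Nat.eq_of_mul_eq_mul_right (Nat.pos_of_ne_zero Subgroup.index_ne_zero_of_finite) e1
      have hqA : q ^ b ∣ m' := by
        have h2 : q ^ b ∣ r * m' := hQ ▸ hAcard ▸ A.card_subgroup_dvd_card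
        exact (Nat.Coprime.pow_left b ((Nat.coprime_primes hq.out hr.out).2
          (by rintro rfl; exact hm ((dvd_pow_self q hb.ne').trans hqm)))).dvd_of_dvd_mul_left h2
      have hKm : Nat.card K ∣ m := hKcard ▸ hprod ▸ Nat.mul_dvd_mul_left _ hqA
      have hrK : ¬ r ∣ Nat.card K := fun h => hm (h.trans hKm)
      refine caseB K hrK hKm (small (m / Nat.card K) ((Nat.div_dvd_of_dvd hKm).trans hmM) ?_ _ ?_)
      · intro hdiv
        apply hqb1'
        have h2 : q ^ b * q ^ b ∣ m := by
          calc q ^ b * q ^ b ∣ Nat.card K * (m / Nat.card K) :=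
                Nat.mul_dvd_mul (hKcard ▸ dvd_mul_left _ _) hdiv
            _ = m := Nat.mul_div_cancel' hKm
        exact (pow_dvd_pow q (by omega : b + 1 ≤ b + b)).trans (pow_add q b b ▸ h2)
      · have e1 := K.card_mul_index
        rw [hX, Subgroup.index_eq_card] at e1
        rw [← Nat.mul_div_assoc r hKm, ← e1, Nat.mul_div_cancel_left _ Nat.card_pos]
    · exact Or.inr (adj_of_quotient N h)

theorem exceptional {M q b : ℕ} (s t : ℕ) [Fact q.Prime] (hqr : q ≠ r) (hMr : ¬ r ∣ M) (hb : 0 < b)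
    (hqb1 : ¬ q ^ (b + 1) ∣ M)
    (good : ∀ p i, p.Prime → 0 < i → p ^ i ∣ M → r ∣ p ^ i - 1 → p = q ∧ i = b)
    (small : ∀ m, m ∣ M → ¬ q ^ b ∣ m → ∀ (X : Type u) [Group X] [Finite X],
      Nat.card X = r * m → Nat.card (Sylow r X) = 1)
    (hsimple : ∀ m, m ∣ M → m ≠ M → ∀ (X : Type u) [Group X] [Finite X] [IsSimpleGroup X],
      ¬ IsMulCommutative X → Nat.card X = r * m → (Cfsg.degreeGraph X).Adj s t)
    {G : Type u} [Group G] [Finite G] (hG : Nat.card G = r * M) (hr' : r ∈ Cfsg.degreePrimes G)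
    (hq' : q ∈ Cfsg.degreePrimes G) (hadj : ¬ (Cfsg.degreeGraph G).Adj s t) : IsSimpleGroup G := by
  rcases exceptional_aux s t hMr hb hqb1 good small hsimple M G dvd_rfl hG with h | ⟨-, h⟩ | h | h
  · exact absurd h (card_sylow_ne_one hG hMr hr')
  · exact h
  · refine absurd hq' (not_mem_degreePrimes_of_abelian_normal h fun hd => hqb1 ?_)
    exact (Nat.Coprime.pow_left _ ((Nat.coprime_primes (Fact.out : q.Prime) hr.out).2 hqr)).dvd_of_dvd_mul_left
      (hG ▸ hd)
  · exact absurd h hadj

end CfsgLib.SmallSimple
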