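import Cfsg.Agent.Lib.SmallSimple.NonSimpleBase

/-!
Orders at which a prime dividing a character degree forces simplicity: 60, 660, 1092, 2448, 3420, 4080.
-/

set_option autoImplicit false

namespace CfsgLib.SmallSimple

open CfsgLib.SmallOrder

universe u

theorem simple_of_vertex {G : Type u} [Group G] [Finite G] {r M : ℕ} [hr : Fact r.Prime]
    (hG : Nat.card G = r * M) (hMr : ¬ r ∣ M)
    (good : ∀ n ∈ M.divisors, n % r = 1 → n = 1 ∨ ∃ a ∈ [2, 3, 5, 7], ∃ b ∈ [2, 3, 5, 7],
      a ≠ b ∧ a ∣ n ∧ b ∣ n)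
    (hex : ∀ m ∈ M.properDivisors, orderExcluded (r * m) = true) (hp : r ∈ Cfsg.degreePrimes G) :
    IsSimpleGroup G := by
  have hM : M ≠ 0 := fun h => hMr (h ▸ dvd_zero r)
  rcases eq_one_or_simple hMr (good_of_divisors hM good) (fun m hm hne => hex m (Nat.mem_properDivisors.2
    ⟨hm, lt_of_le_of_ne (Nat.le_of_dvd (Nat.pos_of_ne_zero hM) hm) hne⟩)) dvd_rfl hG with h | ⟨-, h⟩
  · exact absurd h (card_sylow_ne_one hG hMr hp)
  · exact h

variable {G : Type u} [Group G] [Finite G]

theorem simple_60 (h : Nat.card G = 60) (hp : 5 ∈ Cfsg.degreePrimes G) : IsSimpleGroup G :=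
  have : Fact (Nat.Prime 5) := ⟨by norm_num⟩
  simple_of_vertex (r := 5) (M := 12) h (by norm_num) (by decide +kernel) (by decide +kernel) hp

theorem simple_660 (h : Nat.card G = 660) (hp : 11 ∈ Cfsg.degreePrimes G) : IsSimpleGroup G :=
  have : Fact (Nat.Prime 11) := ⟨by norm_num⟩
  simple_of_vertex (r := 11) (M := 60) h (by norm_num) (by decide +kernel) (by decide +kernel) hp

theorem simple_1092 (h : Nat.card G = 1092) (hp : 13 ∈ Cfsg.degreePrimes G) : IsSimpleGroup G :=
  have : Fact (Nat.Prime 13) := ⟨by norm_num⟩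
  simple_of_vertex (r := 13) (M := 84) h (by norm_num) (by decide +kernel) (by decide +kernel) hp

theorem simple_2448 (h : Nat.card G = 2448) (hp : 17 ∈ Cfsg.degreePrimes G) : IsSimpleGroup G :=
  have : Fact (Nat.Prime 17) := ⟨by norm_num⟩
  simple_of_vertex (r := 17) (M := 144) h (by norm_num) (by decide +kernel) (by decide +kernel) hp

theorem simple_3420 (h : Nat.card G = 3420) (hp : 19 ∈ Cfsg.degreePrimes G) : IsSimpleGroup G :=
  have : Fact (Nat.Prime 19) := ⟨by norm_num⟩
  simple_of_vertex (r := 19) (M := 180) h (by norm_num) (by decide +kernel) (by decide +kernel) hp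

theorem simple_4080 (h : Nat.card G = 4080) (hp : 17 ∈ Cfsg.degreePrimes G) : IsSimpleGroup G :=
  have : Fact (Nat.Prime 17) := ⟨by norm_num⟩
  simple_of_vertex (r := 17) (M := 240) h (by norm_num) (by decide +kernel) (by decide +kernel) hp

end CfsgLib.SmallSimple
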