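import Cfsg.Agent.Lib.SmallSimple.NonSimpleBase
import Cfsg.Agent.Lib.Char.Complete
import Cfsg.Agent.Lib.Char.Linear

/-!
Character degrees of a simple group of order 60: a multiple of 3, and at most one degree 5.
-/

set_option autoImplicit false
set_option linter.style.haveILetI false

namespace CfsgLib.SmallSimple

open Subgroup MulAction CfsgLib

universe u

variable {X : Type u} [Group X] [Finite X] [IsSimpleGroup X]

theorem degree_ne_one_of_simple (hX : ¬ IsMulCommutative X) (χ : Cfsg.IrrCharacter X)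
    (h : χ ≠ Char.principalIrr) : Cfsg.charDegree (χ : X → ℂ) ≠ 1 := fun h1 => by
  have h1' : (χ : X → ℂ) 1 = 1 := by rw [← CharTools.irr_degree_cast, h1, Nat.cast_one]
  obtain ⟨f, hf⟩ := Char.IsCharacter.exists_linear (Char.IsIrrCharacter.isCharacter χ.2) h1'
  rcases (inferInstance : f.ker.Normal).eq_bot_or_eq_top with hk | hk
  · exact hX ⟨⟨fun a b => (MonoidHom.ker_eq_bot_iff f).1 hk (by rw [map_mul, map_mul, mul_comm])⟩⟩
  · refine h (Subtype.ext (funext fun g => ?_))
    rw [hf g, Char.principalIrr_apply, MonoidHom.mem_ker.1 (hk ▸ Subgroup.mem_top g : g ∈ f.ker),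
      Units.val_one]

theorem not_comm_sixty (h : Nat.card X = 60) : ¬ IsMulCommutative X := fun hc => by
  haveI : Fact (Nat.Prime 5) := ⟨by norm_num⟩
  obtain ⟨R⟩ := (inferInstance : Nonempty (Sylow 5 X))
  have hR : Nat.card ↥(R : Subgroup X) = 5 := sylow_card (m := 12) h (by norm_num) R
  haveI : (R : Subgroup X).Normal := ⟨fun x hx g => by rw [mul_comm' g x, mul_inv_cancel_right]; exact hx⟩
  rcases (inferInstance : (R : Subgroup X).Normal).eq_bot_or_eq_top with h' | h' <;> rw [h'] at hR
  · rw [Subgroup.card_bot] at hR; omega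
  · rw [Subgroup.card_top, h] at hR; omega

theorem degree_of_sixty (h : Nat.card X = 60) (χ : Cfsg.IrrCharacter X) :
    Cfsg.charDegree (χ : X → ℂ) ∈ [1, 2, 3, 4, 5, 6] := by
  classical
  cases nonempty_fintype X
  have hd := CharTools.degree_dvd_card χ
  rw [h] at hd
  have hle : Cfsg.charDegree (χ : X → ℂ) ^ 2 ≤ 60 := by
    rw [← h, ← CharTools.sum_degree_sq']
    exact Finset.single_le_sum (f := fun φ : Cfsg.IrrCharacter X => Cfsg.charDegree (φ : X → ℂ) ^ 2)
      (fun _ _ => Nat.zero_le _) (Finset.mem_univ χ)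
  have hlt : Cfsg.charDegree (χ : X → ℂ) < 8 := by nlinarith
  have := Nat.pos_of_dvd_of_pos hd (by norm_num)
  simp only [List.mem_cons, List.not_mem_nil, or_false]
  have h7 : Cfsg.charDegree (χ : X → ℂ) ≠ 7 := fun e => absurd (e ▸ hd) (by norm_num)
  omega

/-- Some degree of a simple group of order 60 is a multiple of 3. -/
theorem exists_three_dvd_degree (h : Nat.card X = 60) :
    ∃ χ : Cfsg.IrrCharacter X, 3 ∣ Cfsg.charDegree (χ : X → ℂ) := by
  classical
  cases nonempty_fintype X
  by_contra hc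
  push Not at hc
  have hsum := CharTools.sum_degree_sq' (G := X)
  rw [h, ← Finset.add_sum_erase _ _ (Finset.mem_univ (Char.principalIrr : Cfsg.IrrCharacter X))] at hsum
  have hp : Cfsg.charDegree ((Char.principalIrr : Cfsg.IrrCharacter X) : X → ℂ) = 1 :=
    CharTools.charDegree_principal
  rw [hp] at hsum
  obtain ⟨a, c, hac⟩ : ∃ a c : ℕ, ∑ φ ∈ Finset.univ.erase (Char.principalIrr : Cfsg.IrrCharacter X),
      Cfsg.charDegree (φ : X → ℂ) ^ 2 = 4 * a + 25 * c := by
    refine Finset.sum_induction _ (fun n => ∃ a c : ℕ, n = 4 * a + 25 * c) ?_ ⟨0, 0, rfl⟩ ?_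
    · rintro _ _ ⟨a, c, rfl⟩ ⟨a', c', rfl⟩
      exact ⟨a + a', c + c', by ring⟩
    · intro φ hφ
      have hne := degree_ne_one_of_simple (not_comm_sixty h) φ (Finset.ne_of_mem_erase hφ)
      have hm := degree_of_sixty h φ
      have h3 := hc φ
      simp only [List.mem_cons, List.not_mem_nil, or_false] at hm
      rcases hm with e | e | e | e | e | e <;> rw [e] at hne h3 ⊢
      · exact absurd rfl hne
      · exact ⟨1, 0, rfl⟩
      · exact absurd dvd_rfl h3
      · exact ⟨4, 0, rfl⟩
      · exact ⟨0, 1, rfl⟩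
      · exact absurd (by norm_num) h3
  omega

/-- Five conjugacy classes. -/
theorem five_le_card_conjClasses (h : Nat.card X = 60) : 5 ≤ Nat.card (ConjClasses X) := by
  haveI : Fact (Nat.Prime 2) := ⟨Nat.prime_two⟩
  haveI : Fact (Nat.Prime 3) := ⟨Nat.prime_three⟩
  haveI : Fact (Nat.Prime 5) := ⟨by norm_num⟩
  obtain ⟨a, ha⟩ := exists_prime_orderOf_dvd_card' 2 (G := X) (by rw [h]; norm_num)
  obtain ⟨c, hc⟩ := exists_prime_orderOf_dvd_card' 3 (G := X) (by rw [h]; norm_num)
  obtain ⟨x, hx⟩ := exists_prime_orderOf_dvd_card' 5 (G := X) (by rw [h]; norm_num)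
  have hx2 : orderOf (x ^ 2) = 5 := by rw [orderOf_pow, hx]; norm_num
  have hnc : ¬ IsConj x (x ^ 2) := by
    rw [isConj_iff]
    rintro ⟨y, hy⟩
    have hy' : y ^ 60 = 1 := h ▸ pow_card_eq_one'
    have key : ∀ n : ℕ, y ^ n * x * (y ^ n)⁻¹ = x ^ 2 ^ n := by
      intro n
      induction n with
      | zero => simp
      | succ n ih =>
        rw [pow_succ' y n]
        calc y * y ^ n * x * (y * y ^ n)⁻¹ = y * (y ^ n * x * (y ^ n)⁻¹) * y⁻¹ := by group
          _ = (y * x * y⁻¹) ^ 2 ^ n := by rw [ih, conj_pow]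
          _ = _ := by rw [hy, ← pow_mul, pow_succ']
    -- the normaliser of the cyclic group generated by `x` has order 10
    obtain ⟨R, hR⟩ := (IsPGroup.of_card (p := 5) (n := 1) (by rw [Nat.card_zpowers, hx, pow_one]) :
      IsPGroup 5 (zpowers x)).exists_le_sylow
    have hX : Nat.card X = 5 * 12 := h
    have hRe : zpowers x = (R : Subgroup X) :=
      eq_of_le_of_card_ge hR (by rw [Nat.card_zpowers, hx, sylow_card hX (by norm_num) R])
    have hyN : y ∈ normalizer ((R : Subgroup X) : Set X) := by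
      have hmap : ∀ z ∈ (R : Subgroup X), y * z * y⁻¹ ∈ (R : Subgroup X) := by
        intro z hz
        rw [← hRe] at hz ⊢
        obtain ⟨i, rfl⟩ := mem_zpowers_iff.1 hz
        rw [← conj_zpow, hy]
        exact zpow_mem (pow_mem (mem_zpowers x) 2) i
      refine Sylow.smul_eq_iff_mem_normalizer.1 (Sylow.ext ?_)
      refine eq_of_le_of_card_ge ?_ (by rw [sylow_card hX (by norm_num), sylow_card hX (by norm_num)])
      rw [Sylow.coe_subgroup_smul]
      rintro _ ⟨z, hz, rfl⟩
      exact hmap z hz
    have hn : Nat.card (Sylow 5 X) = 6 := by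
      have hd := card_sylow_dvd hX (by norm_num : ¬ 5 ∣ 12)
      have hmod := card_sylow_modEq_one 5 X
      rw [Nat.ModEq] at hmod
      have h16 := (by decide : ∀ n ∈ (12 : ℕ).divisors, n % 5 = 1 % 5 → n = 1 ∨ n = 6) _
        (Nat.mem_divisors.2 ⟨hd, by norm_num⟩) hmod
      refine h16.resolve_left fun h1 => ?_
      haveI : Subsingleton (Sylow 5 X) := Finite.card_le_one_iff_subsingleton.1 h1.le
      haveI := R.normal_of_subsingleton
      have hR5 := sylow_card hX (by norm_num) R
      rcases (inferInstance : (R : Subgroup X).Normal).eq_bot_or_eq_top with h' | h' <;> rw [h'] at hR5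
      · rw [Subgroup.card_bot] at hR5; omega
      · rw [Subgroup.card_top, h] at hR5; omega
    have h10 : Nat.card ↥(normalizer ((R : Subgroup X) : Set X)) = 10 := by
      have := (normalizer ((R : Subgroup X) : Set X)).card_mul_index
      rw [← (show Nat.card (Sylow 5 X) = (normalizer ((R : Subgroup X) : Set X)).index from R.card_eq_index_normalizer),
        hn, h] at this
      omega
    have hy10 : y ^ 10 = 1 := by
      have := orderOf_dvd_iff_pow_eq_one.1 (h10 ▸ Subgroup.orderOf_dvd_natCard _ hyN)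
      exact this
    have hk := key 10
    rw [hy10, one_mul, inv_one, mul_one] at hk
    have : x ^ 1 = x ^ 2 ^ 10 := by rw [pow_one]; exact hk
    rw [pow_eq_pow_iff_modEq, hx] at this
    exact absurd this (by decide)
  let f : Fin 5 → ConjClasses X := fun i => ConjClasses.mk (![1, a, c, x, x ^ 2] i)
  suffices hf : Function.Injective f by simpa using Nat.card_le_card_of_injective f hf
  have hord : ∀ u v : X, IsConj u v → orderOf u = orderOf v := fun u v huv => by
    obtain ⟨g, rfl⟩ := isConj_iff.1 huv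
    exact (orderOf_injective (MulAut.conj g).toMonoidHom (MulAut.conj g).injective u).symm
  intro i j hij
  have hc' := ConjClasses.mk_eq_mk_iff_isConj.1 hij
  have ho := hord _ _ hc'
  fin_cases i <;> fin_cases j <;> simp only [Fin.isValue] at * <;>
    first
      | rfl
      | (exfalso; simp [orderOf_one, ha, hc, hx, hx2] at ho; done)
      | exact absurd hc' hnc
      | exact absurd hc'.symm hnc

/-- A simple group of order 60 has at most one irreducible character of degree 5. -/
theorem eq_of_degree_five (h : Nat.card X = 60) (φ ψ : Cfsg.IrrCharacter X)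
    (hφ : Cfsg.charDegree (φ : X → ℂ) = 5) (hψ : Cfsg.charDegree (ψ : X → ℂ) = 5) : φ = ψ := by
  classical
  cases nonempty_fintype X
  by_contra hne
  have hX := not_comm_sixty h
  have hp : Cfsg.charDegree ((Char.principalIrr : Cfsg.IrrCharacter X) : X → ℂ) = 1 :=
    CharTools.charDegree_principal
  have hsum := CharTools.sum_degree_sq' (G := X)
  rw [h] at hsum
  set s : Finset (Cfsg.IrrCharacter X) := {Char.principalIrr, φ, ψ} with hs
  have hs3 : s.card ≤ 3 := Finset.card_le_three
  have hs51 : ∑ χ ∈ s, Cfsg.charDegree (χ : X → ℂ) ^ 2 = 51 := by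
    have h1 : (Char.principalIrr : Cfsg.IrrCharacter X) ≠ φ := fun e => by rw [← e, hp] at hφ; omega
    have h2 : (Char.principalIrr : Cfsg.IrrCharacter X) ≠ ψ := fun e => by rw [← e, hp] at hψ; omega
    rw [hs, Finset.sum_insert (by simp [h1, h2]), Finset.sum_insert (by simp [hne]), Finset.sum_singleton,
      hp, hφ, hψ]
    norm_num
  have hcard : 2 ≤ (Finset.univ \ s).card := by
    rw [Finset.card_univ_sdiff, ← Nat.card_eq_fintype_card, Char.card_irrCharacter]
    have := five_le_card_conjClasses h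
    omega
  rw [← Finset.sum_sdiff (Finset.subset_univ s), hs51] at hsum
  have hge : ∀ χ ∈ Finset.univ \ s, 4 ≤ Cfsg.charDegree (χ : X → ℂ) ^ 2 := by
    intro χ hχ
    have hne' : χ ≠ Char.principalIrr := by
      rintro rfl
      simp [hs] at hχ
    have h1 := degree_ne_one_of_simple hX χ hne'
    have h0 := CharTools.irr_degree_pos χ
    exact Nat.pow_le_pow_left (by omega : 2 ≤ Cfsg.charDegree (χ : X → ℂ)) 2
  have h4 := Finset.card_nsmul_le_sum _ _ _ hge
  rw [smul_eq_mul] at h4
  have hc2 : (Finset.univ \ s).card = 2 := by omega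
  obtain ⟨u, v, huv, he⟩ := Finset.card_eq_two.1 hc2
  rw [he, Finset.sum_pair huv] at hsum
  have hu := hge u (by rw [he]; simp)
  have hv := hge v (by rw [he]; simp)
  have hu' := degree_of_sixty h u
  have hv' := degree_of_sixty h v
  simp only [List.mem_cons, List.not_mem_nil, or_false] at hu' hv'
  rcases hu' with e | e | e | e | e | e <;> rcases hv' with e' | e' | e' | e' | e' | e' <;>
    rw [e, e'] at hsum <;> norm_num at hsum

end CfsgLib.SmallSimple
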