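import Mathlib.GroupTheory.Sylow
import Mathlib.GroupTheory.PGroup
import Mathlib.GroupTheory.Complement
import Cfsg.Agent.Lib.SmallSimple.Common

/-!
A Sylow subgroup of prime order acting on a normal subgroup of coprime order: fixed points and centralised Sylow
subgroups.
-/

set_option autoImplicit false
set_option linter.style.haveILetI false

namespace CfsgLib.SmallSimple

open Subgroup MulAction Pointwise

variable {G : Type*} [Group G] [Finite G] {r : ℕ} [hr : Fact r.Prime] {m : ℕ}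

theorem sylow_card (hG : Nat.card G = r * m) (hm : ¬ r ∣ m) (R : Sylow r G) :
    Nat.card ↥(R : Subgroup G) = r := by
  have hd : r ∣ Nat.card ↥(R : Subgroup G) := R.dvd_card_of_dvd_card (hG ▸ dvd_mul_right r m)
  obtain ⟨k, hk⟩ := R.2.exists_card_eq
  have h2 : r ^ k ∣ r * m := hk ▸ hG ▸ Subgroup.card_subgroup_dvd_card _
  rcases k with _ | _ | k
  · rw [hk, pow_zero, Nat.dvd_one] at hd
    exact absurd hd hr.out.ne_one
  · rw [hk, pow_one]
  · exfalso
    apply hm
    have : r * r ∣ r * m := (Dvd.intro (r ^ k) (by ring)).trans h2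
    exact Nat.dvd_of_mul_dvd_mul_left hr.out.pos this

theorem sylow_index (hG : Nat.card G = r * m) (hm : ¬ r ∣ m) (R : Sylow r G) :
    (R : Subgroup G).index = m := by
  have h := (R : Subgroup G).card_mul_index
  rw [sylow_card hG hm R, hG] at h
  exact Nat.eq_of_mul_eq_mul_left hr.out.pos h

theorem card_sylow_dvd (hG : Nat.card G = r * m) (hm : ¬ r ∣ m) : Nat.card (Sylow r G) ∣ m := by
  obtain ⟨R⟩ := (inferInstance : Nonempty (Sylow r G))
  exact sylow_index hG hm R ▸ R.card_dvd_index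

theorem exists_sylow_le (hG : Nat.card G = r * m) (hm : ¬ r ∣ m) {H : Subgroup G} (h : r ∣ Nat.card H) :
    ∃ R : Sylow r G, (R : Subgroup G) ≤ H := by
  obtain ⟨x, hx⟩ := exists_prime_orderOf_dvd_card' r h
  have hxo : Nat.card (zpowers (x : G)) = r := by rw [Nat.card_zpowers, Subgroup.orderOf_coe, hx]
  obtain ⟨R, hR⟩ := (IsPGroup.of_card (p := r) (n := 1) (by rw [hxo, pow_one]) :
    IsPGroup r (zpowers (x : G))).exists_le_sylow
  refine ⟨R, ?_⟩
  rw [← eq_of_le_of_card_ge hR (by rw [hxo, sylow_card hG hm R]), zpowers_le]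
  exact x.2

theorem sylow_le_normal (hG : Nat.card G = r * m) (hm : ¬ r ∣ m) {N : Subgroup G} [N.Normal]
    (h : r ∣ Nat.card N) (R : Sylow r G) : (R : Subgroup G) ≤ N := by
  obtain ⟨S, hS⟩ := exists_sylow_le hG hm h
  obtain ⟨g, rfl⟩ := MulAction.exists_smul_eq G S R
  rw [Sylow.coe_subgroup_smul]
  rintro _ ⟨y, hy, rfl⟩
  exact Subgroup.Normal.conj_mem inferInstance y (hS hy) g

/-- A normal subgroup of order divisible by `r` has all the Sylow `r`-subgroups. -/
theorem card_sylow_normal (hG : Nat.card G = r * m) (hm : ¬ r ∣ m) {N : Subgroup G} [N.Normal]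
    (h : r ∣ Nat.card N) : Nat.card (Sylow r N) = Nat.card (Sylow r G) := by
  obtain ⟨R₀⟩ := (inferInstance : Nonempty (Sylow r G))
  rw [← card_sylow_le R₀ (sylow_le_normal hG hm h R₀)]
  exact Nat.card_congr (Equiv.subtypeUnivEquiv fun R => sylow_le_normal hG hm h R)

theorem card_sup_sylow (hG : Nat.card G = r * m) (hm : ¬ r ∣ m) (N : Subgroup G) [N.Normal]
    (h : ¬ r ∣ Nat.card N) (R : Sylow r G) :
    Nat.card ↥(N ⊔ (R : Subgroup G)) = r * Nat.card N := by
  have hd : Disjoint N (R : Subgroup G) := disjoint_iff.2 (Subgroup.inf_eq_bot_of_coprime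
    (by rw [sylow_card hG hm R]; exact (hr.out.coprime_iff_not_dvd.2 h).symm))
  have hR := sylow_card hG hm R
  rw [show r * Nat.card N = Nat.card (N × ↥(R : Subgroup G)) by rw [Nat.card_prod, hR, mul_comm]]
  refine (Nat.card_eq_of_bijective (fun x : N × ↥(R : Subgroup G) =>
    (⟨(x.1 : G) * x.2, mul_mem (mem_sup_left x.1.2) (mem_sup_right x.2.2)⟩ :
      ↥(N ⊔ (R : Subgroup G)))) ⟨?_, ?_⟩).symm
  · intro a b hab
    exact Subgroup.mul_injective_of_disjoint hd (congrArg Subtype.val hab)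
  · rintro ⟨x, hx⟩
    have hx' : x ∈ ((N ⊔ (R : Subgroup G) : Subgroup G) : Set G) := hx
    rw [Subgroup.normal_mul N (R : Subgroup G)] at hx'
    obtain ⟨a, ha, b, hb, rfl⟩ := hx'
    exact ⟨(⟨a, ha⟩, ⟨b, hb⟩), rfl⟩

theorem normal_sup_sylow (N : Subgroup G) [N.Normal] (h : Nat.card (Sylow r (G ⧸ N)) = 1)
    (R : Sylow r G) : (N ⊔ (R : Subgroup G)).Normal := by
  let Q := R.mapSurjective (QuotientGroup.mk'_surjective N)
  haveI : Subsingleton (Sylow r (G ⧸ N)) := Finite.card_le_one_iff_subsingleton.1 h.le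
  haveI : (Q : Subgroup (G ⧸ N)).Normal := Q.normal_of_subsingleton
  have he : N ⊔ (R : Subgroup G) = (Q : Subgroup (G ⧸ N)).comap (QuotientGroup.mk' N) := by
    show _ = ((R : Subgroup G).map (QuotientGroup.mk' N)).comap _
    rw [Subgroup.comap_map_eq, QuotientGroup.ker_mk', sup_comm]
  rw [he]
  infer_instance

theorem card_inf_centralizer_conj (N : Subgroup G) [N.Normal] (R S : Sylow r G) :
    Nat.card ↥(N ⊓ centralizer ((R : Subgroup G) : Set G)) =
      Nat.card ↥(N ⊓ centralizer ((S : Subgroup G) : Set G)) := by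
  suffices ∀ R S : Sylow r G, Nat.card ↥(N ⊓ centralizer ((R : Subgroup G) : Set G)) ≤
      Nat.card ↥(N ⊓ centralizer ((S : Subgroup G) : Set G)) from le_antisymm (this R S) (this S R)
  intro R S
  obtain ⟨g, rfl⟩ := MulAction.exists_smul_eq G R S
  refine Nat.card_le_card_of_injective (fun x => (⟨g * x * g⁻¹, ?_⟩ :
    ↥(N ⊓ centralizer (((g • R : Sylow r G) : Subgroup G) : Set G)))) fun a b h => ?_
  · refine ⟨Subgroup.Normal.conj_mem inferInstance _ x.2.1 g, mem_centralizer_iff.2 ?_⟩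
    intro y hy
    rw [SetLike.mem_coe, Sylow.coe_subgroup_smul] at hy
    obtain ⟨z, hz, rfl⟩ := hy
    have := mem_centralizer_iff.1 x.2.2 z hz
    simp only [MulDistribMulAction.toMonoidEnd_apply, MulDistribMulAction.toMonoidHom_apply,
      MulAut.smul_def, MulAut.conj_apply]
    calc g * z * g⁻¹ * (g * x * g⁻¹) = g * (z * x) * g⁻¹ := by group
      _ = g * ((x : G) * z) * g⁻¹ := by rw [this]
      _ = _ := by group
  · exact Subtype.ext (mul_left_cancel (mul_right_cancel (congrArg Subtype.val h)))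

/-- The fixed points of `R` on `Q` are counted modulo `r`. -/
theorem card_inf_centralizer_modEq {R Q : Subgroup G} (hR : IsPGroup r R)
    (hRQ : R ≤ normalizer (Q : Set G)) :
    Nat.card Q ≡ Nat.card ↥(Q ⊓ centralizer (R : Set G)) [MOD r] := by
  letI : MulAction R Q :=
    { smul := fun g x => ⟨g * x * (g : G)⁻¹, (mem_normalizer_iff.1 (hRQ g.2) x).1 x.2⟩
      one_smul := fun x => Subtype.ext (show (1 : G) * x * (1 : G)⁻¹ = x by group)
      mul_smul := fun g h x => Subtype.ext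
        (show (g : G) * h * x * ((g : G) * h)⁻¹ = g * (h * x * (h : G)⁻¹) * (g : G)⁻¹ by group) }
  refine (hR.card_modEq_card_fixedPoints Q).trans (congrArg (· % r) (Nat.card_congr
    { toFun := fun x => ⟨(x.1 : G), x.1.2, mem_centralizer_iff.2 fun y hy => ?_⟩
      invFun := fun x => ⟨⟨x, x.2.1⟩, fun g => Subtype.ext ?_⟩
      left_inv := fun x => rfl
      right_inv := fun x => rfl }))
  · exact mul_inv_eq_iff_eq_mul.1 (congrArg Subtype.val (x.2 ⟨y, hy⟩) : y * (x.1 : G) * y⁻¹ = x.1)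
  · show (g : G) * x * (g : G)⁻¹ = x
    exact mul_inv_eq_iff_eq_mul.2 (mem_centralizer_iff.1 x.2.2 g g.2)

/-- Without small exceptional powers, `R` either centralises `Q` or fixes only the identity. -/
theorem le_centralizer_or_inf_eq_bot {R Q : Subgroup G} (hR : IsPGroup r R)
    (hRQ : R ≤ normalizer (Q : Set G)) {q b : ℕ} (hq : q.Prime) (hqr : q ≠ r) (hQ : Nat.card Q = q ^ b)
    (good : ∀ i, 0 < i → i < b → ¬ r ∣ q ^ i - 1) :
    Q ≤ centralizer (R : Set G) ∨
      (Q ⊓ centralizer (R : Set G) = ⊥ ∧ r ∣ q ^ b - 1) := by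
  have hm := card_inf_centralizer_modEq hR hRQ
  obtain ⟨a, hab, ha⟩ := (Nat.dvd_prime_pow hq).1
    (hQ ▸ Subgroup.card_dvd_of_le (inf_le_left : Q ⊓ centralizer (R : Set G) ≤ Q))
  rw [hQ, ha] at hm
  have hle : q ^ a ≤ q ^ b := Nat.pow_le_pow_right hq.pos hab
  have hd := (Nat.modEq_iff_dvd' hle).1 hm.symm
  rw [show q ^ b - q ^ a = q ^ a * (q ^ (b - a) - 1) by
    rw [Nat.mul_sub, mul_one, ← pow_add, Nat.add_sub_cancel' hab]] at hd
  have hd' : r ∣ q ^ (b - a) - 1 := (hr.out.dvd_mul.1 hd).resolve_left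
    fun h => hqr ((Nat.prime_dvd_prime_iff_eq hr.out hq).1 (hr.out.dvd_of_dvd_pow h)).symm
  rcases Nat.eq_zero_or_pos (b - a) with h0 | h0
  · left
    have : Q ⊓ centralizer (R : Set G) = Q :=
      eq_of_le_of_card_ge inf_le_left (by rw [hQ, ha, show a = b by omega])
    exact inf_eq_left.1 this
  · rcases Nat.eq_zero_or_pos a with rfl | ha0
    · right
      exact ⟨eq_bot_of_card_eq _ (by rw [ha, pow_zero]), by simpa using! hd'⟩
    · exact absurd hd' (good _ h0 (by omega))

theorem le_centralizer_of_good {R Q : Subgroup G} (hR : IsPGroup r R)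
    (hRQ : R ≤ normalizer (Q : Set G)) {q b : ℕ} (hq : q.Prime) (hqr : q ≠ r) (hQ : Nat.card Q = q ^ b)
    (good : ∀ i, 0 < i → i ≤ b → ¬ r ∣ q ^ i - 1) : Q ≤ centralizer (R : Set G) := by
  rcases le_centralizer_or_inf_eq_bot hR hRQ hq hqr hQ fun i h0 h => good i h0 h.le with h | ⟨-, h⟩
  · exact h
  · rcases Nat.eq_zero_or_pos b with rfl | hb
    · rw [pow_zero] at hQ
      rw [eq_bot_of_card_eq _ hQ]
      exact bot_le
    · exact absurd h (good b hb le_rfl)

/-- If the fixed point free `R` has no small exceptional power, the `q`-group is abelian. -/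
theorem isMulCommutative_of_inf_eq_bot {R Q : Subgroup G} (hR : IsPGroup r R)
    (hRQ : R ≤ normalizer (Q : Set G)) {q b : ℕ} (hq : q.Prime) (hqr : q ≠ r) (hQ : Nat.card Q = q ^ b)
    (good : ∀ i, 0 < i → i < b → ¬ r ∣ q ^ i - 1)
    (h0 : Q ⊓ centralizer (R : Set G) = ⊥) : IsMulCommutative Q := by
  have : Fact q.Prime := ⟨hq⟩
  set Z := (Subgroup.center Q).map Q.subtype with hZ
  have hZQ : Z ≤ Q := Subgroup.map_subtype_le _
  have hRZ : R ≤ normalizer (Z : Set G) := by
    have key : ∀ g ∈ R, ∀ z ∈ Z, g * z * g⁻¹ ∈ Z := by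
      rintro g hg _ ⟨⟨z, hzQ⟩, hz, rfl⟩
      have hgz : g * z * g⁻¹ ∈ Q := (mem_normalizer_iff.1 (hRQ hg) z).1 hzQ
      refine ⟨⟨_, hgz⟩, Subgroup.mem_center_iff.2 fun u => Subtype.ext ?_, rfl⟩
      have hu : g⁻¹ * u * g ∈ Q := by
        simpa using! (mem_normalizer_iff.1 (hRQ (inv_mem hg)) (u : G)).1 u.2
      have h : g⁻¹ * u * g * z = z * (g⁻¹ * u * g) :=
        congrArg Subtype.val (Subgroup.mem_center_iff.1 hz ⟨_, hu⟩)
      show (u : G) * (g * z * g⁻¹) = g * z * g⁻¹ * u
      calc (u : G) * (g * z * g⁻¹) = g * (g⁻¹ * u * g * z) * g⁻¹ := by group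
        _ = g * (z * (g⁻¹ * u * g)) * g⁻¹ := by rw [h]
        _ = _ := by group
    intro g hg
    refine mem_normalizer_iff.2 fun x => ⟨key g hg x, fun hx => ?_⟩
    have := key g⁻¹ (inv_mem hg) _ hx
    simpa [mul_assoc] using! this
  obtain ⟨c, hcb, hc⟩ := (Nat.dvd_prime_pow hq).1 (hQ ▸ Subgroup.card_dvd_of_le hZQ)
  have hZc : Nat.card Z = Nat.card (Subgroup.center Q) :=
    Nat.card_congr ((Subgroup.center Q).equivMapOfInjective _ Q.subtype_injective).toEquiv.symm
  rcases hcb.eq_or_lt with rfl | hlt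
  · have htop : Subgroup.center Q = ⊤ := Subgroup.eq_top_of_card_eq _ (by rw [← hZc, hc, hQ])
    exact ⟨⟨fun a b => (Subgroup.mem_center_iff.1 (htop ▸ Subgroup.mem_top b) a)⟩⟩
  · exfalso
    have h := le_centralizer_of_good hR hRZ hq hqr hc fun i h1 h2 => good i h1 (by omega)
    have hZbot : Z = ⊥ := le_bot_iff.1 (h0 ▸ le_inf hZQ h)
    have h1 : Nat.card Q ≠ 1 := by
      rw [hQ]
      exact (Nat.one_lt_pow (by omega) hq.one_lt).ne'
    haveI : Nontrivial Q := (Finite.one_lt_card_iff_nontrivial).1 (by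
      have := Nat.card_pos (α := Q)
      omega)
    have hnt := ((IsPGroup.of_card hQ : IsPGroup q Q)).center_nontrivial
    have hgt := Finite.one_lt_card_iff_nontrivial.2 hnt
    rw [← hZc, hZbot, Subgroup.card_bot] at hgt
    omega

/-- Frattini: `R` normalises a Sylow subgroup of the normal subgroup. -/
theorem exists_sylow_normalizer (hG : Nat.card G = r * m) (hm : ¬ r ∣ m) (N : Subgroup G) [N.Normal]
    (h : ¬ r ∣ Nat.card N) (q : ℕ) [Fact q.Prime] :
    ∃ (R : Sylow r G) (Q : Sylow q N),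
      (R : Subgroup G) ≤ normalizer (((Q : Subgroup N).map N.subtype : Subgroup G) : Set G) := by
  obtain ⟨Q⟩ := (inferInstance : Nonempty (Sylow q N))
  have htop := Sylow.normalizer_sup_eq_top Q
  set H := normalizer (((Q : Subgroup N).map N.subtype : Subgroup G) : Set G)
  have hrH : r ∣ Nat.card H := by
    have hi : N.index ∣ Nat.card H := by
      rw [← Subgroup.relIndex_top_right, ← htop, Subgroup.relIndex_sup_right]
      exact Subgroup.index_dvd_card _
    have : r ∣ Nat.card N * N.index := by rw [N.card_mul_index, hG]; exact dvd_mul_right r m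
    exact ((hr.out.dvd_mul.1 this).resolve_left h).trans hi
  obtain ⟨R, hR⟩ := exists_sylow_le hG hm hrH
  exact ⟨R, Q, hR⟩

/-- The full `q`-part of a normal subgroup centralises `R` when no power is exceptional. -/
theorem pow_dvd_card_inf_centralizer (hG : Nat.card G = r * m) (hm : ¬ r ∣ m) (N : Subgroup G) [N.Normal]
    (h : ¬ r ∣ Nat.card N) {q b : ℕ} (hq : q.Prime) (hb : q ^ b ∣ Nat.card N)
    (good : ∀ i, 0 < i → q ^ i ∣ Nat.card N → ¬ r ∣ q ^ i - 1) (R : Sylow r G) :
    q ^ b ∣ Nat.card ↥(N ⊓ centralizer ((R : Subgroup G) : Set G)) := by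
  rcases Nat.eq_zero_or_pos b with rfl | hb0
  · simp
  have : Fact q.Prime := ⟨hq⟩
  have hqr : q ≠ r := by
    rintro rfl
    exact h ((dvd_pow_self q hb0.ne').trans hb)
  obtain ⟨S, Q, hS⟩ := exists_sylow_normalizer hG hm N h q
  rw [card_inf_centralizer_conj N R S]
  have hc : Nat.card ((Q : Subgroup N).map N.subtype : Subgroup G) = Nat.card Q :=
    Nat.card_congr ((Q : Subgroup N).equivMapOfInjective _ N.subtype_injective).toEquiv.symm
  obtain ⟨k, hk⟩ := Q.2.exists_card_eq
  have hle := le_centralizer_of_good S.2 hS hq hqr (hc.trans hk) fun i h0 hi =>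
    good i h0 ((pow_dvd_pow q hi).trans (hk ▸ Subgroup.card_subgroup_dvd_card _))
  have hd := Subgroup.card_dvd_of_le (le_inf (Subgroup.map_subtype_le _) hle)
  rw [hc] at hd
  exact (Q.pow_dvd_card_of_pow_dvd_card hb).trans hd

/-- With no exceptional powers at all, a normal subgroup of order prime to `r` centralises `R`. -/
theorem le_centralizer_of_all_good (hG : Nat.card G = r * m) (hm : ¬ r ∣ m) (N : Subgroup G) [N.Normal]
    (h : ¬ r ∣ Nat.card N)
    (good : ∀ q i, q.Prime → 0 < i → q ^ i ∣ Nat.card N → ¬ r ∣ q ^ i - 1) (R : Sylow r G) :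
    N ≤ centralizer ((R : Subgroup G) : Set G) := by
  have hd : Nat.card N ∣ Nat.card ↥(N ⊓ centralizer ((R : Subgroup G) : Set G)) :=
    (Nat.dvd_iff_prime_pow_dvd_dvd _ _).2 fun q b hq hb =>
      pow_dvd_card_inf_centralizer hG hm N h hq hb (fun i h0 hi => good q i hq h0 hi) R
  exact inf_eq_left.1 (eq_of_le_of_card_ge inf_le_left (Nat.le_of_dvd Nat.card_pos hd))

/-- A centralised normal complement makes the Sylow subgroup normal. -/
theorem card_sylow_eq_one_of_complement (N : Subgroup G) (R : Sylow r G)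
    (htop : N ⊔ (R : Subgroup G) = ⊤) (hN : N ≤ centralizer ((R : Subgroup G) : Set G)) :
    Nat.card (Sylow r G) = 1 := by
  have hle : (⊤ : Subgroup G) ≤ normalizer ((R : Subgroup G) : Set G) :=
    htop ▸ sup_le (hN.trans (centralizer_le_normalizer _)) le_normalizer
  haveI : (R : Subgroup G).Normal := Subgroup.normalizer_eq_top_iff.1 (top_le_iff.1 hle)
  haveI := Sylow.unique_of_normal R inferInstance
  exact Nat.card_unique

end CfsgLib.SmallSimple
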