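import Cfsg.Agent.Lib.SmallSimple.Common

/-!
There is no simple group of order `1344 = 2 ^ 6 * 3 * 7`: two Sylow `2`-subgroups meet in a subgroup `D` of order
`16` with normaliser of order `96`, on which an element of order `3` acts without fixed points.
-/

set_option autoImplicit false

namespace CfsgLib.SmallSimple

open Subgroup MulAction CfsgLib.SmallOrder Pointwise

/-- The fixed points of an automorphism of `3`-power order one are congruent to the order of the group. -/
theorem card_modEq_card_fixed {A : Type*} [Group A] [Finite A] {φ : MulAut A} (hφ : φ ^ 3 = 1) :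
    Nat.card A ≡ Nat.card {a : A | φ a = a} [MOD 3] := by
  have : Fact (Nat.Prime 3) := ⟨Nat.prime_three⟩
  have hR : IsPGroup 3 (zpowers φ) := by
    obtain ⟨j, -, hj⟩ := (Nat.dvd_prime_pow Nat.prime_three).1
      (show orderOf φ ∣ 3 ^ 1 from orderOf_dvd_iff_pow_eq_one.2 hφ)
    exact IsPGroup.of_card (n := j) (by rw [Nat.card_zpowers, hj])
  have hfix : MulAction.fixedPoints (zpowers φ) A = {a : A | φ a = a} := by
    ext a
    constructor
    · intro h; exact h ⟨φ, mem_zpowers φ⟩
    · intro h g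
      have h1 : φ ∈ MulAction.stabilizer (MulAut A) a := h
      exact zpowers_le.2 h1 g.2
  have hmod := hR.card_modEq_card_fixedPoints A
  rwa [hfix] at hmod

/-- A group of order `16` with a fixed point free automorphism of order `3` is abelian. -/
theorem commute_of_fixedPointFree {A : Type*} [Group A] [Finite A] (hA : Nat.card A = 16) {φ : MulAut A}
    (hφ : φ ^ 3 = 1) (hfix : ∀ a, φ a = a → a = 1) (u v : A) : Commute u v := by
  classical
  have h3 : ∀ a, φ (φ (φ a)) = a := fun a => by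
    have := DFunLike.congr_fun hφ a
    simpa [pow_succ, MulAut.mul_apply] using this
  have hinj : Function.Injective fun a => a⁻¹ * φ a := fun a b h => by
    have h1 : φ (a * b⁻¹) = a * b⁻¹ := by
      have h' : φ a = a * (b⁻¹ * φ b) := by
        rw [← show a⁻¹ * φ a = b⁻¹ * φ b from h]; group
      rw [map_mul, map_inv, h']; group
    exact mul_inv_eq_one.1 (hfix _ h1)
  have hsurj := Finite.surjective_of_injective hinj
  have hc : ∀ x, Commute x (φ x) := by
    intro x
    obtain ⟨a, rfl⟩ := hsurj x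
    have e1 : a⁻¹ * φ a * φ (a⁻¹ * φ a) * φ (φ (a⁻¹ * φ a)) = 1 := by
      simp only [map_mul, map_inv, h3]; group
    set w := a⁻¹ * φ a with hw
    have hinj' : Function.Injective fun b => b⁻¹ * φ (φ b) := fun b c h => by
      have h1 : φ (φ (b * c⁻¹)) = b * c⁻¹ := by
        have h' : φ (φ b) = b * (c⁻¹ * φ (φ c)) := by
          rw [← show b⁻¹ * φ (φ b) = c⁻¹ * φ (φ c) from h]; group
        rw [map_mul, map_inv, map_mul, map_inv, h']; group
      have h2 := congrArg φ h1
      rw [h3] at h2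
      exact mul_inv_eq_one.1 (hfix _ h2.symm)
    obtain ⟨b, hb⟩ := Finite.surjective_of_injective hinj' w
    have e2 : w * φ (φ w) * φ w = 1 := by
      rw [← hb]; simp only [map_mul, map_inv, h3]; group
    rw [mul_assoc, mul_eq_one_iff_inv_eq] at e1 e2
    have he : φ w * φ (φ w) = φ (φ w) * φ w := e1.symm.trans e2
    have h2 := congrArg (fun z => φ (φ z)) he
    simp only [map_mul, h3] at h2
    exact h2
  have : Fact (Nat.Prime 2) := ⟨Nat.prime_two⟩
  have hpg : IsPGroup 2 A := IsPGroup.of_card (n := 4) (by rw [hA]; norm_num)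
  have : Nontrivial A := Finite.one_lt_card_iff_nontrivial.1 (by omega)
  set Z := Subgroup.center A with hZ
  have hZinv : ∀ z ∈ Z, φ z ∈ Z := fun z hz => mem_center_iff.2 fun g => by
    obtain ⟨g', rfl⟩ := φ.surjective g
    rw [← map_mul, ← map_mul, mem_center_iff.1 hz g']
  by_contra huv
  obtain ⟨x, hx⟩ : ∃ x, x ∉ Z := ⟨u, fun h => huv (mem_center_iff.1 h v).symm⟩
  set C := centralizer ({x} : Set A) with hC
  have hxC : x ∈ C := mem_centralizer_singleton_iff.2 rfl
  have hZC : Z ≤ C := center_le_centralizer _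
  have hCtop : C ≠ ⊤ := fun h => hx (mem_center_iff.2 fun g =>
    mem_centralizer_singleton_iff.1 (h ▸ mem_top g : g ∈ C))
  have hlt : Nat.card Z < Nat.card C := by
    rcases (Subgroup.card_le_of_le hZC).lt_or_eq with h | h
    · exact h
    · exact absurd (eq_of_le_of_card_ge hZC h.ge ▸ hxC) hx
  have hCd : Nat.card C ∈ Nat.divisors 16 := Nat.mem_divisors.2 ⟨hA ▸ C.card_subgroup_dvd_card, by norm_num⟩
  have hCne : Nat.card C ≠ 16 := fun h => hCtop (Subgroup.eq_top_of_card_eq C (h.trans hA.symm))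
  have hZd : Nat.card Z ∈ Nat.divisors 16 := Nat.mem_divisors.2 ⟨hA ▸ Z.card_subgroup_dvd_card, by norm_num⟩
  have hZ1 : Nat.card Z ≠ 1 := by
    have := hpg.center_nontrivial
    exact (Finite.one_lt_card (α := Z)).ne'
  -- the centre is invariant
  let ψ : MulAut Z :=
    { toFun := fun z => ⟨φ z, hZinv z z.2⟩
      invFun := fun z => ⟨φ (φ z), hZinv _ (hZinv z z.2)⟩
      left_inv := fun z => Subtype.ext (h3 z)
      right_inv := fun z => Subtype.ext (h3 z)
      map_mul' := fun a b => Subtype.ext (map_mul φ (a : A) b) }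
  have hψ : ψ ^ 3 = 1 := by
    refine MulEquiv.ext fun z => ?_
    simp only [pow_succ, pow_zero, one_mul, MulAut.mul_apply, MulAut.one_apply]
    exact Subtype.ext (h3 z)
  have hmod := card_modEq_card_fixed hψ
  have hone : Nat.card {z : Z | ψ z = z} = 1 := by
    rw [Nat.card_eq_one_iff_unique]
    refine ⟨⟨fun a b => Subtype.ext (Subtype.ext ?_)⟩, ⟨⟨1, map_one ψ⟩⟩⟩
    rw [hfix _ (congrArg Subtype.val a.2), hfix _ (congrArg Subtype.val b.2)]
  rw [hone, Nat.ModEq] at hmod
  rw [show Nat.divisors 16 = {1, 2, 4, 8, 16} by decide] at hCd hZd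
  simp only [Finset.mem_insert, Finset.mem_singleton] at hCd hZd
  have hidx : (Z.subgroupOf C).index = 2 := by
    have h := (Z.subgroupOf C).card_mul_index
    rw [Nat.card_congr (subgroupOfEquivOfLe hZC).toEquiv] at h
    rcases hZd with h4 | h4 | h4 | h4 | h4 <;> rcases hCd with h8 | h8 | h8 | h8 | h8 <;>
      rw [h4] at h hmod hlt hZ1 <;> rw [h8] at h hlt hCne <;> omega
  have hφC : φ x ∈ C := mem_centralizer_singleton_iff.2 (hc x).eq.symm
  have hmem : x⁻¹ * φ x ∈ Z := by
    have h := (Subgroup.mul_mem_iff_of_index_two hidx (a := (⟨x, hxC⟩ : C)⁻¹) (b := ⟨φ x, hφC⟩)).2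
    simp only [inv_mem_iff, mem_subgroupOf, coe_mul, coe_inv] at h
    refine h ⟨fun h1 => absurd h1 hx, fun h1 => absurd ?_ hx⟩
    have h1' := hZinv _ (hZinv _ h1)
    rwa [h3] at h1'
  obtain ⟨z, hz⟩ := Finite.surjective_of_injective
    (show Function.Injective fun z : Z => (⟨(z : A)⁻¹ * φ z, mul_mem (inv_mem z.2) (hZinv z z.2)⟩ : Z) from
      fun a b h => Subtype.ext (hinj (congrArg Subtype.val h))) ⟨_, hmem⟩
  exact hx ((hinj (congrArg Subtype.val hz)) ▸ z.2)

variable {G : Type*} [Group G] [Finite G] [IsSimpleGroup G]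

/-- Two Sylow `2`-subgroups of a simple group of order `1344` cannot share a subgroup of index `2`. -/
theorem inf_sylow_lt_1344 [Fact (Nat.Prime 2)] (hN : Nat.card G = 1344) {S T : Sylow 2 G} (hST : S ≠ T)
    {K : Subgroup G} (hK : Nat.card K = 32) (hKS : K ≤ (S : Subgroup G)) (hKT : K ≤ (T : Subgroup G)) :
    False := by
  have hG : ¬ IsMulCommutative G := not_comm_of_not_prime (by rw [hN]; norm_num)
  have hle : ∀ U : Sylow 2 G, K ≤ (U : Subgroup G) → (U : Subgroup G) ≤ normalizer (K : Set G) := by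
    intro U hKU
    have hi : (K.subgroupOf (U : Subgroup G)).index = 2 := by
      have h := (K.subgroupOf (U : Subgroup G)).card_mul_index
      rw [Nat.card_congr (subgroupOfEquivOfLe hKU).toEquiv, hK,
        show Nat.card ↥(U : Subgroup G) = 64 by
          simpa using card_sylow_eq (e := 6) (m := 21) (by rw [hN]; norm_num) (by norm_num) U] at h
      omega
    exact (normal_subgroupOf_iff_le_normalizer hKU).1 (Subgroup.normal_of_index_eq_two hi)
  obtain ⟨n, hn, hn1, hd⟩ := dvd_card_of_two_sylow S T hST (hle S hKS) (hle T hKT)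
  have hne : normalizer (K : Set G) ≠ ⊤ := fun h => by
    have hK' := normal_eq_top (Subgroup.normalizer_eq_top_iff.1 h) (fun h0 => by rw [h0, card_bot] at hK; omega)
    rw [hK', card_top, hN] at hK
    omega
  have hf := two_mul_card_dvd_factorial hG hne
  have hS : Nat.card ↥(S : Subgroup G) = 64 := by
    simpa using card_sylow_eq (e := 6) (m := 21) (by rw [hN]; norm_num) (by norm_num) S
  have hm := (normalizer (K : Set G)).card_mul_index
  obtain ⟨j, hj⟩ := hd
  rw [hS] at hj
  have h7 : (normalizer (K : Set G)).index ≤ 7 := by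
    rw [hj, hN] at hm
    have hj0 : 0 < j := Nat.pos_of_ne_zero fun h => Nat.card_pos.ne' (hj.trans (by simp [h]))
    have : 3 ≤ n * j := by nlinarith [show 3 ≤ n by omega]
    nlinarith
  have h' : 2 * Nat.card G ∣ (7 : ℕ).factorial := hf.trans (Nat.factorial_dvd_factorial h7)
  rw [hN] at h'
  norm_num [Nat.factorial] at h'

/-- The centraliser of an element of order `3` in a simple group of order `1344` has order `6`. -/
theorem card_centralizer_three_1344 (hN : Nat.card G = 1344) {y : G} (hy : orderOf y = 3) :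
    Nat.card ↥(centralizer ({y} : Set G)) = 6 := by
  classical
  have : Fact (Nat.Prime 7) := ⟨by norm_num⟩
  have : Fact (Nat.Prime 3) := ⟨Nat.prime_three⟩
  have hG : ¬ IsMulCommutative G := not_comm_of_not_prime (by rw [hN]; norm_num)
  obtain ⟨P⟩ := (inferInstance : Nonempty (Sylow 7 G))
  obtain ⟨_, _, _, hmem, hn7, hC7, -⟩ := exists_option hN 192 40 [(64, 1, 3)] (by norm_num) (by norm_num)
    (by norm_num) (by decide +kernel : _ = true) P
  simp only [List.mem_singleton, Prod.mk.injEq] at hmem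
  obtain ⟨rfl, rfl, rfl⟩ := hmem
  have hd7 : 7 ∣ Nat.card G := by rw [hN]; norm_num
  have h7 : ¬ 7 ^ 2 ∣ Nat.card G := by rw [hN]; norm_num
  have hd3 : 3 ∣ Nat.card G := by rw [hN]; norm_num
  have h3 : ¬ 3 ^ 2 ∣ Nat.card G := by rw [hN]; norm_num
  obtain ⟨e, he, he', hm⟩ := sylow_data (p := 3) hG (m := 448) (by rw [hN]) (by norm_num)
  obtain rfl : e = 2 := le_antisymm (Nat.le_of_dvd (by norm_num) he') he
  have hR : ∀ R : Sylow 7 G, Nat.card ↥(R : Subgroup G) = 7 := fun R => (card_centralizer_sylow hd7 h7 R).1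
  have hD := card_moving_ge (p := 7) hR (k := 3) (d := 7)
    (fun R => by have h := card_normalizer_mul R; rw [hn7, hN] at h; omega)
    (fun R => by rw [(card_centralizer_sylow hd7 h7 R).2.1, cPart_eq hd7 h7 P hC7])
  have hQ3 : ∀ Q : Sylow 3 G, Nat.card ↥(Q : Subgroup G) = 3 := fun Q => (card_centralizer_sylow hd3 h3 Q).1
  have hM : {g : G | g ≠ 1 ∧ orderOf g ∣ 3}.ncard ≤ Nat.card (Sylow 3 G) * 2 := by
    have hex : ∀ g : {g : G | g ≠ 1 ∧ orderOf g ∣ 3}, ∃ Q : Sylow 3 G, (g : G) ∈ (Q : Subgroup G) := by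
      rintro ⟨g, hg1, hg⟩
      obtain ⟨Q, hQ⟩ := exists_sylow_eq (p := 3) (m := 448) (by rw [hN]) (by norm_num) (S := zpowers g)
        (by rw [Nat.card_zpowers]
            exact ((Nat.dvd_prime Nat.prime_three).1 hg).resolve_left (fun h => hg1 (orderOf_eq_one_iff.1 h)))
      exact ⟨Q, hQ ▸ mem_zpowers g⟩
    choose Q hQ using hex
    rw [← Nat.card_coe_set_eq]
    refine le_trans (Nat.card_le_card_of_injective
      (fun g => (⟨Q g, ⟨⟨g.1, hQ g⟩, fun h => g.2.1 (congrArg Subtype.val h)⟩⟩ :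
        Σ R : Sylow 3 G, {u : ↥(R : Subgroup G) // u ≠ 1})) ?_) (le_of_eq ?_)
    · intro a b h
      exact Subtype.ext (congrArg (fun z : Σ R : Sylow 3 G, {u : ↥(R : Subgroup G) // u ≠ 1} => (z.2.1 : G)) h)
    · have := Fintype.ofFinite (Sylow 3 G)
      rw [Nat.card_sigma, Finset.sum_congr rfl (fun R _ => show _ = 2 from by
        have := Fintype.ofFinite ↥(R : Subgroup G)
        rw [Nat.card_eq_fintype_card, Fintype.card_subtype_compl, Fintype.card_subtype_eq,
          ← Nat.card_eq_fintype_card, hQ3 R]),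
        Finset.sum_const, smul_eq_mul, Finset.card_univ, Nat.card_eq_fintype_card]
  rw [hn7] at hD
  have hn45 : 45 ≤ Nat.card (Sylow 3 G) := by omega
  have hprod : Nat.card (Sylow 3 G) * cPart 3 G = 224 := by
    rw [← mul_assoc] at hm; omega
  have hn3 : Nat.card (Sylow 3 G) = 112 := by
    have hd : Nat.card (Sylow 3 G) ∈ Nat.divisors 224 :=
      Nat.mem_divisors.2 ⟨⟨_, hprod.symm⟩, by norm_num⟩
    have h1 := card_sylow_modEq_one 3 G
    exact (by decide : ∀ n ∈ Nat.divisors 224, n % 3 = 1 → 45 ≤ n → n = 112) _ hd h1 hn45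
  have hc3 : cPart 3 G = 2 := by rw [hn3] at hprod; omega
  obtain ⟨Q, hQ⟩ := exists_sylow_eq (p := 3) (m := 448) (by rw [hN]) (by norm_num) (S := zpowers y)
    (by rw [Nat.card_zpowers, hy])
  have h := (card_centralizer_sylow hd3 h3 Q).2.1
  rw [hc3, hQ] at h
  rwa [Subgroup.zpowers_eq_closure, Subgroup.centralizer_closure] at h

/-- There is no simple group of order `1344`. -/
theorem card_ne_1344 : Nat.card G ≠ 1344 := by
  intro hN
  have : Fact (Nat.Prime 2) := ⟨Nat.prime_two⟩
  have : Fact (Nat.Prime 3) := ⟨Nat.prime_three⟩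
  have hG : ¬ IsMulCommutative G := not_comm_of_not_prime (by rw [hN]; norm_num)
  have h64 : ∀ U : Sylow 2 G, Nat.card ↥(U : Subgroup G) = 64 := fun U => by
    simpa using card_sylow_eq (e := 6) (m := 21) (by rw [hN]; norm_num) (by norm_num) U
  have hn2 := card_sylow_mem_sylowCands (p := 2) (e := 6) (m := 21) hN (by norm_num) (by norm_num)
    (by norm_num) (by norm_num)
  rw [show sylowCands 1344 2 21 = [21] by decide +kernel, List.mem_singleton] at hn2
  obtain ⟨S, T, hST, hidx⟩ := exists_sylow_pair (G := G) 2 3 (by rw [hn2]; decide)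
  set D := (S : Subgroup G) ⊓ (T : Subgroup G) with hDdef
  have hDS : D ≤ (S : Subgroup G) := inf_le_left
  have hDT : D ≤ (T : Subgroup G) := inf_le_right
  have hD : Nat.card D = 16 := by
    have h := ((T : Subgroup G).subgroupOf (S : Subgroup G)).card_mul_index
    rw [← Subgroup.inf_subgroupOf_left, Nat.card_congr (subgroupOfEquivOfLe hDS).toEquiv, h64,
      Subgroup.inf_subgroupOf_left] at h
    have hd : Nat.card D ∈ Nat.divisors 64 :=
      Nat.mem_divisors.2 ⟨h64 S ▸ card_dvd_of_le hDS, by norm_num⟩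
    have hne64 : Nat.card D ≠ 64 := fun h' => hST (Sylow.ext (by
      have e1 := eq_of_le_of_card_ge hDS (by rw [h', h64])
      have e2 := eq_of_le_of_card_ge hDT (by rw [h', h64])
      exact e1.symm.trans e2))
    have hne32 : Nat.card D ≠ 32 := fun h' => inf_sylow_lt_1344 hN hST h' hDS hDT
    have : 16 ≤ Nat.card D := by
      simp only [show 2 ^ (3 - 1) = 4 by norm_num] at hidx
      nlinarith
    exact (by decide : ∀ n ∈ Nat.divisors 64, 16 ≤ n → n ≠ 32 → n ≠ 64 → n = 16) _ hd this hne32 hne64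
  set H := normalizer (D : Set G) with hH
  -- subgroups of order `32` of `S` and `T` normalising `D`
  have hK : ∀ U : Sylow 2 G, D ≤ (U : Subgroup G) →
      ∃ K : Subgroup G, Nat.card K = 32 ∧ D ≤ K ∧ K ≤ (U : Subgroup G) ∧ K ≤ H := by
    intro U hDU
    obtain ⟨K, hK, hDK⟩ := Sylow.exists_subgroup_card_pow_succ (G := ↥(U : Subgroup G)) (p := 2) (n := 4)
      (by rw [h64]; norm_num) (H := D.subgroupOf (U : Subgroup G))
      (by rw [Nat.card_congr (subgroupOfEquivOfLe hDU).toEquiv, hD]; norm_num)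
    have hc : Nat.card (K.map (U : Subgroup G).subtype) = 32 := by
      rw [← Nat.card_congr (K.equivMapOfInjective _ (Subgroup.subtype_injective _)).toEquiv, hK]; norm_num
    have hDK' : D ≤ K.map (U : Subgroup G).subtype := fun x hx => ⟨⟨x, hDU hx⟩, hDK (mem_subgroupOf.2 hx), rfl⟩
    refine ⟨_, hc, hDK', Subgroup.map_subtype_le K, ?_⟩
    refine (normal_subgroupOf_iff_le_normalizer hDK').1 (Subgroup.normal_of_index_eq_two ?_)
    have h := (D.subgroupOf (K.map (U : Subgroup G).subtype)).card_mul_index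
    rw [Nat.card_congr (subgroupOfEquivOfLe hDK').toEquiv, hD, hc] at h
    omega
  obtain ⟨K, hKc, hDK, hKS, hKH⟩ := hK S hDS
  obtain ⟨K₂, hK₂c, -, hK₂T, hK₂H⟩ := hK T hDT
  have hKK : ¬ K₂ ≤ K := fun h => by
    have := Subgroup.card_le_of_le (K := D) (le_inf (h.trans hKS) hK₂T)
    omega
  have h96 : Nat.card H = 96 := by
    have hd : 32 ∣ Nat.card H := hKc ▸ card_dvd_of_le hKH
    have h2 : ¬ IsPGroup 2 H := fun hp => by
      obtain ⟨U, hU⟩ := hp.exists_le_sylow
      by_cases hUS : U = S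
      · subst hUS
        have := Subgroup.card_le_of_le (K := D) (le_inf (hK₂H.trans hU) hK₂T)
        omega
      · exact inf_sylow_lt_1344 hN hUS hKc (hKH.trans hU) hKS
    have hne : H ≠ ⊤ := fun h => by
      have := normal_eq_top (Subgroup.normalizer_eq_top_iff.1 h) (fun h0 => by rw [h0, card_bot] at hD; omega)
      rw [this, card_top, hN] at hD
      omega
    have hf := two_mul_card_dvd_factorial hG hne
    have hm := H.card_mul_index
    obtain ⟨j, hj⟩ := hd
    rw [hN, hj, mul_assoc] at hm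
    have hjd : j ∈ Nat.divisors 42 := Nat.mem_divisors.2 ⟨⟨H.index, by omega⟩, by norm_num⟩
    have hj1 : j ≠ 1 := fun h => h2 (IsPGroup.of_card (n := 5) (by rw [hj, h]; norm_num))
    have hj2 : j ≠ 2 := fun h => h2 (IsPGroup.of_card (n := 6) (by rw [hj, h]; norm_num))
    have hi : 8 ≤ H.index := by
      by_contra hlt
      have h' : 2 * Nat.card G ∣ (7 : ℕ).factorial := hf.trans (Nat.factorial_dvd_factorial (by omega))
      rw [hN] at h'
      norm_num [Nat.factorial] at h'
    have : j * 8 ≤ j * H.index := Nat.mul_le_mul_left _ hi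
    have := (by decide : ∀ j ∈ Nat.divisors 42, j ≠ 1 → j ≠ 2 → j ≤ 5 → j = 3) j hjd hj1 hj2 (by omega)
    rw [hj, this]
  -- an element of order three
  obtain ⟨⟨y, hy⟩, hyo⟩ := exists_prime_orderOf_dvd_card' (G := H) 3 (by rw [h96]; norm_num)
  rw [Subgroup.orderOf_mk] at hyo
  have hC6 := card_centralizer_three_1344 hN hyo
  have hy3 : y ^ 3 = 1 := hyo ▸ pow_orderOf_eq_one y
  let φ : MulAut D :=
    { toFun := fun d => ⟨y * d * y⁻¹, (mem_normalizer_iff.1 hy d).1 d.2⟩
      invFun := fun d => ⟨y⁻¹ * d * y, (mem_normalizer_iff''.1 hy d).1 d.2⟩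
      left_inv := fun d => Subtype.ext (by simp only; group)
      right_inv := fun d => Subtype.ext (by simp only; group)
      map_mul' := fun a b => Subtype.ext (by simp only [coe_mul]; group) }
  have hφ : φ ^ 3 = 1 := by
    refine MulEquiv.ext fun d => Subtype.ext ?_
    calc ((φ ^ 3) d : G) = y * (y * (y * d * y⁻¹) * y⁻¹) * y⁻¹ := by
          simp [pow_succ, MulAut.mul_apply, φ]
      _ = y ^ 3 * d * (y ^ 3)⁻¹ := by simp only [pow_succ, pow_zero, one_mul]; group
      _ = d := by rw [hy3]; group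
  have hfixc : ∀ a : D, φ a = a → Commute y (a : G) := fun a h => by
    have h' : y * a * y⁻¹ = (a : G) := congrArg Subtype.val h
    exact mul_inv_eq_iff_eq_mul.1 h'
  have hfix : ∀ a : D, φ a = a → a = 1 := by
    have hmod := card_modEq_card_fixed hφ
    rw [hD, Nat.ModEq] at hmod
    set F := φ.toMonoidHom.eqLocus (MonoidHom.id D) with hF
    have hFc : Nat.card {a : D | φ a = a} = Nat.card F := rfl
    rw [hFc] at hmod
    have hF16 : Nat.card F ∣ 16 := hD ▸ F.card_subgroup_dvd_card
    have hF6 : Nat.card F ∣ 6 := by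
      rw [← hC6, Nat.card_congr (F.equivMapOfInjective D.subtype D.subtype_injective).toEquiv]
      refine card_dvd_of_le ?_
      rintro _ ⟨a, ha, rfl⟩
      exact mem_centralizer_singleton_iff.2 (hfixc a ha).eq.symm
    have hF1 : Nat.card F = 1 := by
      have h2 : Nat.card F ∣ 2 := Nat.dvd_gcd hF16 hF6
      rcases (Nat.dvd_prime Nat.prime_two).1 h2 with h | h
      · exact h
      · rw [h] at hmod; norm_num at hmod
    intro a ha
    exact (Subgroup.mem_bot).1 (Subgroup.card_eq_one.1 hF1 ▸ (show a ∈ F from ha))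
  have hab : ∀ a ∈ D, ∀ b ∈ D, a * b = b * a := fun a ha b hb =>
    congrArg Subtype.val (commute_of_fixedPointFree hD hφ hfix ⟨a, ha⟩ ⟨b, hb⟩).eq
  -- an element of `S` moving `D`
  obtain ⟨g, hgS, hgK⟩ : ∃ g ∈ (S : Subgroup G), g ∉ K := by
    by_contra hcon
    push Not at hcon
    have := Subgroup.card_le_of_le (hcon : (S : Subgroup G) ≤ K)
    rw [h64, hKc] at this
    omega
  have hgH : g ∉ H := fun h => by
    have hle : K ≤ (S : Subgroup G) ⊓ H := le_inf hKS hKH
    have hd : Nat.card ↥((S : Subgroup G) ⊓ H) ∣ 32 :=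
      (Nat.dvd_gcd (h64 S ▸ card_dvd_of_le inf_le_left) (h96 ▸ card_dvd_of_le inf_le_right) :
        Nat.card ↥((S : Subgroup G) ⊓ H) ∣ Nat.gcd 64 96)
    exact hgK (eq_of_le_of_card_ge hle (by rw [hKc]; exact Nat.le_of_dvd (by norm_num) hd) ▸ ⟨hgS, h⟩)
  have hgN : g ∈ normalizer (K : Set G) := by
    have hi : (K.subgroupOf (S : Subgroup G)).index = 2 := by
      have h := (K.subgroupOf (S : Subgroup G)).card_mul_index
      rw [Nat.card_congr (subgroupOfEquivOfLe hKS).toEquiv, hKc, h64] at h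
      omega
    exact (normal_subgroupOf_iff_le_normalizer hKS).1 (Subgroup.normal_of_index_eq_two hi) hgS
  set D' := D.map (MulAut.conj g).toMonoidHom with hD'def
  have hD'K : D' ≤ K := by
    rintro _ ⟨d, hd, rfl⟩
    exact (mem_normalizer_iff.1 hgN d).1 (hDK hd)
  have hD'c : Nat.card D' = 16 :=
    (Nat.card_congr (D.equivMapOfInjective (MulAut.conj g).toMonoidHom (MulAut.conj g).injective).toEquiv).symm.trans hD
  have hne' : ¬ D' ≤ D := by
    intro h
    have he : D' = D := eq_of_le_of_card_ge h (by rw [hD'c, hD])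
    refine hgH (mem_normalizer_iff.2 fun d => ⟨fun hd => he ▸ ⟨d, hd, rfl⟩, fun hd => ?_⟩)
    obtain ⟨d', hd', hdd'⟩ : g * d * g⁻¹ ∈ D' := he.symm ▸ hd
    rwa [show d = d' from ((MulAut.conj g).injective hdd').symm]
  set E := D ⊓ D' with hE
  have hEc : 8 ≤ Nat.card E := by
    have h := (E.subgroupOf K).card_mul_index
    rw [Nat.card_congr (subgroupOfEquivOfLe (inf_le_left.trans hDK : E ≤ K)).toEquiv, hKc] at h
    have h1 : (E.subgroupOf K).index ≤ D.relIndex K * D'.relIndex K := Subgroup.relIndex_inf_le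
    have h2 : ∀ X : Subgroup G, X ≤ K → Nat.card X = 16 → X.relIndex K = 2 := fun X hX hXc => by
      have h' := (X.subgroupOf K).card_mul_index
      rw [Nat.card_congr (subgroupOfEquivOfLe hX).toEquiv, hKc, hXc] at h'
      change (X.subgroupOf K).index = 2
      omega
    rw [h2 D hDK hD, h2 D' hD'K hD'c] at h1
    nlinarith
  have hKE : K ≤ centralizer (E : Set G) := by
    have hsup : D ⊔ D' = K := by
      refine eq_of_le_of_card_ge (sup_le hDK hD'K) ?_
      have hd : Nat.card ↥(D ⊔ D') ∈ Nat.divisors 32 :=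
        Nat.mem_divisors.2 ⟨hKc ▸ card_dvd_of_le (sup_le hDK hD'K), by norm_num⟩
      have h16 : 16 ≤ Nat.card ↥(D ⊔ D') := hD ▸ Subgroup.card_le_of_le le_sup_left
      have h16' : Nat.card ↥(D ⊔ D') ≠ 16 := fun h' => hne' (by
        rw [eq_of_le_of_card_ge (le_sup_left : D ≤ D ⊔ D') (by rw [h', hD])]; exact le_sup_right)
      rw [hKc]
      exact ((by decide : ∀ n ∈ Nat.divisors 32, 16 ≤ n → n ≠ 16 → n = 32) _ hd h16 h16').ge
    rw [← hsup, sup_le_iff]
    refine ⟨fun x hx => mem_centralizer_iff.2 fun z hz => hab z hz.1 x hx, ?_⟩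
    rintro _ ⟨d, hd, rfl⟩
    refine mem_centralizer_iff.2 fun z hz => ?_
    obtain ⟨z', hz', rfl⟩ := hz.2
    rw [← map_mul, ← map_mul, hab z' hz' d hd]
  -- the conjugate by `y`
  set E' := E.map (MulAut.conj y).toMonoidHom with hE'
  set K' := K.map (MulAut.conj y).toMonoidHom with hK'
  have hE'D : E' ≤ D := by
    rintro _ ⟨d, hd, rfl⟩
    exact (mem_normalizer_iff.1 hy d).1 hd.1
  have hK'H : K' ≤ H := by
    rintro _ ⟨d, hd, rfl⟩
    exact mul_mem (mul_mem hy (hKH hd)) (inv_mem hy)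
  have hK'c : Nat.card K' = 32 :=
    (Nat.card_congr (K.equivMapOfInjective (MulAut.conj y).toMonoidHom (MulAut.conj y).injective).toEquiv).symm.trans hKc
  set F := E ⊓ E' with hF
  have hF4 : 4 ≤ Nat.card F := by
    have hE'c : Nat.card E' = Nat.card E :=
      (Nat.card_congr (E.equivMapOfInjective (MulAut.conj y).toMonoidHom (MulAut.conj y).injective).toEquiv).symm
    have h := (F.subgroupOf D).card_mul_index
    rw [Nat.card_congr (subgroupOfEquivOfLe (inf_le_left.trans inf_le_left : F ≤ D)).toEquiv, hD] at h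
    have h1 : (F.subgroupOf D).index ≤ E.relIndex D * E'.relIndex D := Subgroup.relIndex_inf_le
    have h2 : ∀ X : Subgroup G, X ≤ D → 8 ≤ Nat.card X → X.relIndex D ≤ 2 := fun X hX hXc => by
      have h' := (X.subgroupOf D).card_mul_index
      rw [Nat.card_congr (subgroupOfEquivOfLe hX).toEquiv, hD] at h'
      change (X.subgroupOf D).index ≤ 2
      nlinarith
    have h3 := Nat.mul_le_mul (h2 E inf_le_left hEc) (h2 E' hE'D (hE'c ▸ hEc))
    nlinarith
  have hK'F : K' ≤ centralizer (F : Set G) := by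
    rintro _ ⟨d, hd, rfl⟩
    refine mem_centralizer_iff.2 fun z hz => ?_
    obtain ⟨z', hz', rfl⟩ := hz.2
    rw [← map_mul, ← map_mul, mem_centralizer_iff.1 (hKE hd) z' hz']
  have hKF : K ≤ centralizer (F : Set G) := hKE.trans (centralizer_le fun z hz => hz.1)
  have hK'K : ¬ K' ≤ K := by
    intro h
    have he : K' = K := eq_of_le_of_card_ge h (by rw [hK'c, hKc])
    have hyN : y ∈ normalizer (K : Set G) := mem_normalizer_iff.2 fun d =>
      ⟨fun hd => he ▸ ⟨d, hd, rfl⟩, fun hd => by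
        obtain ⟨d', hd', hdd'⟩ : y * d * y⁻¹ ∈ K' := he.symm ▸ hd
        rwa [show d = d' from ((MulAut.conj y).injective hdd').symm]⟩
    have hKn : K ≤ normalizer (K : Set G) := le_normalizer
    have hHK : H ≤ normalizer (K : Set G) := by
      have hd1 : 32 ∣ Nat.card ↥(H ⊓ normalizer (K : Set G)) := hKc ▸ card_dvd_of_le (le_inf hKH hKn)
      have hd2 : 3 ∣ Nat.card ↥(H ⊓ normalizer (K : Set G)) :=
        hyo ▸ Subgroup.orderOf_dvd_natCard _ ⟨hy, hyN⟩
      have hd3 : 96 ∣ Nat.card ↥(H ⊓ normalizer (K : Set G)) :=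
        Nat.Coprime.mul_dvd_of_dvd_of_dvd (show Nat.Coprime 32 3 by norm_num) hd1 hd2
      exact inf_eq_left.1 (eq_of_le_of_card_ge inf_le_left
        (by rw [h96]; exact Nat.le_of_dvd Nat.card_pos hd3))
    have hnor : (K.subgroupOf H).Normal := (normal_subgroupOf_iff_le_normalizer hKH).2 hHK
    have hi : (K.subgroupOf H).index = 3 := by
      have h' := (K.subgroupOf H).card_mul_index
      rw [Nat.card_congr (subgroupOfEquivOfLe hKH).toEquiv, h96, hKc] at h'
      omega
    refine hKK fun u hu => ?_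
    have h3 := Subgroup.pow_index_mem (K.subgroupOf H) ⟨u, hK₂H hu⟩
    rw [hi, mem_subgroupOf, SubmonoidClass.coe_pow] at h3
    have h32 : u ^ 32 = 1 := orderOf_dvd_iff_pow_eq_one.1 (hK₂c ▸ Subgroup.orderOf_dvd_natCard _ hu)
    have : u = (u ^ 3) ^ 11 := by rw [← pow_mul, show 3 * 11 = 32 + 1 from rfl, pow_succ, h32, one_mul]
    rw [this]
    exact pow_mem h3 _
  have hyF : y ∈ centralizer (F : Set G) := by
    have hd : Nat.card ↥(K ⊔ K') ∈ Nat.divisors 96 :=
      Nat.mem_divisors.2 ⟨h96 ▸ card_dvd_of_le (sup_le hKH hK'H), by norm_num⟩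
    have hd32 : 32 ∣ Nat.card ↥(K ⊔ K') := hKc ▸ card_dvd_of_le le_sup_left
    have hne32 : Nat.card ↥(K ⊔ K') ≠ 32 := fun h' => hK'K (by
      rw [eq_of_le_of_card_ge (le_sup_left : K ≤ K ⊔ K') (by rw [h', hKc])]; exact le_sup_right)
    have hcard := (by decide : ∀ n ∈ Nat.divisors 96, 32 ∣ n → n ≠ 32 → n = 96) _ hd hd32 hne32
    have he : K ⊔ K' = H := eq_of_le_of_card_ge (sup_le hKH hK'H) (by rw [hcard, h96])
    exact sup_le hKF hK'F (he.symm ▸ hy)
  have hFbot : F = ⊥ := by
    rw [eq_bot_iff]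
    intro z hz
    rw [Subgroup.mem_bot]
    have := hfix ⟨z, hz.1.1⟩ (Subtype.ext (mul_inv_eq_iff_eq_mul.2 (mem_centralizer_iff.1 hyF z hz).symm))
    exact congrArg Subtype.val this
  rw [hFbot, card_bot] at hF4
  omega

end CfsgLib.SmallSimple
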