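import Cfsg.Agent.Lib.SmallOrder.Options
import Cfsg.Agent.S1001

/-!
There is no simple group of order `1512 = 7 * 3 ^ 3 * 2 ^ 3`: the only structure of a Sylow `7`-normaliser allowed
by the block criterion has a centraliser of order `21`, but elements of order `7` are self-centralising.
-/

set_option autoImplicit false

namespace CfsgLib.SmallSimple

open Subgroup CfsgLib.SmallOrder

/-- There is no simple group of order `1512`. -/
theorem card_ne_1512 {G : Type*} [Group G] [Finite G] [IsSimpleGroup G] : Nat.card G ≠ 1512 := by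
  intro hN
  have : Fact (Nat.Prime 7) := ⟨by norm_num⟩
  obtain ⟨P⟩ := (inferInstance : Nonempty (Sylow 7 G))
  obtain ⟨n, c, e, hmem, -, hC, -⟩ :=
    exists_option hN 216 40 [(36, 3, 2)] (by norm_num) (by norm_num) (by norm_num)
      (by decide +kernel : _ = true) P
  simp only [List.mem_singleton, Prod.mk.injEq] at hmem
  obtain ⟨-, rfl, -⟩ := hmem
  have hP : Nat.card ↥(P : Subgroup G) = 7 := by
    simpa using card_sylow_eq (e := 1) (m := 216) (by rw [hN]; norm_num) (by norm_num) P
  obtain ⟨⟨x, hx⟩, hxo⟩ := exists_prime_orderOf_dvd_card' (G := ↥(P : Subgroup G)) 7 (by rw [hP])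
  rw [Subgroup.orderOf_mk] at hxo
  have hle : centralizer ((P : Subgroup G) : Set G) ≤ centralizer ({x} : Set G) :=
    centralizer_le (Set.singleton_subset_iff.2 hx)
  rw [Cfsg.Agent.S1001.result 7 3 3 (by norm_num) (by rw [hN]; norm_num) x hxo] at hle
  have h := Subgroup.card_dvd_of_le hle
  rw [hC, Nat.card_zpowers, hxo] at h
  norm_num at h

end CfsgLib.SmallSimple
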