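import Cfsg.Agent.Lib.SmallSimple.Common

/-!
There is no simple group of order `1680 = 2 ^ 4 * 3 * 5 * 7`: the block criterion leaves one structure for
the Sylow `5`- and `7`-normalisers, and then there are too many elements.
-/

set_option autoImplicit false

namespace CfsgLib.SmallSimple

open Subgroup CfsgLib.SmallOrder

/-- There is no simple group of order `1680`. -/
theorem card_ne_1680 {G : Type*} [Group G] [Finite G] [IsSimpleGroup G] : Nat.card G ≠ 1680 := by
  intro hN
  have : Fact (Nat.Prime 7) := ⟨by norm_num⟩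
  have : Fact (Nat.Prime 5) := ⟨by norm_num⟩
  have : Fact (Nat.Prime 3) := ⟨Nat.prime_three⟩
  have hG : ¬ IsMulCommutative G := not_comm_of_not_prime (by rw [hN]; norm_num)
  obtain ⟨P⟩ := (inferInstance : Nonempty (Sylow 7 G))
  obtain ⟨Q⟩ := (inferInstance : Nonempty (Sylow 5 G))
  obtain ⟨_, _, _, hmem, hn7, hC7, -⟩ := exists_option hN 240 40 [(120, 1, 2)] (by norm_num) (by norm_num)
    (by norm_num) (by decide +kernel : _ = true) P
  simp only [List.mem_singleton, Prod.mk.injEq] at hmem
  obtain ⟨rfl, rfl, rfl⟩ := hmem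
  obtain ⟨_, _, _, hmem, hn5, hC5, hN5⟩ := exists_option hN 336 40 [(21, 4, 4)] (by norm_num) (by norm_num)
    (by norm_num) (by decide +kernel : _ = true) Q
  simp only [List.mem_singleton, Prod.mk.injEq] at hmem
  obtain ⟨rfl, rfl, rfl⟩ := hmem
  have hd7 : 7 ∣ Nat.card G := by rw [hN]; norm_num
  have h7 : ¬ 7 ^ 2 ∣ Nat.card G := by rw [hN]; norm_num
  have hd5 : 5 ∣ Nat.card G := by rw [hN]; norm_num
  have h5 : ¬ 5 ^ 2 ∣ Nat.card G := by rw [hN]; norm_num
  have hd3 : 3 ∣ Nat.card G := by rw [hN]; norm_num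
  have h3 : ¬ 3 ^ 2 ∣ Nat.card G := by rw [hN]; norm_num
  have hc7 := cPart_eq hd7 h7 P hC7
  have hc5 := cPart_eq hd5 h5 Q hC5
  obtain ⟨e, he, he', hm⟩ := sylow_data (p := 3) hG (m := 560) (by rw [hN]) (by norm_num)
  obtain rfl : e = 2 := le_antisymm (Nat.le_of_dvd (by norm_num) he') he
  have hA := card_singular_ge (G := G) (p := 7) hd7 h7
  have hB := card_singular_ge (G := G) (p := 5) hd5 h5
  have hC := card_singular_ge (G := G) (p := 3) hd3 h3
  have hR : ∀ R : Sylow 5 G, Nat.card ↥(R : Subgroup G) = 5 := fun R => (card_centralizer_sylow hd5 h5 R).1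
  have hD := card_moving_ge (p := 5) hR (k := 16) (d := 20)
    (fun R => by have h := card_normalizer_mul R; rw [hn5, hN] at h; omega)
    (fun R => by rw [(card_centralizer_sylow hd5 h5 R).2.1, hc5])
  have hsum := four_ncard_lt (G := G) (one_notMem_singular (p := 7)) (one_notMem_singular (p := 5))
    (one_notMem_singular (p := 3)) (fun h => h.1 rfl : (1 : G) ∉ {g : G | g ≠ 1 ∧ orderOf g ∣ 16})
    (disjoint_singular hd7 h7 (by norm_num) (by norm_num) (by rw [hc7]; norm_num))
    (disjoint_singular hd7 h7 (by norm_num) (by norm_num) (by rw [hc7]; norm_num))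
    (disjoint_singular hd5 h5 (by norm_num) (by norm_num) (by rw [hc5]; norm_num))
    (disjoint_singular_dvd (by norm_num)) (disjoint_singular_dvd (by norm_num))
    (disjoint_singular_dvd (by norm_num))
  rw [hn7, hc7] at hA
  rw [hn5, hc5] at hB
  rw [hn5] at hD
  rw [hN] at hsum
  have : Nat.card (Sylow 3 G) * (3 - 1) * cPart 3 G = 560 := by rw [← hm]; ring
  omega

end CfsgLib.SmallSimple
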