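import Cfsg.Agent.Lib.SmallSimple.SquareFive

/-! There is no simple group of order `1800`. -/

set_option autoImplicit false

namespace CfsgLib.SmallSimple

open CfsgLib.SmallOrder

/-- There is no simple group of order `1800`. -/
theorem card_ne_1800 {G : Type*} [Group G] [Finite G] [IsSimpleGroup G] : Nat.card G ≠ 1800 := by
  intro hN
  have : Fact (Nat.Prime 5) := ⟨by norm_num⟩
  have hn := card_sylow_mem_sylowCands (p := 5) (e := 2) (m := 72) hN (by norm_num) (by norm_num)
    two_pos (by norm_num)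
  rw [show sylowCands 1800 5 72 = [36] by decide +kernel, List.mem_singleton] at hn
  obtain ⟨d, -, hn1, j, hj, hjm, hj10, hnd⟩ :=
    exists_five_centralizer (m := 72) hN (by norm_num) (by norm_num) (by norm_num) (by rw [hn]; decide)
  have h1 := card_sylow_modEq_one 5 ↥(Subgroup.centralizer ({d} : Set G))
  have h6 : j = 6 := (by decide : ∀ j ∈ Nat.divisors 72, j ≤ 7 →
      (∃ n ∈ Nat.divisors j, 1 < n ∧ n % 5 = 1) → j = 6) j (Nat.mem_divisors.2 ⟨hjm, by norm_num⟩) (by omega)
    ⟨_, Nat.mem_divisors.2 ⟨hnd, by rintro rfl; exact Nat.card_pos.ne' (hj.trans (mul_zero _))⟩, hn1, h1⟩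
  have := card_sylow_five_150 (hj.trans (by rw [h6]))
  omega

end CfsgLib.SmallSimple
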