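import Cfsg.Agent.Lib.SmallSimple.Common

/-!
There is no simple group of order `3360 = 2 ^ 5 * 3 * 5 * 7`.
-/

set_option autoImplicit false

namespace CfsgLib.SmallSimple

open Subgroup CfsgLib.SmallOrder

/-- When `56` Sylow `5`-subgroups each commute with a subgroup of order `3`, the pairs cannot be counted. -/
theorem not_56_of_three_dvd_cPart {G : Type*} [Group G] [Finite G] [IsSimpleGroup G] [Fact (Nat.Prime 5)]
    (hN : Nat.card G = 3360) (hn5 : Nat.card (Sylow 5 G) = 56) {c : ℕ} (hc : c = 3 ∨ c = 6)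
    (hC : ∀ R : Sylow 5 G, Nat.card ↥(centralizer ((R : Subgroup G) : Set G)) = 5 * c) : False := by
  classical
  have : Fact (Nat.Prime 3) := ⟨Nat.prime_three⟩
  have h3 : ∀ Q : Sylow 3 G, Nat.card ↥(Q : Subgroup G) = 3 := fun Q => by
    simpa using card_sylow_eq (e := 1) (m := 1120) (by rw [hN]; norm_num) (by norm_num) Q
  have h5 : ∀ R : Sylow 5 G, Nat.card ↥(R : Subgroup G) = 5 := fun R => by
    simpa using card_sylow_eq (e := 1) (m := 672) (by rw [hN]; norm_num) (by norm_num) R
  -- each centraliser of a Sylow `5`-subgroup has exactly one subgroup of order `3`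
  have hone : ∀ R : Sylow 5 G,
      Nat.card {Q : Sylow 3 G // (Q : Subgroup G) ≤ centralizer ((R : Subgroup G) : Set G)} = 1 := by
    intro R
    set C := centralizer ((R : Subgroup G) : Set G) with hCdef
    obtain ⟨⟨v, hv⟩, hvo⟩ := exists_prime_orderOf_dvd_card' (G := C) 3 (by
      rw [hC R]; rcases hc with rfl | rfl <;> norm_num)
    rw [orderOf_mk] at hvo
    obtain ⟨Q₀, hQ₀⟩ := exists_sylow_eq (p := 3) (m := 1120) (by rw [hN]) (by norm_num)
      (S := zpowers v) (by rw [Nat.card_zpowers, hvo])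
    have hle : (Q₀ : Subgroup G) ≤ C := by rw [hQ₀]; exact zpowers_le.2 hv
    rw [card_sylow_le Q₀ hle]
    set Q' : Sylow 3 C := Q₀.subtype hle with hQ'
    have hRC : (R : Subgroup G) ≤ C := fun x hx => mem_centralizer_iff.2 fun y hy =>
      congrArg Subtype.val ((isMulCommutative_of_card_eq_prime_or_sq R (Or.inl (h5 R))).is_comm.comm
        ⟨y, hy⟩ ⟨x, hx⟩)
    have h15 : 15 ∣ Nat.card ↥(normalizer ((Q' : Subgroup C) : Set C)) := by
      refine Nat.Coprime.mul_dvd_of_dvd_of_dvd (show Nat.Coprime 5 3 by norm_num) ?_ ?_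
      · have hle' : (R : Subgroup G).subgroupOf C ≤ normalizer ((Q' : Subgroup C) : Set C) :=
          fun x hx => centralizer_le_normalizer _ (mem_centralizer_iff.2 fun y _ =>
            Subtype.ext (mem_centralizer_iff.1 y.2 x.1 (mem_subgroupOf.1 hx)).symm)
        have h := card_dvd_of_le hle'
        rwa [Nat.card_congr (subgroupOfEquivOfLe hRC).toEquiv, h5 R] at h
      · have h := card_dvd_of_le (le_normalizer (H := (Q' : Subgroup C)))
        rwa [show Nat.card ↥(Q' : Subgroup C) = 3 from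
          (Nat.card_congr (subgroupOfEquivOfLe hle).toEquiv).trans (h3 Q₀)] at h
    obtain ⟨j, hj⟩ := h15
    have hmul := card_normalizer_mul Q'
    rw [hj, hC R] at hmul
    have h1 := card_sylow_modEq_one 3 C
    rw [Nat.ModEq] at h1
    have hd : Nat.card (Sylow 3 C) ∣ 2 := ⟨if c = 3 then 2 * j else j, by
      rcases hc with rfl | rfl
      · simp only [if_true]; linarith
      · simp only [show (6 : ℕ) ≠ 3 by norm_num, if_false]; linarith⟩
    rcases (Nat.dvd_prime Nat.prime_two).1 hd with h | h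
    · exact h
    · rw [h] at h1; norm_num at h1
  -- double counting
  have hsymm : ∀ (R : Sylow 5 G) (Q : Sylow 3 G),
      (Q : Subgroup G) ≤ centralizer ((R : Subgroup G) : Set G) ↔
        (R : Subgroup G) ≤ centralizer ((Q : Subgroup G) : Set G) := fun R Q => by
    simp only [SetLike.le_def, mem_centralizer_iff]
    exact ⟨fun h x hx y hy => (h hy x hx).symm, fun h x hx y hy => (h hy x hx).symm⟩
  obtain ⟨R₀⟩ := (inferInstance : Nonempty (Sylow 5 G))
  obtain ⟨Q₀, hQ₀⟩ : ∃ Q : Sylow 3 G, (Q : Subgroup G) ≤ centralizer ((R₀ : Subgroup G) : Set G) := by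
    have : Nonempty {Q : Sylow 3 G // (Q : Subgroup G) ≤ centralizer ((R₀ : Subgroup G) : Set G)} :=
      (Nat.card_pos_iff.1 (by rw [hone R₀]; norm_num)).1
    obtain ⟨Q, hQ⟩ := this
    exact ⟨Q, hQ⟩
  set m := Nat.card (Sylow 5 ↥(centralizer ((Q₀ : Subgroup G) : Set G))) with hm
  have hconst : ∀ Q : Sylow 3 G,
      Nat.card {R : Sylow 5 G // (R : Subgroup G) ≤ centralizer ((Q : Subgroup G) : Set G)} = m := by
    intro Q
    obtain ⟨a, ha⟩ := MulAction.exists_smul_eq G Q₀ Q
    rw [hm, ← card_sylow_le R₀ ((hsymm R₀ Q₀).1 hQ₀)]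
    refine (Nat.card_congr ((MulAction.toPerm a).subtypeEquiv fun R => ?_)).symm
    subst ha
    rw [MulAction.toPerm_apply]
    simp only [SetLike.le_def, Sylow.coe_subgroup_smul, mem_centralizer_iff, SetLike.mem_coe,
      mem_pointwise_smul_iff_inv_smul_mem, MulAut.smul_def, MulAut.conj_inv_apply]
    constructor
    · intro h x hx y hy
      have h1 := h hx _ hy
      calc y * x = a * ((a⁻¹ * y * a) * (a⁻¹ * x * a)) * a⁻¹ := by group
        _ = a * ((a⁻¹ * x * a) * (a⁻¹ * y * a)) * a⁻¹ := by rw [h1]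
        _ = x * y := by group
    · intro h x hx y hy
      have h1 := h (x := a * x * a⁻¹) (by rwa [show a⁻¹ * (a * x * a⁻¹) * a = x by group])
        (a * y * a⁻¹) (by rwa [show a⁻¹ * (a * y * a⁻¹) * a = y by group])
      calc y * x = a⁻¹ * ((a * y * a⁻¹) * (a * x * a⁻¹)) * a := by group
        _ = a⁻¹ * ((a * x * a⁻¹) * (a * y * a⁻¹)) * a := by rw [h1]
        _ = x * y := by group
  have hcount : Nat.card (Sylow 3 G) * m = 56 := by
    have := Fintype.ofFinite (Sylow 3 G)
    have := Fintype.ofFinite (Sylow 5 G)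
    have e : (Σ Q : Sylow 3 G, {R : Sylow 5 G // (R : Subgroup G) ≤ centralizer ((Q : Subgroup G) : Set G)}) ≃
        Σ R : Sylow 5 G, {Q : Sylow 3 G // (Q : Subgroup G) ≤ centralizer ((R : Subgroup G) : Set G)} :=
      ⟨fun x => ⟨x.2.1, x.1, (hsymm x.2.1 x.1).2 x.2.2⟩, fun y => ⟨y.2.1, y.1, (hsymm y.1 y.2.1).1 y.2.2⟩,
        fun _ => rfl, fun _ => rfl⟩
    have h := Nat.card_congr e
    rw [Nat.card_sigma, Nat.card_sigma, Finset.sum_congr rfl fun Q _ => hconst Q,
      Finset.sum_congr rfl fun R _ => hone R, Finset.sum_const, Finset.sum_const, smul_eq_mul, smul_eq_mul,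
      Finset.card_univ, Finset.card_univ, ← Nat.card_eq_fintype_card, ← Nat.card_eq_fintype_card, hn5,
      mul_one] at h
    exact h
  obtain ⟨-, hn3, hn1, -⟩ := card_sylow_facts (p := 3) (e := 1) (m := 1120) (G := G)
    (by rw [hN]; norm_num) (by norm_num) (by norm_num) (by norm_num)
  have hm5 := card_sylow_modEq_one 5 ↥(centralizer ((Q₀ : Subgroup G) : Set G))
  rw [← hm, Nat.ModEq] at hm5
  have hdvd : Nat.card (Sylow 3 G) ∈ Nat.divisors 56 :=
    Nat.mem_divisors.2 ⟨⟨m, hcount.symm⟩, by norm_num⟩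
  rw [show Nat.divisors 56 = {1, 2, 4, 7, 8, 14, 28, 56} by decide] at hdvd
  simp only [Finset.mem_insert, Finset.mem_singleton] at hdvd
  rcases hdvd with h | h | h | h | h | h | h | h <;> rw [h] at hn3 hn1 hcount <;> omega

/-- There is no simple group of order `3360`. -/
theorem card_ne_3360 {G : Type*} [Group G] [Finite G] [IsSimpleGroup G] : Nat.card G ≠ 3360 := by
  intro hN
  have : Fact (Nat.Prime 7) := ⟨by norm_num⟩
  have : Fact (Nat.Prime 5) := ⟨by norm_num⟩
  have : Fact (Nat.Prime 3) := ⟨Nat.prime_three⟩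
  have hG : ¬ IsMulCommutative G := not_comm_of_not_prime (by rw [hN]; norm_num)
  obtain ⟨P⟩ := (inferInstance : Nonempty (Sylow 7 G))
  obtain ⟨Q⟩ := (inferInstance : Nonempty (Sylow 5 G))
  obtain ⟨_, _, _, hmem, hn7, hC7, -⟩ := exists_option hN 480 40 [(120, 2, 2)] (by norm_num) (by norm_num)
    (by norm_num) (by decide +kernel : _ = true) P
  simp only [List.mem_singleton, Prod.mk.injEq] at hmem
  obtain ⟨rfl, rfl, rfl⟩ := hmem
  obtain ⟨n, c, f, hmem, hn5, hC5, -⟩ := exists_option hN 672 40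
    [(21, 8, 4), (56, 3, 4), (56, 6, 2), (336, 1, 2)] (by norm_num) (by norm_num) (by norm_num)
    (by decide +kernel : _ = true) Q
  have hd7 : 7 ∣ Nat.card G := by rw [hN]; norm_num
  have h7 : ¬ 7 ^ 2 ∣ Nat.card G := by rw [hN]; norm_num
  have hd5 : 5 ∣ Nat.card G := by rw [hN]; norm_num
  have h5 : ¬ 5 ^ 2 ∣ Nat.card G := by rw [hN]; norm_num
  have hd3 : 3 ∣ Nat.card G := by rw [hN]; norm_num
  have h3 : ¬ 3 ^ 2 ∣ Nat.card G := by rw [hN]; norm_num
  have hc7 := cPart_eq hd7 h7 P hC7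
  have hc5 := cPart_eq hd5 h5 Q hC5
  have hC5' : ∀ R : Sylow 5 G, Nat.card ↥(centralizer ((R : Subgroup G) : Set G)) = 5 * c :=
    fun R => by rw [(card_centralizer_sylow hd5 h5 R).2.1, hc5]
  obtain ⟨e, he, he', hm⟩ := sylow_data (p := 3) hG (m := 1120) (by rw [hN]) (by norm_num)
  obtain rfl : e = 2 := le_antisymm (Nat.le_of_dvd (by norm_num) he') he
  have hA := card_singular_ge (G := G) (p := 7) hd7 h7
  have hB := card_singular_ge (G := G) (p := 5) hd5 h5
  have hC := card_singular_ge (G := G) (p := 3) hd3 h3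
  rw [hn7, hc7] at hA
  rw [hn5, hc5] at hB
  have h1120 : Nat.card (Sylow 3 G) * (3 - 1) * cPart 3 G = 1120 := by rw [← hm]; ring
  simp only [List.mem_cons, List.not_mem_nil, or_false, Prod.mk.injEq] at hmem
  rcases hmem with ⟨rfl, rfl, rfl⟩ | ⟨rfl, rfl, rfl⟩ | ⟨rfl, rfl, rfl⟩ | ⟨rfl, rfl, rfl⟩
  · have hR : ∀ R : Sylow 5 G, Nat.card ↥(R : Subgroup G) = 5 := fun R => (card_centralizer_sylow hd5 h5 R).1
    have hD := card_moving_ge (p := 5) hR (k := 32) (d := 40)
      (fun R => by have h := card_normalizer_mul R; rw [hn5, hN] at h; omega) hC5'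
    have hsum := four_ncard_lt (G := G) (one_notMem_singular (p := 7)) (one_notMem_singular (p := 5))
      (one_notMem_singular (p := 3)) (fun h => h.1 rfl : (1 : G) ∉ {g : G | g ≠ 1 ∧ orderOf g ∣ 32})
      (disjoint_singular hd7 h7 (by norm_num) (by norm_num) (by rw [hc7]; norm_num))
      (disjoint_singular hd7 h7 (by norm_num) (by norm_num) (by rw [hc7]; norm_num))
      (disjoint_singular hd5 h5 (by norm_num) (by norm_num) (by rw [hc5]; norm_num))
      (disjoint_singular_dvd (by norm_num)) (disjoint_singular_dvd (by norm_num))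
      (disjoint_singular_dvd (by norm_num))
    rw [hn5] at hD
    rw [hN] at hsum
    omega
  · exact not_56_of_three_dvd_cPart hN hn5 (Or.inl rfl) hC5'
  · exact not_56_of_three_dvd_cPart hN hn5 (Or.inr rfl) hC5'
  · have hsum := three_ncard_lt (G := G) (one_notMem_singular (p := 7)) (one_notMem_singular (p := 5))
      (one_notMem_singular (p := 3))
      (disjoint_singular hd7 h7 (by norm_num) (by norm_num) (by rw [hc7]; norm_num))
      (disjoint_singular hd7 h7 (by norm_num) (by norm_num) (by rw [hc7]; norm_num))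
      (disjoint_singular hd5 h5 (by norm_num) (by norm_num) (by rw [hc5]; norm_num))
    rw [hN] at hsum
    omega

end CfsgLib.SmallSimple
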