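import Cfsg.Agent.Lib.SmallSimple.SquareFive

/-!
There is no simple group of order `3600`: an element of order `5` with a centraliser of index `12` would have
twelve conjugates forming a complete bipartite commuting graph, whence a subgroup of index `2`.
-/

set_option autoImplicit false

namespace CfsgLib.SmallSimple

open Subgroup CfsgLib.SmallOrder Pointwise

variable {G : Type*} [Group G] [Finite G] [IsSimpleGroup G] [Fact (Nat.Prime 5)]

/-- An element of order `5` with centraliser of order `300` in a simple group of order `3600`. -/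
theorem not_centralizer_300 (hN : Nat.card G = 3600) {d : G} (hdo : orderOf d = 5)
    (hC : Nat.card ↥(centralizer ({d} : Set G)) = 300)
    (hn6 : Nat.card (Sylow 5 ↥(centralizer ({d} : Set G))) = 6) : False := by
  classical
  have := Fintype.ofFinite G
  have hG : ¬ IsMulCommutative G := not_comm_of_not_prime (by rw [hN]; norm_num)
  have hS : ∀ R : Sylow 5 G, Nat.card ↥(R : Subgroup G) = 25 := fun R => by
    simpa using card_sylow_eq (e := 2) (m := 144) (by rw [hN]; norm_num) (by norm_num) R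
  have hcomm : ∀ (R : Sylow 5 G) (u v : G), u ∈ (R : Subgroup G) → v ∈ (R : Subgroup G) → Commute u v :=
    fun R u v hu hv => congrArg Subtype.val
      ((isMulCommutative_of_card_eq_prime_or_sq R (Or.inr (hS R))).is_comm.comm ⟨u, hu⟩ ⟨v, hv⟩)
  have habs : ∀ (R : Sylow 5 G) (x : G), orderOf x = 5 →
      (R : Subgroup G) ≤ centralizer ({x} : Set G) → x ∈ (R : Subgroup G) := by
    intro R x hx hR
    have hxN : x ∈ normalizer ((R : Subgroup G) : Set G) := centralizer_le_normalizer _
      (mem_centralizer_iff.2 fun u hu => mem_centralizer_singleton_iff.1 (hR hu))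
    have h1 := IsPGroup.inf_normalizer_sylow (IsPGroup.of_card (p := 5) (n := 1) (G := ↥(zpowers x))
      (by rw [Nat.card_zpowers, hx, pow_one])) R
    exact (h1 ▸ ⟨mem_zpowers x, hxN⟩ : x ∈ zpowers x ⊓ (R : Subgroup G)).2
  have hleC : ∀ (R : Sylow 5 G) (x : G), x ∈ (R : Subgroup G) →
      (R : Subgroup G) ≤ centralizer ({x} : Set G) := fun R x hx u hu =>
    mem_centralizer_singleton_iff.2 (hcomm R u x hu hx).eq
  let X := {x : G // IsConj d x}
  have hXo : ∀ x : X, orderOf (x.1 : G) = 5 := fun x => by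
    obtain ⟨c, hc⟩ := isConj_iff.1 x.2
    rw [← hc, ← hdo]
    exact orderOf_injective (MulAut.conj c).toMonoidHom (MulAut.conj c).injective d
  have hX : Nat.card X = 12 := by
    have h := ConjClasses.card_carrier (G := G) d
    rw [← Nat.card_eq_fintype_card, ← Nat.card_eq_fintype_card, ← Nat.card_eq_fintype_card] at h
    have e1 : Nat.card ↥(MulAction.stabilizer (ConjAct G) d) = 300 := by
      rw [← hC, ConjAct.stabilizer_eq_centralizer]
      rfl
    have e2 : Nat.card X = Nat.card (ConjClasses.mk d).carrier :=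
      Nat.card_congr (Equiv.subtypeEquivRight fun x => ((isConj_comm).trans
        ((ConjClasses.mk_eq_mk_iff_isConj).symm.trans ConjClasses.mem_carrier_iff_mk_eq.symm)))
    rw [e2, h, e1, hN]
  -- each element lies in six Sylow subgroups
  have hsix : ∀ x : X, Nat.card {R : Sylow 5 G // (x.1 : G) ∈ (R : Subgroup G)} = 6 := by
    intro x
    obtain ⟨c, hc⟩ := isConj_iff.1 x.2
    obtain ⟨R₀, hR₀⟩ := (IsPGroup.of_card (p := 5) (n := 1) (G := ↥(zpowers d))
      (by rw [Nat.card_zpowers, hdo, pow_one])).exists_le_sylow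
    rw [← hn6, ← card_sylow_le R₀ (hleC R₀ d (hR₀ (mem_zpowers d)))]
    refine (Nat.card_congr ((MulAction.toPerm c).subtypeEquiv fun R => ?_)).symm
    rw [MulAction.toPerm_apply]
    constructor
    · intro h
      rw [← hc, Sylow.coe_subgroup_smul]
      exact smul_mem_pointwise_smul d (MulAut.conj c) _ (habs R d hdo h)
    · intro h
      rw [← hc, Sylow.coe_subgroup_smul, show c * d * c⁻¹ = MulAut.conj c • d from rfl,
        smul_mem_pointwise_smul_iff] at h
      exact hleC R d h
  obtain ⟨P, hP⟩ : ∃ P : Sylow 5 G, d ∈ (P : Subgroup G) := by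
    obtain ⟨R₀, hR₀⟩ := (IsPGroup.of_card (p := 5) (n := 1) (G := ↥(zpowers d))
      (by rw [Nat.card_zpowers, hdo, pow_one])).exists_le_sylow
    exact ⟨R₀, hR₀ (mem_zpowers d)⟩
  -- each Sylow subgroup contains two of them
  have htwo : ∀ R : Sylow 5 G, Nat.card {x : X // (x.1 : G) ∈ (R : Subgroup G)} = 2 := by
    have hconst : ∀ R : Sylow 5 G, Nat.card {x : X // (x.1 : G) ∈ (R : Subgroup G)} =
        Nat.card {x : X // (x.1 : G) ∈ (P : Subgroup G)} := by
      intro R
      obtain ⟨c, rfl⟩ := MulAction.exists_smul_eq G P R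
      refine (Nat.card_congr (Equiv.subtypeEquiv
        ((MulAut.conj c).toEquiv.subtypeEquiv fun x => ?_) fun x => ?_)).symm
      · exact ⟨fun h => h.trans (isConj_iff.2 ⟨c, rfl⟩), fun h => h.trans (isConj_iff.2 ⟨c, rfl⟩).symm⟩
      · rw [Sylow.coe_subgroup_smul]
        exact (smul_mem_pointwise_smul_iff (a := MulAut.conj c) (S := (P : Subgroup G)) (x := (x.1 : G))).symm
    have e : (Σ R : Sylow 5 G, {x : X // (x.1 : G) ∈ (R : Subgroup G)}) ≃
        Σ x : X, {R : Sylow 5 G // (x.1 : G) ∈ (R : Subgroup G)} :=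
      ⟨fun y => ⟨y.2.1, y.1, y.2.2⟩, fun y => ⟨y.2.1, y.1, y.2.2⟩, fun _ => rfl, fun _ => rfl⟩
    have h := Nat.card_congr e
    have := Fintype.ofFinite (Sylow 5 G)
    have := Fintype.ofFinite X
    rw [Nat.card_sigma, Nat.card_sigma, Finset.sum_congr rfl fun R _ => hconst R,
      Finset.sum_congr rfl fun x _ => hsix x, Finset.sum_const, Finset.sum_const, smul_eq_mul, smul_eq_mul,
      Finset.card_univ, Finset.card_univ, ← Nat.card_eq_fintype_card, ← Nat.card_eq_fintype_card, hX] at h
    have hn := card_sylow_mem_sylowCands (p := 5) (e := 2) (m := 144) hN (by norm_num) (by norm_num)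
      two_pos (by norm_num)
    rw [show sylowCands 3600 5 144 = [16, 36] by decide +kernel] at hn
    simp only [List.mem_cons, List.not_mem_nil, or_false] at hn
    intro R
    rw [hconst R]
    rcases hn with hn | hn <;> rw [hn] at h <;> omega
  -- the normaliser of `zpowers d` is its centraliser
  have hpow : ∀ x : X, (x.1 : G) ∈ zpowers d → x.1 = d := by
    intro x hx
    by_contra hne
    obtain ⟨c, hc⟩ := isConj_iff.1 x.2
    set N := normalizer (zpowers d : Set G) with hNdef
    have hcN : c ∈ N := by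
      have hle : (zpowers d).map (MulAut.conj c).toMonoidHom ≤ zpowers d := by
        rintro _ ⟨u, hu, rfl⟩
        obtain ⟨i, rfl⟩ := mem_zpowers_iff.1 hu
        change c * d ^ i * c⁻¹ ∈ zpowers d
        rw [← conj_zpow, hc]
        exact zpow_mem hx i
      have he := eq_of_le_of_card_ge hle (le_of_eq
        (Nat.card_congr ((zpowers d).equivMapOfInjective _ (MulAut.conj c).injective).toEquiv))
      refine mem_normalizer_iff.2 fun u => ⟨fun hu => hle ⟨u, hu, rfl⟩, fun hu => ?_⟩
      rw [← he] at hu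
      obtain ⟨v, hv, hvu⟩ := hu
      rwa [show u = v from ((MulAut.conj c).injective hvu).symm]
    have hCN : centralizer ({d} : Set G) ≤ N := by
      rw [← centralizer_closure, ← zpowers_eq_closure]
      exact centralizer_le_normalizer _
    have hlt : 300 < Nat.card N := by
      rcases (Subgroup.card_le_of_le hCN).lt_or_eq with h | h
      · omega
      · exfalso
        have := eq_of_le_of_card_ge hCN h.ge
        apply hne
        rw [← this] at hcN
        rw [← hc, mem_centralizer_singleton_iff.1 hcN, mul_inv_cancel_right]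
    have hNtop : N ≠ ⊤ := fun h => by
      have h' := normal_eq_top (Subgroup.normalizer_eq_top_iff.1 h) (zpowers_ne_bot.2 fun h1 => by
        rw [h1, orderOf_one] at hdo; omega)
      have : Nat.card (zpowers d) = 3600 := by rw [h', card_top, hN]
      rw [Nat.card_zpowers, hdo] at this
      omega
    have hf := two_mul_card_dvd_factorial hG hNtop
    have hm := N.card_mul_index
    have hdvd : 300 ∣ Nat.card N := hC ▸ card_dvd_of_le hCN
    rw [hN] at hm hf
    obtain ⟨j, hj⟩ := hdvd
    rw [hj] at hm hlt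
    have hle : N.index ≤ 6 := by nlinarith [show 2 ≤ j by omega]
    have h' := hf.trans (Nat.factorial_dvd_factorial hle)
    norm_num [Nat.factorial] at h'
  have hpow' : ∀ x y : X, (x.1 : G) ∈ zpowers (y.1 : G) → x = y := by
    intro x y hx
    obtain ⟨c, hc⟩ := isConj_iff.1 y.2
    have hx' : IsConj d (c⁻¹ * x.1 * c) := x.2.trans (isConj_iff.2 ⟨c⁻¹, by rw [inv_inv]⟩)
    have h := hpow ⟨_, hx'⟩ (by
      obtain ⟨i, hi⟩ := mem_zpowers_iff.1 hx
      refine mem_zpowers_iff.2 ⟨i, ?_⟩
      change d ^ i = c⁻¹ * x.1 * c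
      rw [← hi, ← hc, conj_zpow]
      group)
    apply Subtype.ext
    change c⁻¹ * x.1 * c = d at h
    calc (x.1 : G) = c * (c⁻¹ * x.1 * c) * c⁻¹ := by group
      _ = c * d * c⁻¹ := by rw [h]
      _ = y.1 := hc
  -- two commuting conjugates generate their common Sylow subgroup
  have hgen : ∀ (R : Sylow 5 G) (x y : X), x ≠ y → (x.1 : G) ∈ (R : Subgroup G) →
      (y.1 : G) ∈ (R : Subgroup G) → ∀ K : Subgroup G, (x.1 : G) ∈ K → (y.1 : G) ∈ K → (R : Subgroup G) ≤ K := by
    intro R x y hxy hx hy K hxK hyK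
    have hd : Nat.card ↥((R : Subgroup G) ⊓ K) ∈ Nat.divisors (5 ^ 2) :=
      Nat.mem_divisors.2 ⟨(card_dvd_of_le inf_le_left).trans (dvd_of_eq (by rw [hS R]; norm_num)), by norm_num⟩
    rw [Nat.mem_divisors_prime_pow (by norm_num)] at hd
    obtain ⟨i, hi, hi'⟩ := hd
    have hz : zpowers (x.1 : G) ≤ (R : Subgroup G) ⊓ K := zpowers_le.2 ⟨hx, hxK⟩
    interval_cases i
    · have := Subgroup.card_le_of_le hz
      rw [Nat.card_zpowers, hXo x, hi'] at this
      omega
    · exfalso
      have he := eq_of_le_of_card_ge hz (by rw [Nat.card_zpowers, hXo x, hi']; norm_num)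
      exact hxy (hpow' y x (he ▸ ⟨hy, hyK⟩)).symm
    · exact inf_eq_left.1 (eq_of_le_of_card_ge inf_le_left (by rw [hS R, hi']; norm_num))
  let nb : X → Finset X := fun x => Finset.univ.filter fun y => y ≠ x ∧ Commute (x.1 : G) y.1
  -- any two commuting conjugates lie in a common Sylow subgroup
  have hpair : ∀ x y : X, Commute (x.1 : G) y.1 →
      ∃ R : Sylow 5 G, (x.1 : G) ∈ (R : Subgroup G) ∧ (y.1 : G) ∈ (R : Subgroup G) := by
    intro x y hc
    have h5 : IsPGroup 5 (zpowers (x.1 : G)) :=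
      IsPGroup.of_card (n := 1) (by rw [Nat.card_zpowers, hXo x, pow_one])
    have h5' : IsPGroup 5 (zpowers (y.1 : G)) :=
      IsPGroup.of_card (n := 1) (by rw [Nat.card_zpowers, hXo y, pow_one])
    have hle : zpowers (y.1 : G) ≤ normalizer (zpowers (x.1 : G) : Set G) := by
      rw [zpowers_le]
      refine centralizer_le_normalizer _ (mem_centralizer_iff.2 fun u hu => ?_)
      obtain ⟨i, rfl⟩ := mem_zpowers_iff.1 hu
      exact (hc.zpow_left i).eq
    obtain ⟨R, hR⟩ := (IsPGroup.to_sup_of_normal_left' h5 h5' hle).exists_le_sylow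
    exact ⟨R, hR (le_sup_left (a := zpowers (x.1 : G)) (mem_zpowers _)),
      hR (le_sup_right (a := zpowers (x.1 : G)) (mem_zpowers _))⟩
  -- each vertex has six neighbours
  have hdeg : ∀ x : X, (nb x).card = 6 := by
    intro x
    have hother : ∀ R : {R : Sylow 5 G // (x.1 : G) ∈ (R : Subgroup G)},
        ∃ y : X, y ≠ x ∧ (y.1 : G) ∈ (R.1 : Subgroup G) := by
      intro R
      have : Nontrivial {y : X // (y.1 : G) ∈ (R.1 : Subgroup G)} :=
        Finite.one_lt_card_iff_nontrivial.1 (by rw [htwo R.1]; norm_num)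
      obtain ⟨⟨y, hy⟩, hne⟩ := exists_ne (⟨x, R.2⟩ : {y : X // (y.1 : G) ∈ (R.1 : Subgroup G)})
      exact ⟨y, fun h => hne (Subtype.ext h), hy⟩
    choose f hf1 hf2 using hother
    rw [← hsix x, ← Fintype.card_coe, ← Nat.card_eq_fintype_card]
    refine (Nat.card_eq_of_bijective (fun R => (⟨f R, Finset.mem_filter.2 ⟨Finset.mem_univ _, hf1 R,
      hcomm R.1 _ _ R.2 (hf2 R)⟩⟩ : {y // y ∈ nb x})) ⟨?_, ?_⟩).symm
    · intro R R' h
      have h' : f R = f R' := congrArg Subtype.val h
      exact Subtype.ext (Sylow.ext (eq_of_le_of_card_ge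
        (hgen R.1 x (f R) (hf1 R).symm R.2 (hf2 R) _ R'.2 (h' ▸ hf2 R')) (by rw [hS, hS])))
    · rintro ⟨y, hy⟩
      obtain ⟨-, hyx, hc⟩ := Finset.mem_filter.1 hy
      obtain ⟨R, hxR, hyR⟩ := hpair x y hc
      refine ⟨⟨R, hxR⟩, Subtype.ext ?_⟩
      by_contra hne
      have h3 : 3 ≤ Nat.card {z : X // (z.1 : G) ∈ (R : Subgroup G)} := by
        rw [Nat.card_eq_fintype_card, Fintype.card_subtype]
        refine le_trans (le_of_eq (Finset.card_eq_three.2 ⟨x, y, f ⟨R, hxR⟩, hyx.symm,
          (hf1 ⟨R, hxR⟩).symm, fun h => hne h.symm, rfl⟩).symm) (Finset.card_le_card ?_)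
        intro z hz
        simp only [Finset.mem_insert, Finset.mem_singleton] at hz
        rw [Finset.mem_filter]
        refine ⟨Finset.mem_univ _, ?_⟩
        rcases hz with rfl | rfl | rfl
        exacts [hxR, hyR, hf2 ⟨R, hxR⟩]
      rw [htwo R] at h3
      omega
  -- there are no triangles
  have htri : ∀ x y z : X, y ∈ nb x → z ∈ nb x → z ∈ nb y → False := by
    intro x y z hy hz hzy
    simp only [nb, Finset.mem_filter] at hy hz hzy
    obtain ⟨R, hxR, hyR⟩ := hpair x y hy.2.2
    have hzR : (z.1 : G) ∈ (R : Subgroup G) := habs R z.1 (hXo z)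
      (hgen R x y hy.2.1.symm hxR hyR _ (mem_centralizer_singleton_iff.2 hz.2.2.eq)
        (mem_centralizer_singleton_iff.2 hzy.2.2.eq))
    have h3 : 3 ≤ Nat.card {w : X // (w.1 : G) ∈ (R : Subgroup G)} := by
      rw [Nat.card_eq_fintype_card, Fintype.card_subtype]
      refine le_trans (le_of_eq (Finset.card_eq_three.2 ⟨x, y, z, hy.2.1.symm, hz.2.1.symm,
        hzy.2.1.symm, rfl⟩).symm) (Finset.card_le_card ?_)
      intro w hw
      simp only [Finset.mem_insert, Finset.mem_singleton] at hw
      rw [Finset.mem_filter]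
      refine ⟨Finset.mem_univ _, ?_⟩
      rcases hw with rfl | rfl | rfl
      exacts [hxR, hyR, hzR]
    rw [htwo R] at h3
    omega
  let d₀ : X := ⟨d, IsConj.refl d⟩
  set B := nb d₀ with hB
  have hUniv : (Finset.univ : Finset X).card = 12 := by
    rw [Finset.card_univ, ← Nat.card_eq_fintype_card, hX]
  have hsymm : ∀ x y : X, y ∈ nb x → x ∈ nb y := fun x y h => by
    simp only [nb, Finset.mem_filter] at h ⊢
    exact ⟨Finset.mem_univ _, h.2.1.symm, h.2.2.symm⟩
  have hBnb : ∀ e ∈ B, nb e = Bᶜ := fun e he => by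
    refine Finset.eq_of_subset_of_card_le (fun z hz => Finset.mem_compl.2 fun hzB => htri d₀ e z he hzB hz) ?_
    rw [Finset.card_compl, ← Finset.card_univ, hUniv, hB, hdeg d₀, hdeg e]
  have hAnb : ∀ a, a ∉ B → nb a = B := fun a ha => by
    refine (Finset.eq_of_subset_of_card_le (fun e he => hsymm e a (by
      rw [hBnb e he]; exact Finset.mem_compl.2 ha)) ?_).symm
    rw [hdeg a, hB, hdeg d₀]
  -- the stabiliser of the partition
  let act : G → X → X := fun g x => ⟨g * x.1 * g⁻¹, x.2.trans (isConj_iff.2 ⟨g, rfl⟩)⟩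
  have hactnb : ∀ g x y, act g y ∈ nb (act g x) ↔ y ∈ nb x := by
    intro g x y
    have hinj : ∀ {u v : X}, act g u = act g v → u = v := fun {u v} h =>
      Subtype.ext ((MulAut.conj g).injective (congrArg Subtype.val h))
    simp only [nb, Finset.mem_filter, Finset.mem_univ, true_and]
    refine and_congr (not_congr ⟨hinj, fun h => by rw [h]⟩) ?_
    exact ⟨fun h => (MulAut.conj g).injective (by rw [map_mul, map_mul]; exact h),
      fun h => h.map (MulAut.conj g).toMonoidHom⟩
  have hinvB : ∀ g, (act g d₀ ∉ B) → ∀ x, act g x ∈ B ↔ x ∈ B := by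
    intro g hg x
    have h := hactnb g d₀ x
    rwa [hAnb _ hg] at h
  have hact_mul : ∀ g h x, act (g * h) x = act g (act h x) := fun g h x =>
    Subtype.ext (by simp only [act]; group)
  have hact_one : ∀ x, act 1 x = x := fun x => Subtype.ext (by simp only [act]; group)
  have hd₀ : d₀ ∉ B := fun h => (Finset.mem_filter.1 h).2.1 rfl
  let H : Subgroup G :=
    { carrier := {g | act g d₀ ∉ B}
      one_mem' := by change act 1 d₀ ∉ B; rw [hact_one]; exact hd₀
      mul_mem' := fun {g h} hg hh => by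
        change act (g * h) d₀ ∉ B
        rw [hact_mul, hinvB g hg]
        exact hh
      inv_mem' := fun {g} hg h => hd₀ (by
        have h' := (hinvB g hg _).2 h
        rwa [← hact_mul, mul_inv_cancel, hact_one] at h') }
  obtain ⟨e, he⟩ : B.Nonempty := Finset.card_pos.1 (by rw [hB, hdeg d₀]; norm_num)
  obtain ⟨g₀, hg₀⟩ := isConj_iff.1 e.2
  have hg₀' : act g₀ d₀ = e := Subtype.ext hg₀
  have hmove : ∀ g, act g d₀ ∈ B → ∀ x, act g x ∈ B ↔ x ∉ B := by
    intro g hg x
    have h := hactnb g d₀ x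
    rw [hBnb _ hg, Finset.mem_compl, ← hB] at h
    exact not_iff_not.1 (by rw [not_not]; exact h)
  have hidx : H.index = 2 := by
    rw [Subgroup.index_eq_two_iff']
    refine ⟨g₀, fun g => ?_⟩
    change Xor (act (g₀ * g) d₀ ∉ B) (act g d₀ ∉ B)
    rw [hact_mul, hmove g₀ (hg₀'.symm ▸ he), not_not]
    by_cases h : act g d₀ ∈ B
    · exact Or.inl ⟨h, fun h' => h' h⟩
    · exact Or.inr ⟨h, h⟩
  have hbot : H = ⊥ ∨ H = ⊤ := (Subgroup.normal_of_index_eq_two hidx).eq_bot_or_eq_top
  rcases hbot with h | h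
  · rw [h, index_bot, hN] at hidx
    omega
  · rw [h, index_top] at hidx
    omega

omit [Fact (Nat.Prime 5)] in
/-- There is no simple group of order `3600`. -/
theorem card_ne_3600 {G : Type*} [Group G] [Finite G] [IsSimpleGroup G] : Nat.card G ≠ 3600 := by
  intro hN
  have : Fact (Nat.Prime 5) := ⟨by norm_num⟩
  have hn := card_sylow_mem_sylowCands (p := 5) (e := 2) (m := 144) hN (by norm_num) (by norm_num)
    two_pos (by norm_num)
  rw [show sylowCands 3600 5 144 = [16, 36] by decide +kernel] at hn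
  simp only [List.mem_cons, List.not_mem_nil, or_false] at hn
  obtain ⟨d, hdo, hn1, j, hj, hjm, hj10, hnd⟩ :=
    exists_five_centralizer (m := 144) hN (by norm_num) (by norm_num) (by norm_num)
      (by rcases hn with h | h <;> rw [h] <;> decide)
  have h1 := card_sylow_modEq_one 5 ↥(Subgroup.centralizer ({d} : Set G))
  have hj0 : j ≠ 0 := by rintro rfl; exact Nat.card_pos.ne' (hj.trans (mul_zero _))
  have h6 : Nat.card (Sylow 5 ↥(Subgroup.centralizer ({d} : Set G))) = 6 ∧ (j = 6 ∨ j = 12) :=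
    (by decide : ∀ j ∈ Nat.divisors 144, j ≤ 14 → ∀ n ∈ Nat.divisors j, 1 < n → n % 5 = 1 →
      n = 6 ∧ (j = 6 ∨ j = 12)) j (Nat.mem_divisors.2 ⟨hjm, by norm_num⟩) (by omega) _
      (Nat.mem_divisors.2 ⟨hnd, hj0⟩) hn1 h1
  rcases h6.2 with rfl | rfl
  · have := card_sylow_five_150 hj
    omega
  · exact not_centralizer_300 hN hdo hj h6.1

end CfsgLib.SmallSimple
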