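import Cfsg.Agent.Lib.SmallOrder.AutoFast

/-!
Kernel checks of the automatic criterion between 1957 and 2604.
-/

set_option autoImplicit false

namespace CfsgLib.SmallSimple

open CfsgLib.SmallOrder

theorem rangeExcluded_1957 :
    rangeExcluded 1957 216 [1344, 1512, 1680, 1800, 2448, 2520, 2700, 3360, 3420, 3600] = true :=
  rangeExcluded_of_rev (by decide +kernel)

theorem rangeExcluded_2173 :
    rangeExcluded 2173 216 [1344, 1512, 1680, 1800, 2448, 2520, 2700, 3360, 3420, 3600] = true :=
  rangeExcluded_of_rev (by decide +kernel)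

theorem rangeExcluded_2389 :
    rangeExcluded 2389 216 [1344, 1512, 1680, 1800, 2448, 2520, 2700, 3360, 3420, 3600] = true :=
  rangeExcluded_of_rev (by decide +kernel)

end CfsgLib.SmallSimple
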