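import Cfsg.Agent.Lib.SmallSimple.Common

/-!
Simple groups with Sylow `5`-subgroups of order `25` whose number is not `1` modulo `25`: an element of order `5`
with a large centraliser.
-/

set_option autoImplicit false

namespace CfsgLib.SmallSimple

open Subgroup MulAction CfsgLib.SmallOrder

/-- A group of order `150` has a normal Sylow `5`-subgroup. -/
theorem card_sylow_five_150 {C : Type*} [Group C] [Finite C] [Fact (Nat.Prime 5)] (hC : Nat.card C = 150) :
    Nat.card (Sylow 5 C) = 1 := by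
  have : Fact (Nat.Prime 2) := ⟨Nat.prime_two⟩
  obtain ⟨Q⟩ := (inferInstance : Nonempty (Sylow 2 C))
  obtain ⟨P⟩ := (inferInstance : Nonempty (Sylow 5 C))
  have hQ : Nat.card ↥(Q : Subgroup C) = 2 := by
    simpa using card_sylow_eq (e := 1) (m := 75) (by rw [hC]; norm_num) (by norm_num) Q
  have hP : Nat.card ↥(P : Subgroup C) = 25 := by
    simpa using card_sylow_eq (e := 2) (m := 6) (by rw [hC]; norm_num) (by norm_num) P
  have hQc : IsCyclic ↥(Q : Subgroup C) := isCyclic_of_prime_card hQ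
  have hmin : (Nat.card C).minFac = 2 := by rw [hC, Nat.minFac_eq_two_iff]; norm_num
  have hcomp := IsCyclic.isComplement' hmin (P := Q) hQc
  set K := (MonoidHom.transferSylow Q (hQc.normalizer_le_centralizer hmin)).ker
  have hKc : Nat.card K = 75 := by
    have h := hcomp.card_mul_card
    rw [hQ, hC] at h
    omega
  have hKi : K.index = 2 := by
    have h := K.card_mul_index
    rw [hKc, hC] at h
    omega
  have hPK : (P : Subgroup C) ≤ K := by
    intro u hu
    have h2 := mul_self_mem_of_index_two hKi u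
    have h25 : u ^ 25 = 1 := orderOf_dvd_iff_pow_eq_one.1 (hP ▸ orderOf_dvd_natCard _ hu)
    have : u = (u * u) ^ 13 := by
      rw [← pow_two, ← pow_mul, show 2 * 13 = 25 + 1 from rfl, pow_succ, h25, one_mul]
    rw [this]
    exact pow_mem h2 _
  set P' : Sylow 5 K := P.subtype hPK
  have hP' : Nat.card ↥(P' : Subgroup K) = 25 :=
    (Nat.card_congr (subgroupOfEquivOfLe hPK).toEquiv).trans hP
  have hnK : Nat.card (Sylow 5 K) = 1 := by
    have h1 := card_sylow_modEq_one 5 K
    have h3 := (P' : Subgroup K).card_mul_index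
    rw [hP', hKc] at h3
    have h2 : Nat.card (Sylow 5 K) ∣ 3 := by
      rw [show 3 = (P' : Subgroup K).index by omega]
      exact P'.card_dvd_index
    exact (by decide : ∀ n ∈ Nat.divisors 3, n % 5 = 1 → n = 1) _ (Nat.mem_divisors.2 ⟨h2, by norm_num⟩) h1
  have htop : normalizer ((P' : Subgroup K) : Set K) = ⊤ :=
    index_eq_one.1 (P'.card_eq_index_normalizer.symm.trans hnK)
  have h := le_normalizer_map (H := (P' : Subgroup K)) K.subtype
  rw [htop, ← MonoidHom.range_eq_map, K.range_subtype,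
    show (P' : Subgroup K).map K.subtype = P from map_subgroupOf_eq_of_le hPK] at h
  have hd : 75 ∣ Nat.card ↥(normalizer ((P : Subgroup C) : Set C)) := hKc ▸ card_dvd_of_le h
  have hm := card_normalizer_mul P
  rw [hC] at hm
  have h1 := card_sylow_modEq_one 5 C
  rw [Nat.ModEq] at h1
  obtain ⟨j, hj⟩ := hd
  rw [hj, mul_assoc] at hm
  have h2 : Nat.card (Sylow 5 C) ∣ 2 := ⟨j, by rw [mul_comm]; omega⟩
  rcases (Nat.dvd_prime Nat.prime_two).1 h2 with h2 | h2
  · exact h2
  · omega

variable {G : Type*} [Group G] [Finite G] [IsSimpleGroup G] [Fact (Nat.Prime 5)]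

/-- An element of order `5` in two Sylow `5`-subgroups, and the order of its centraliser. -/
theorem exists_five_centralizer {N m : ℕ} (hN : Nat.card G = N) (hm : N = 5 ^ 2 * m) (h5 : ¬ 5 ∣ m)
    (hm1 : 1 < m) (hn : ¬ Nat.card (Sylow 5 G) ≡ 1 [MOD 25]) :
    ∃ d : G, orderOf d = 5 ∧ 1 < Nat.card (Sylow 5 ↥(centralizer ({d} : Set G))) ∧
      ∃ j, Nat.card ↥(centralizer ({d} : Set G)) = 25 * j ∧ j ∣ m ∧
        10 * j ≤ m ∧ Nat.card (Sylow 5 ↥(centralizer ({d} : Set G))) ∣ j := by
  have hG : ¬ IsMulCommutative G := not_comm_of_not_prime (by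
    rw [hN, hm]; exact Nat.not_prime_mul (by norm_num) (by omega))
  have hS : ∀ R : Sylow 5 G, Nat.card ↥(R : Subgroup G) = 5 ^ 2 := fun R =>
    card_sylow_eq (hN.trans hm) h5 R
  obtain ⟨P, R, hPR, hidx⟩ := exists_sylow_pair (G := G) 5 2 hn
  have hc : Nat.card ↥((R : Subgroup G).subgroupOf (P : Subgroup G)) =
      Nat.card ↥((P : Subgroup G) ⊓ (R : Subgroup G)) := by
    rw [← Subgroup.inf_subgroupOf_left]
    exact Nat.card_congr (Subgroup.subgroupOfEquivOfLe inf_le_left).toEquiv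
  have h25 := ((R : Subgroup G).subgroupOf (P : Subgroup G)).card_mul_index
  rw [hc, hS P] at h25
  have hD : 5 ∣ Nat.card ↥((P : Subgroup G) ⊓ (R : Subgroup G)) := by
    obtain ⟨i, -, hi⟩ := (Nat.dvd_prime_pow (by norm_num : Nat.Prime 5)).1 ⟨_, h25.symm⟩
    rcases i with _ | i
    · rw [hi] at h25
      simp only [show (2 - 1) = 1 from rfl] at hidx
      omega
    · exact hi ▸ dvd_pow_self 5 (by omega)
  obtain ⟨⟨d, hd⟩, hdo⟩ := exists_prime_orderOf_dvd_card' 5 hD
  rw [Subgroup.orderOf_mk] at hdo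
  have hd' := Subgroup.mem_inf.1 hd
  set C := centralizer ({d} : Set G) with hC
  have hle : ∀ U : Sylow 5 G, d ∈ (U : Subgroup G) → (U : Subgroup G) ≤ C := fun U hdU x hx =>
    mem_centralizer_singleton_iff.2 (congrArg Subtype.val
      ((isMulCommutative_of_card_eq_prime_or_sq U (Or.inr (hS U))).is_comm.comm ⟨x, hx⟩ ⟨d, hdU⟩))
  have hn1 : 1 < Nat.card (Sylow 5 C) := by
    have : Nontrivial {U : Sylow 5 G // (U : Subgroup G) ≤ C} :=
      ⟨⟨⟨P, hle P hd'.1⟩, ⟨R, hle R hd'.2⟩, fun h => hPR (congrArg Subtype.val h)⟩⟩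
    rw [← card_sylow_le P (hle P hd'.1)]
    exact Finite.one_lt_card
  obtain ⟨j, hj⟩ : 5 ^ 2 ∣ Nat.card C := hS P ▸ card_dvd_of_le (hle P hd'.1)
  have hmul := C.card_mul_index
  rw [hj, hN, hm, mul_assoc] at hmul
  have hjm : j * C.index = m := Nat.eq_of_mul_eq_mul_left (by norm_num) hmul
  have hne : C ≠ ⊤ := fun h => by
    have hmem : d ∈ Subgroup.center G := mem_center_iff.2 fun x =>
      (mem_centralizer_singleton_iff.1 (h ▸ mem_top x : x ∈ C))
    rw [center_eq_bot_of_not_comm hG, mem_bot] at hmem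
    rw [hmem, orderOf_one] at hdo
    omega
  have h10 : 10 ≤ C.index := by
    by_contra hlt
    have hf : 2 * Nat.card G ∣ (9 : ℕ).factorial :=
      (two_mul_card_dvd_factorial hG hne).trans (Nat.factorial_dvd_factorial (by omega))
    have h' : 5 ^ 2 ∣ (9 : ℕ).factorial :=
      ((hm ▸ dvd_mul_right (5 ^ 2) m : 5 ^ 2 ∣ N).trans (hN ▸ dvd_mul_left _ _)).trans hf
    norm_num [Nat.factorial] at h'
  refine ⟨d, hdo, hn1, j, by rw [hj]; norm_num, ⟨C.index, hjm.symm⟩, ?_, ?_⟩
  · rw [← hjm, mul_comm 10]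
    exact Nat.mul_le_mul_left j h10
  · have h := (P.subtype (hle P hd'.1) : Sylow 5 C).card_dvd_index
    have h' := ((P.subtype (hle P hd'.1) : Sylow 5 C) : Subgroup C).card_mul_index
    rw [show Nat.card ↥((P.subtype (hle P hd'.1) : Sylow 5 C) : Subgroup C) = 5 ^ 2 from
      (Nat.card_congr (subgroupOfEquivOfLe (hle P hd'.1)).toEquiv).trans (hS P), hj] at h'
    rwa [Nat.eq_of_mul_eq_mul_left (by norm_num) h'] at h

end CfsgLib.SmallSimple
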